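import Cfsg.Agent.Lib.Helper1.BG1212ABS

/-!
Ladder BG1212 (S1421 = B-G 12.12), rung ABA0: the first conclusion in the abelian case, with
`A₀ = C_E(E')`.
-/

set_option autoImplicit false

namespace Cfsg.Agent.Lib.Helper1.BG1212

open Subgroup Cfsg.Agent.Lib.Helper30 Cfsg.Agent.Lib.Helper58.BG1212
open scoped commutatorElement

universe u

variable {G : Type u} [Group G]

/-- ABA0. -/
theorem conclA_ab [Finite G] (hG : Cfsg.IsMinSimpleOddOrder G) {M E : Subgroup G}
    (hM : IsCoatom M) (hE : Cfsg.IsComplIn E (Cfsg.sigmaCore M) M) (h : Hyp M E)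
    (hab : AbTau2 M) : ConclA M E := by
  refine ⟨E ⊓ centralizer ((⁅E, E⁆ : Subgroup G) : Set G), inf_le_left, ?_, ?_, ?_⟩
  · apply le_normalizer_inf le_normalizer
    have h1 : E ≤ normalizer ((⁅E, E⁆ : Subgroup G) : Set G) :=
      le_normalizer_commutator le_normalizer le_normalizer
    intro e he
    apply mem_normalizer_of_cj_eq
    rw [← centralizer_cj, cj_eq_of_mem_normalizer (h1 he)]
  · apply (Cfsg.Agent.S1420.result hG M hM E hE).1 _ (inf_le_left.trans hE.1)
    · rw [isNilpotent_iff_lowerCentralSeries]
      refine ⟨2, ?_⟩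
      rw [Subgroup.lowerCentralSeries_succ, Subgroup.lowerCentralSeries_succ,
        Subgroup.lowerCentralSeries_zero,
        commutator_eq_bot_iff_le_centralizer]
      exact (commutator_mono inf_le_left inf_le_left).trans (le_centralizer_iff.mp inf_le_right)
    · intro q hq hqd
      exact Cfsg.Agent.Lib.Helper28.BG12.not_mem_sigma_of_dvd_compl hG hM hE hq
        (hqd.trans (card_dvd_of_le inf_le_left))
  · intro x hx hx1 e he
    obtain ⟨heE, hex⟩ := mem_inf.mp he
    refine mem_inf.mpr ⟨heE, ?_⟩
    have hz : zpowers e ≤ centralizer ((⁅E, E⁆ : Subgroup G) : Set G) := by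
      apply Cfsg.Agent.Lib.Helper68.le_of_forall_isSylowIn
      intro r _ hrd
      have hrp : r.Prime := Fact.out
      obtain ⟨R, hR⟩ := Cfsg.Agent.Lib.Helper30.exists_isSylowIn r (zpowers e)
      refine ⟨R, hR, ?_⟩
      have hzE : zpowers e ≤ E := zpowers_le.mpr heE
      have hrE : r ∣ Nat.card E := hrd.trans (card_dvd_of_le hzE)
      have hrσ : r ∉ Cfsg.sigma M :=
        Cfsg.Agent.Lib.Helper28.BG12.not_mem_sigma_of_dvd_compl hG hM hE hrp hrE
      have hrτ : r ∈ Cfsg.tau2 M := by
        rcases Cfsg.Agent.Lib.Helper58.BG13.tau_cases hG hM hrp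
          (hrE.trans (card_dvd_of_le hE.1)) hrσ with h1 | h2 | h3
        · exfalso
          rw [Nat.card_zpowers] at hrd
          have ho : orderOf (e ^ (orderOf e / r)) = r :=
            orderOf_pow_orderOf_div (orderOf_pos e).ne' hrd
          have hb := h (e ^ (orderOf e / r)) (pow_mem heE _)
            (fun h0 => by rw [h0, orderOf_one] at ho; exact hrp.one_lt.ne ho)
            (fun q hq hqd => by
              rw [ho] at hqd
              rw [(Nat.prime_dvd_prime_iff_eq hq hrp).mp hqd]
              exact Or.inl h1)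
          apply hx1
          rw [← mem_bot, ← hb]
          refine mem_inf.mpr ⟨hx, ?_⟩
          rw [mem_centralizer_singleton_iff]
          have hc : Commute e x := mem_centralizer_singleton_iff.mp hex
          exact (hc.pow_left _).eq.symm
        · exact h2
        · exfalso
          rw [Nat.card_zpowers] at hrd
          have ho : orderOf (e ^ (orderOf e / r)) = r :=
            orderOf_pow_orderOf_div (orderOf_pos e).ne' hrd
          have hb := h (e ^ (orderOf e / r)) (pow_mem heE _)
            (fun h0 => by rw [h0, orderOf_one] at ho; exact hrp.one_lt.ne ho)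
            (fun q hq hqd => by
              rw [ho] at hqd
              rw [(Nat.prime_dvd_prime_iff_eq hq hrp).mp hqd]
              exact Or.inr h3)
          apply hx1
          rw [← mem_bot, ← hb]
          refine mem_inf.mpr ⟨hx, ?_⟩
          rw [mem_centralizer_singleton_iff]
          have hc : Commute e x := mem_centralizer_singleton_iff.mp hex
          exact (hc.pow_left _).eq.symm
      exact le_centralizer_comm hG hM hE hab hrτ hR.isPGroup (hR.le.trans hzE)
    exact hz (mem_zpowers e)

end Cfsg.Agent.Lib.Helper1.BG1212
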