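import Cfsg.Agent.Lib.Helper58.BG1212Defs
import Cfsg.Agent.Lib.Helper3.RankTwoAut

/-!
Ladder BG1212 (S1421 = B-G 12.12), rung ABN: if the `p`-subgroups of `G` are abelian and `A` is
elementary abelian of order `p ^ 2` then `N(A)' ≤ C(A)`.
-/

set_option autoImplicit false

namespace Cfsg.Agent.Lib.Helper1.BG1212

open Subgroup Cfsg.Agent.Lib.Helper30 Cfsg.Agent.Lib.Helper58.BG1212

universe u

variable {G : Type u} [Group G]

theorem abn_isPGroup_sup [Finite G] {p : ℕ} [Fact p.Prime] {X Y : Subgroup G} (hX : IsPGroup p X)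
    (hY : IsPGroup p Y) (hn : Y ≤ normalizer (X : Set G)) : IsPGroup p (X ⊔ Y : Subgroup G) := by
  obtain ⟨a, ha⟩ := IsPGroup.iff_card.mp hX
  obtain ⟨b, hb⟩ := IsPGroup.iff_card.mp hY
  have h1 := Cfsg.Agent.Lib.Helper27.card_sup_dvd_mul hn
  rw [ha, hb, ← pow_add] at h1
  obtain ⟨k, -, hk⟩ := (Nat.dvd_prime_pow Fact.out).mp h1
  exact IsPGroup.of_card hk

/-- the `p'`-part of the order kills the action of `h ∈ N(A)` on `A`. -/
theorem abn_pow_mem_centralizer [Finite G] {p : ℕ} [Fact p.Prime] (hab : AbP G p) {A : Subgroup G}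
    (hA : IsPGroup p A) {h : G} (hh : h ∈ normalizer (A : Set G)) {k n : ℕ}
    (e : orderOf h = p ^ k * n) : h ^ n ∈ centralizer (A : Set G) := by
  have h1 : IsPGroup p (zpowers (h ^ n)) := by
    rintro ⟨y, hy⟩
    obtain ⟨i, rfl⟩ := mem_zpowers_iff.mp hy
    refine ⟨k, Subtype.ext ?_⟩
    show ((h ^ n) ^ i) ^ p ^ k = 1
    rw [← zpow_natCast, ← zpow_mul, mul_comm, zpow_mul, zpow_natCast, ← pow_mul, mul_comm, ← e,
      pow_orderOf_eq_one, one_zpow]
  have h2 : zpowers (h ^ n) ≤ normalizer (A : Set G) := by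
    rw [zpowers_le]
    exact pow_mem hh n
  have h3 := abn_isPGroup_sup hA h1 h2
  rw [mem_centralizer_iff]
  intro a ha
  exact hab _ h3 a (le_sup_left (a := A) ha) (h ^ n)
    (le_sup_right (a := A) (mem_zpowers (h ^ n)))

/-- ABN. -/
theorem comm_normalizer_le [Finite G] (hG : Cfsg.IsMinSimpleOddOrder G) {p : ℕ} [Fact p.Prime]
    (hab : AbP G p) {A : Subgroup G} (hA : Cfsg.IsElementaryAbelian p A)
    (hA2 : Nat.card A = p ^ 2) :
    ⁅normalizer (A : Set G), normalizer (A : Set G)⁆ ≤ centralizer (A : Set G) := by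
  have hpp : p.Prime := Fact.out
  have hAp : IsPGroup p A := Cfsg.Agent.Lib.Helper2.ea_isPGroup hA
  have hA1 : A ≠ ⊥ := by
    intro h
    rw [h, card_bot] at hA2
    exact absurd hA2.symm (Nat.one_lt_pow (by norm_num) hpp.one_lt).ne'
  have hAtop : A ≠ ⊤ := Cfsg.Agent.Lib.Helper68.isPGroup_ne_top hG hAp
  have hsolv : Group.IsSolvable (normalizer (A : Set G)) :=
    solvable_of_ne_top hG (normalizer_ne_top hG hA1 hAtop)
  have hodd : Odd (Nat.card (normalizer (A : Set G))) :=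
    hG.1.of_dvd_nat (card_subgroup_dvd_card _)
  have hp2 : p ≠ 2 := by
    rintro rfl
    have h1 : 2 ∣ Nat.card G :=
      (Dvd.intro_left 2 (by rw [hA2]; norm_num)).trans (card_subgroup_dvd_card A)
    exact (Nat.not_even_iff_odd.mpr hG.1) (even_iff_two_dvd.mpr h1)
  have hrk : Cfsg.PRankLE p 2 A := fun B _ _ => by
    rw [← hA2]
    exact card_le_card_group B
  have key := Cfsg.Agent.Lib.Helper3.commutator_act_trivial_of_rank_two hp2 hAp hrk hodd
    A.normalizerMonoidHom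
  rw [← map_subtype_commutator]
  rintro _ ⟨h, hh, rfl⟩
  obtain ⟨k, n, hn, e⟩ := Nat.exists_eq_pow_mul_and_not_dvd (orderOf_pos (h : G)).ne' p hpp.ne_one
  have h1 := abn_pow_mem_centralizer hab hAp h.2 e
  have h2 : A.normalizerMonoidHom (h ^ n) = 1 := by
    ext u
    have := mem_centralizer_iff.mp h1 u u.2
    show ((h ^ n : normalizer (A : Set G)) : G) * (u : G) *
      ((h ^ n : normalizer (A : Set G)) : G)⁻¹ = (u : G)
    rw [Subgroup.coe_pow, ← this, mul_inv_cancel_right]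
  rw [map_pow] at h2
  have h3 : (orderOf (A.normalizerMonoidHom h)).Coprime p :=
    (((Nat.Prime.coprime_iff_not_dvd hpp).mpr hn).symm).coprime_dvd_left
      (orderOf_dvd_of_pow_eq_one h2)
  have h4 := key h hh h3
  rw [mem_centralizer_iff]
  intro a ha
  have h5 := congrArg Subtype.val (DFunLike.congr_fun h4 (⟨a, ha⟩ : A))
  have h6 : (h : G) * a * (h : G)⁻¹ = a := h5
  show a * (h : G) = (h : G) * a
  calc a * (h : G) = ((h : G) * a * (h : G)⁻¹) * (h : G) := by rw [h6]
    _ = (h : G) * a := by group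

end Cfsg.Agent.Lib.Helper1.BG1212
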