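import Cfsg.Agent.Lib.Helper1.BG1212ABN
import Cfsg.Agent.Lib.Helper40.BG15a

/-!
Ladder BG1212 (S1421 = B-G 12.12), rung ABS: in the abelian case the `p`-subgroups of `E`,
`p ∈ τ₂(M)`, centralize `E'`.
-/

set_option autoImplicit false

namespace Cfsg.Agent.Lib.Helper1.BG1212

open Subgroup Cfsg.Agent.Lib.Helper30 Cfsg.Agent.Lib.Helper58.BG1212
open scoped commutatorElement

universe u

variable {G : Type u} [Group G]

theorem abs_mem_of_pow {E A : Subgroup G} {t : ℕ} [Fact t.Prime]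
    (h : ∀ X : Subgroup G, X ≤ E → Nat.card X = t → X ≤ A) {x : G} (hx : x ∈ E)
    (hxt : x ^ t = 1) : x ∈ A := by
  by_cases h1 : x = 1
  · rw [h1]; exact one_mem A
  · have h2 : orderOf x = t := orderOf_eq_prime hxt h1
    exact h (zpowers x) (zpowers_le.mpr hx) (by rw [Nat.card_zpowers, h2]) (mem_zpowers x)

/-- a Sylow subgroup of an abelian group `B` is normalized by `N(B)`. -/
theorem abs_le_normalizer_sylow [Finite G] {t : ℕ} [Fact t.Prime] {B D L : Subgroup G}
    (hBc : ∀ a ∈ B, ∀ b ∈ B, a * b = b * a) (hD : Cfsg.Agent.Lib.Helper30.IsSylowIn t D B)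
    (hL : L ≤ normalizer (B : Set G)) : L ≤ normalizer (D : Set G) := by
  have hcj : ∀ u ∈ B, cj u D = D := by
    intro u hu
    ext x
    rw [mem_cj]
    constructor
    · intro hx
      have hxU : x ∈ B := by
        have h1 : u * (u⁻¹ * x * u) * u⁻¹ ∈ B := mul_mem (mul_mem hu (hD.le hx)) (inv_mem hu)
        have h2 : u * (u⁻¹ * x * u) * u⁻¹ = x := by group
        rwa [h2] at h1
      have h3 : u⁻¹ * x * u = x := by
        rw [mul_assoc, hBc x hxU u hu, ← mul_assoc, inv_mul_cancel, one_mul]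
      rwa [h3] at hx
    · intro hx
      have h3 : u⁻¹ * x * u = x := by
        rw [mul_assoc, hBc x (hD.le hx) u hu, ← mul_assoc, inv_mul_cancel, one_mul]
      rwa [h3]
  intro k hk
  apply mem_normalizer_of_cj_eq
  have h1 : Cfsg.Agent.Lib.Helper30.IsSylowIn t (cj k D) B := by
    have := hD.cj k
    rwa [cj_eq_of_mem_normalizer (hL hk)] at this
  obtain ⟨u, hu, e⟩ := hD.conj h1
  rw [e, hcj u hu]

/-- ABS. -/
theorem le_centralizer_comm [Finite G] (hG : Cfsg.IsMinSimpleOddOrder G) {M E : Subgroup G}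
    (hM : IsCoatom M) (hE : Cfsg.IsComplIn E (Cfsg.sigmaCore M) M) (hab : AbTau2 M) {p : ℕ}
    [Fact p.Prime] (hp : p ∈ Cfsg.tau2 M) {P : Subgroup G} (hP : IsPGroup p P) (hPE : P ≤ E) :
    P ≤ centralizer ((⁅E, E⁆ : Subgroup G) : Set G) := by
  have hpp : p.Prime := Fact.out
  obtain ⟨A, hAE, hA, hA2⟩ := Cfsg.Agent.Lib.Helper28.BG12.exists_ea_sq_in_compl hG hM hE hp
  obtain ⟨⟨hEA, hord⟩, ⟨hCA, hMN, -⟩, -⟩ :=
    Cfsg.Agent.S1418.result hG M hM E hE p hp A ⟨hAE, hA, hA2⟩
  have hCAE : centralizer (A : Set G) ≤ E := hMN ▸ hCA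
  have hAp : IsPGroup p A := Cfsg.Agent.Lib.Helper2.ea_isPGroup hA
  obtain ⟨S, hS⟩ := (abn_isPGroup_sup hAp hP (hPE.trans hEA)).exists_le_sylow
  have hAS : A ≤ (S : Subgroup G) := le_sup_left.trans hS
  have hPS : P ≤ (S : Subgroup G) := le_sup_right.trans hS
  have hSc : ∀ a ∈ (S : Subgroup G), ∀ b ∈ (S : Subgroup G), a * b = b * a := hab p hp _ S.2
  have hSCA : (S : Subgroup G) ≤ centralizer (A : Set G) := by
    intro s hs
    rw [mem_centralizer_iff]
    intro a ha
    exact hSc a (hAS ha) s hs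
  have hSE : (S : Subgroup G) ≤ E := hSCA.trans hCAE
  have hom : ∀ x ∈ (S : Subgroup G), x ^ p = 1 ↔ x ∈ A := fun x hx =>
    ⟨fun h => abs_mem_of_pow hord (hSE hx) h, fun h => hA.2 x h⟩
  have hNSA : normalizer ((S : Subgroup G) : Set G) ≤ normalizer (A : Set G) :=
    Cfsg.Agent.Lib.Helper40.BG15.normalizer_le_of_omega hAS hom
  obtain ⟨V, hV, -⟩ := Cfsg.Agent.Lib.Helper68.exists_isComplIn_normalizer S
  have hSN' : (S : Subgroup G) ≤ ⁅normalizer (A : Set G), normalizer (A : Set G)⁆ :=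
    (Cfsg.Agent.S1411.result hG p S V hV).2.trans (commutator_mono hNSA hNSA)
  have hN'C := comm_normalizer_le hG (hab p hp) hA hA2
  -- `N(A)` normalizes `E`
  have hNE : normalizer (A : Set G) ≤ normalizer (E : Set G) := by
    have key : ∀ n ∈ normalizer (A : Set G), ∀ e ∈ E, n * e * n⁻¹ ∈ E := by
      intro n hn e he
      have h1 : ⁅n, e⁆ ∈ E := hCAE (hN'C (commutator_mem_commutator hn (hEA he)))
      have h2 : n * e * n⁻¹ = ⁅n, e⁆ * e := by
        rw [commutatorElement_def]; group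
      rw [h2]
      exact mul_mem h1 he
    intro n hn
    rw [mem_normalizer_iff]
    intro e
    refine ⟨key n hn e, fun h => ?_⟩
    have h1 := key n⁻¹ (inv_mem hn) _ h
    have h2 : n⁻¹ * (n * e * n⁻¹) * n⁻¹⁻¹ = e := by group
    rwa [h2] at h1
  have hNE' : normalizer (A : Set G) ≤ normalizer ((⁅E, E⁆ : Subgroup G) : Set G) :=
    le_normalizer_commutator hNE hNE
  have hE'c : IsMulCommutative ↥⁅E, E⁆ := (Cfsg.Agent.S1420.result hG M hM E hE).2.1
  have hE'cc : ∀ a ∈ ⁅E, E⁆, ∀ b ∈ ⁅E, E⁆, a * b = b * a := fun a ha b hb =>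
    Cfsg.Agent.Lib.Helper28.BG12.comm_of_isMulCommutative hE'c ha hb
  have hE'E : ⁅E, E⁆ ≤ E := commutator_le_of_le_normalizer le_normalizer
  have hmain : ⁅E, E⁆ ≤ centralizer ((S : Subgroup G) : Set G) := by
    apply Cfsg.Agent.Lib.Helper68.le_of_forall_isSylowIn
    intro t _ htd
    have htp : t.Prime := Fact.out
    obtain ⟨D, hD⟩ := Cfsg.Agent.Lib.Helper30.exists_isSylowIn t ⁅E, E⁆
    refine ⟨D, hD, ?_⟩
    have hND : normalizer (A : Set G) ≤ normalizer (D : Set G) :=
      abs_le_normalizer_sylow hE'cc hD hNE'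
    have hSD : (S : Subgroup G) ≤ normalizer (D : Set G) := (hSE.trans hEA).trans hND
    rw [le_centralizer_iff]
    by_cases htp' : t = p
    · subst htp'
      have h1 := abn_isPGroup_sup hD.isPGroup S.2 hSD
      intro s hs
      rw [mem_centralizer_iff]
      intro d hd
      exact hab t hp _ h1 d (le_sup_left (a := D) hd) s (le_sup_right (a := D) hs)
    by_cases hcyc : IsCyclic D
    · exact hSN'.trans (Cfsg.Agent.Lib.Helper58.BG13.comm_le_centralizer_of_isCyclic hcyc hND)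
    · have hD1 : D ≠ ⊥ := by
        intro h
        apply hcyc
        rw [h]
        infer_instance
      have ht2 : t ≠ 2 := Cfsg.Agent.Lib.Helper28.BG12.ne_two_of_isPGroup hG hD.isPGroup hD1
      obtain ⟨B, hBD, hB, hB2⟩ :=
        Cfsg.Agent.Lib.Helper28.BG12.exists_ea_sq_of_not_cyclic ht2 hD.isPGroup hcyc
      have hBE : B ≤ E := hBD.trans (hD.le.trans hE'E)
      have htE : t ∣ Nat.card E := htd.trans (card_dvd_of_le hE'E)
      have htσ : t ∉ Cfsg.sigma M :=
        Cfsg.Agent.Lib.Helper28.BG12.not_mem_sigma_of_dvd_compl hG hM hE htp htE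
      have htτ : t ∈ Cfsg.tau2 M := by
        refine ⟨htp, htσ, Cfsg.Agent.Lib.Helper28.BG12.pRankLE_two_of_not_mem_sigma hG hM htp htσ,
          ?_⟩
        apply Cfsg.Agent.Lib.Helper2.not_pRankLE_of_elementary (hBE.trans hE.1) hB
        rw [hB2]
        exact Nat.pow_lt_pow_right htp.one_lt (by norm_num)
      obtain ⟨⟨-, hordt⟩, -, -⟩ := Cfsg.Agent.S1418.result hG M hM E hE t htτ B ⟨hBE, hB, hB2⟩
      have hNB : normalizer (A : Set G) ≤ normalizer (B : Set G) := by
        have key : ∀ n ∈ normalizer (A : Set G), ∀ b ∈ B, n * b * n⁻¹ ∈ B := by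
          intro n hn b hb
          apply abs_mem_of_pow hordt ((mem_normalizer_iff.mp (hNE hn) b).mp (hBE hb))
          rw [conj_pow, hB.2 b hb]
          group
        intro n hn
        rw [mem_normalizer_iff]
        intro e
        refine ⟨key n hn e, fun h => ?_⟩
        have h1 := key n⁻¹ (inv_mem hn) _ h
        have h2 : n⁻¹ * (n * e * n⁻¹) * n⁻¹⁻¹ = e := by group
        rwa [h2] at h1
      have hSB : (S : Subgroup G) ≤ centralizer (B : Set G) :=
        hSN'.trans ((commutator_mono hNB hNB).trans (comm_normalizer_le hG (hab t htτ) hB hB2))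
      have hcop : (Nat.card (S : Subgroup G)).Coprime t := by
        obtain ⟨k, hk⟩ := IsPGroup.iff_card.mp S.2
        rw [hk]
        exact Nat.Coprime.pow_left k ((Nat.coprime_primes hpp htp).mpr (Ne.symm htp'))
      apply Cfsg.Agent.Lib.Helper58.BG13.le_centralizer_of_omega ht2 hD.isPGroup hSD hcop
      intro y hy hyt x hx
      have hyB : y ∈ B := abs_mem_of_pow hordt (hE'E (hD.le hy)) hyt
      exact (mem_centralizer_iff.mp (hSB hx) y hyB).symm
  exact hPS.trans (le_centralizer_iff.mp hmain)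

end Cfsg.Agent.Lib.Helper1.BG1212
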