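import Cfsg.Agent.Lib.Helper1.BG1212ABS

/-!
Ladder BG1212 (S1421 = B-G 12.12), rung NORM: in the abelian case the Sylow `p`-subgroups of `E`,
`p ∈ τ₂(M)`, are normal in `E`.
-/

set_option autoImplicit false

namespace Cfsg.Agent.Lib.Helper1.BG1212

open Subgroup Cfsg.Agent.Lib.Helper30 Cfsg.Agent.Lib.Helper58.BG1212
open scoped commutatorElement

universe u

variable {G : Type u} [Group G]

/-- NORM. -/
theorem sylow_normal [Finite G] (hG : Cfsg.IsMinSimpleOddOrder G) {M E : Subgroup G}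
    (hM : IsCoatom M) (hE : Cfsg.IsComplIn E (Cfsg.sigmaCore M) M) (hab : AbTau2 M) {p : ℕ}
    [Fact p.Prime] (hp : p ∈ Cfsg.tau2 M) {S : Subgroup G}
    (hS : Cfsg.Agent.Lib.Helper30.IsSylowIn p S E) : E ≤ normalizer (S : Set G) := by
  have hSC := le_centralizer_comm hG hM hE hab hp hS.isPGroup hS.le
  have hSc : ∀ a ∈ S, ∀ b ∈ S, a * b = b * a := hab p hp S hS.isPGroup
  intro e he
  apply Cfsg.Agent.Lib.Helper28.BG12.mem_normalizer_of_cj_le'
  have h1 : cj e S ≤ centralizer (S : Set G) := by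
    rintro _ ⟨s, hs, rfl⟩
    show e * s * e⁻¹ ∈ centralizer (S : Set G)
    have h2 : e * s * e⁻¹ = ⁅e, s⁆ * s := by
      rw [commutatorElement_def]; group
    rw [h2, mem_centralizer_iff]
    intro x hx
    have h3 : ⁅e, s⁆ * x = x * ⁅e, s⁆ :=
      mem_centralizer_iff.mp (hSC hx) _ (commutator_mem_commutator he (hS.le hs))
    calc x * (⁅e, s⁆ * s) = (x * ⁅e, s⁆) * s := by rw [mul_assoc]
      _ = ⁅e, s⁆ * (x * s) := by rw [← h3, mul_assoc]
      _ = ⁅e, s⁆ * s * x := by rw [hSc x hx s hs, mul_assoc]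
  have h4 : cj e S ≤ E := by
    have := cj_mono e hS.le
    rwa [cj_eq_of_mem he] at this
  have h5 : IsPGroup p (S ⊔ cj e S : Subgroup G) :=
    abn_isPGroup_sup hS.isPGroup (isPGroup_cj e hS.isPGroup)
      (h1.trans (centralizer_le_normalizer' S))
  have h6 := hS.eq_of_le (sup_le hS.le h4) h5 le_sup_left
  exact le_sup_right.trans h6.le

end Cfsg.Agent.Lib.Helper1.BG1212
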