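import Cfsg.Agent.Lib.Helper1.TFpf2
import Cfsg.Agent.Lib.Helper1.Cores
import Cfsg.Agent.Lib.Helper1.Coprime
import Cfsg.Agent.Lib.Helper15.ZJBridge
import Cfsg.Agent.Lib.Helper40.PComp
import Cfsg.Agent.Lib.Helper58.NormalComplement

set_option autoImplicit false

/-! Thompson's theorem on fixed-point-free automorphisms of prime order, relative to the
Glauberman--Thompson normal `p`-complement theorem. -/

namespace Cfsg.Agent.Lib.Helper1

open MonoidHom
open scoped Pointwise

universe u

theorem hasNormalPComplement_of_isNilpotent {G : Type*} [Group G] [Finite G]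
    [Group.IsNilpotent G] (q : ℕ) [hq : Fact q.Prime] : Cfsg.HasNormalPComplement q G := by
  have hK : (Cfsg.pPrimeCore q G).Normal := pPrimeCore_normal q G
  have hidx : (Cfsg.pPrimeCore q G).index = q ^ (Cfsg.pPrimeCore q G).index.primeFactorsList.length := by
    apply Nat.eq_prime_pow_of_unique_prime_dvd Subgroup.index_ne_zero_of_finite
    intro r hr hrd
    by_contra hne
    have := Fact.mk hr
    obtain ⟨R⟩ : Nonempty (Sylow r G) := inferInstance
    have hRle : (R : Subgroup G) ≤ Cfsg.pPrimeCore q G := by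
      apply le_pPrimeCore inferInstance
      obtain ⟨k, hk⟩ := R.isPGroup'.exists_card_eq
      rw [hk]
      exact Nat.Coprime.pow_left k ((Nat.coprime_primes hr hq.out).mpr hne)
    exact R.not_dvd_index (hrd.trans (Subgroup.index_dvd_of_le hRle))
  exact Helper58.hasNormalPComplement_of_card _ _ hidx (pPrimeCore_coprime q G)

/-- a nontrivial soluble group has a nontrivial normal abelian subgroup of prime exponent which is
invariant under a given endomorphism -/
theorem exists_invariant_abelian {G : Type*} [Group G] [Finite G] [hs : Group.IsSolvable G]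
    [Nontrivial G] (φ : G →* G) :
    ∃ (q : ℕ) (_ : q.Prime) (N : Subgroup G), N.Normal ∧ N ≠ ⊥ ∧ HInv φ N ∧
      (∀ x ∈ N, ∀ y ∈ N, x * y = y * x) ∧ (∀ x ∈ N, x ^ q = 1) := by
  classical
  have hex := hs.solvable
  have h0 : Nat.find hex ≠ 0 := by
    intro h
    have := Nat.find_spec hex
    rw [h, derivedSeries_zero] at this
    exact top_ne_bot this
  obtain ⟨m, hm⟩ := Nat.exists_eq_succ_of_ne_zero h0
  set D := derivedSeries G m with hD
  have hD1 : D ≠ ⊥ := Nat.find_min hex (by omega)
  have hD2 : ⁅D, D⁆ = ⊥ := by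
    have := Nat.find_spec hex
    rwa [hm] at this
  have hDn : D.Normal := derivedSeries_normal G m
  have hDab : ∀ x ∈ D, ∀ y ∈ D, x * y = y * x := by
    rw [Subgroup.commutator_eq_bot_iff_le_centralizer] at hD2
    intro x hx y hy
    exact (Subgroup.mem_centralizer_iff.mp (hD2 hy) x hx)
  have hDc : Nat.card D ≠ 1 := fun h => hD1 (Subgroup.card_eq_one.mp h)
  obtain ⟨q, hq, hqD⟩ := Nat.exists_prime_and_dvd hDc
  have := Fact.mk hq
  let N : Subgroup G :=
    { carrier := {x | x ∈ D ∧ x ^ q = 1}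
      one_mem' := ⟨D.one_mem, one_pow q⟩
      mul_mem' := by
        rintro a b ⟨ha, ha'⟩ ⟨hb, hb'⟩
        refine ⟨D.mul_mem ha hb, ?_⟩
        rw [(show Commute a b from hDab a ha b hb).mul_pow, ha', hb', one_mul]
      inv_mem' := by
        rintro a ⟨ha, ha'⟩
        exact ⟨D.inv_mem ha, by rw [inv_pow, ha', inv_one]⟩ }
  have hNmem : ∀ x, x ∈ N ↔ x ∈ D ∧ x ^ q = 1 := fun _ => Iff.rfl
  refine ⟨q, hq, N, ⟨?_⟩, ?_, ?_, ?_, ?_⟩
  · intro x hx g
    rw [hNmem] at hx ⊢
    exact ⟨hDn.conj_mem x hx.1 g, by rw [conj_pow, hx.2, mul_one, mul_inv_cancel]⟩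
  · obtain ⟨x, hx⟩ := exists_prime_orderOf_dvd_card' (G := D) q hqD
    intro hbot
    have h1 : (x : G) ∈ N := by
      rw [hNmem]
      refine ⟨x.2, ?_⟩
      have := pow_orderOf_eq_one x
      rw [hx] at this
      exact congrArg Subtype.val this
    rw [hbot, Subgroup.mem_bot] at h1
    have h2 : x = 1 := Subtype.ext h1
    rw [h2, orderOf_one] at hx
    exact hq.one_lt.ne hx
  · intro x hx
    rw [hNmem] at hx ⊢
    exact ⟨map_derivedSeries_le_derivedSeries φ m (Subgroup.mem_map_of_mem φ hx.1),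
      by rw [← map_pow, hx.2, map_one]⟩
  · intro x hx y hy
    exact hDab x hx.1 y hy.1
  · intro x hx
    exact hx.2

theorem nilpotent_of_solvable_step {G : Type*} [Group G] [Finite G] {φ : G →* G}
    (hφ : FixedPointFree φ) {p : ℕ} (hp : p.Prime) (hpow : φ^[p] = _root_.id)
    [Group.IsSolvable G]
    (IH : ∀ (N : Subgroup G) [N.Normal] (_ : HInv φ N), N ≠ ⊥ → Group.IsNilpotent (G ⧸ N)) :
    Group.IsNilpotent G := by
  have hinj := injective_of_iterate hp.pos hpow
  rcases subsingleton_or_nontrivial G with hsub | hnt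
  · infer_instance
  obtain ⟨q, hq, N, hNn, hN1, hNinv, hNab, hNq⟩ := exists_invariant_abelian φ
  have hquot : Group.IsNilpotent (G ⧸ N) := IH N hNinv hN1
  have := Fact.mk hq
  have hNp : IsPGroup q N := fun x => ⟨1, by
    rw [pow_one]; exact Subtype.ext (hNq x x.2)⟩
  apply ((Group.isNilpotent_of_finite_tfae (G := G)).out 0 3).mpr
  intro r hr S
  obtain ⟨R, hR⟩ := exists_invariant_sylow hφ hinj r
  suffices h : (R : Subgroup G).Normal by
    obtain ⟨g, rfl⟩ := MulAction.exists_smul_eq G R S
    rw [Sylow.smul_eq_of_normal]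
    exact h
  have hRN : ((R : Subgroup G) ⊔ N : Subgroup G).Normal := by
    have h1 : ((R : Subgroup G).map (QuotientGroup.mk' N)).Normal := by
      have h0 : ((R.mapSurjective (QuotientGroup.mk'_surjective N) : Sylow r (G ⧸ N)) :
        Subgroup (G ⧸ N)).Normal := inferInstance
      exact h0
    have h2 : ((R : Subgroup G).map (QuotientGroup.mk' N)).comap (QuotientGroup.mk' N)
        = (R : Subgroup G) ⊔ N := by
      rw [Subgroup.comap_map_eq, QuotientGroup.ker_mk']
    rw [← h2]
    exact h1.comap _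
  by_cases hrq : r = q
  · subst hrq
    have hle : N ≤ R := hNp.le_sylow_of_normal R
    rwa [sup_eq_left.mpr hle] at hRN
  · have hcop : (Nat.card R).Coprime (Nat.card N) := by
      obtain ⟨k, hk⟩ := R.isPGroup'.exists_card_eq
      obtain ⟨l, hl⟩ := hNp.exists_card_eq
      rw [hk, hl]
      exact Nat.Coprime.pow k l ((Nat.coprime_primes hr.out hq).mpr hrq)
    have hcent := fpf_centralizes hφ hp hpow N R hNab hNinv hR hcop
    constructor
    intro x hx g
    have h1 : g * x * g⁻¹ ∈ ((R : Subgroup G) ⊔ N : Subgroup G) :=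
      hRN.conj_mem x (Subgroup.mem_sup_left hx) g
    rw [← SetLike.mem_coe, Subgroup.mul_normal] at h1
    obtain ⟨y, hy, z, hz, hyz⟩ := Set.mem_mul.mp h1
    have hpowR : ∀ w ∈ (R : Subgroup G), w ^ Nat.card R = 1 := by
      intro w hw
      exact congrArg Subtype.val (pow_card_eq_one' (G := R) (x := ⟨w, hw⟩))
    have h2 : (g * x * g⁻¹) ^ Nat.card R = 1 := by
      rw [conj_pow, hpowR x hx, mul_one, mul_inv_cancel]
    rw [← hyz, (show Commute y z from hcent y hy z hz).mul_pow, hpowR y hy, one_mul] at h2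
    have hz1 : z = 1 := by
      rw [← orderOf_eq_one_iff]
      exact Nat.eq_one_of_dvd_coprimes hcop (orderOf_dvd_of_pow_eq_one h2)
        (Subgroup.orderOf_dvd_natCard N hz)
    rw [← hyz, hz1, mul_one]
    exact hy

/-- the Glauberman--Thompson normal `p`-complement theorem (abelian-version `ZJ`), as a
hypothesis -/
def GTStatement : Prop :=
  ∀ (X : Type u) [Group X] [Finite X] (q : ℕ) [Fact q.Prime], q ≠ 2 → ∀ P : Sylow q X,
    Cfsg.HasNormalPComplement q
      ↥(Subgroup.normalizer (Cfsg.centerThompsonAOf (P : Subgroup X) : Set X)) →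
    Cfsg.HasNormalPComplement q X

theorem thompson_fpf_aux (GT : GTStatement.{u}) {p : ℕ} (hp : p.Prime) :
    ∀ (n : ℕ) (G : Type u) [Group G] [Finite G] (φ : G →* G), FixedPointFree φ →
      φ^[p] = _root_.id → Nat.card G = n → Group.IsNilpotent G := by
  intro n
  induction n using Nat.strong_induction_on with
  | _ n ih =>
  intro G _ _ φ hφ hpow hn
  have hinj := injective_of_iterate hp.pos hpow
  have IHsub : ∀ (H : Subgroup G), HInv φ H → H ≠ ⊤ → Group.IsNilpotent H := by
    intro H hH hne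
    refine ih (Nat.card H) ?_ H (resHom φ H hH) (resHom_fpf hφ H hH) (resHom_pow hpow H hH) rfl
    rw [← hn]
    exact lt_of_le_of_ne (Subgroup.card_le_card_group H)
      (fun h => hne (Subgroup.eq_top_of_card_eq H h))
  have IHquot : ∀ (N : Subgroup G) [N.Normal] (_ : HInv φ N), N ≠ ⊥ →
      Group.IsNilpotent (G ⧸ N) := by
    intro N _ hN hne
    refine ih (Nat.card (G ⧸ N)) ?_ (G ⧸ N) (quotHom φ N hN) (quotHom_fpf hφ N hN)
      (quotHom_pow hpow N hN) rfl
    rw [← hn, ← N.index_mul_card, ← Subgroup.index_eq_card]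
    have h1 : 1 < Nat.card N := (Subgroup.one_lt_card_iff_ne_bot N).mpr hne
    have h2 : 0 < N.index := Nat.pos_of_ne_zero Subgroup.index_ne_zero_of_finite
    nlinarith
  suffices hsolv : Group.IsSolvable G from nilpotent_of_solvable_step hφ hp hpow IHquot
  by_contra hns
  obtain ⟨q, hq, hq2, hqd⟩ : ∃ q, q.Prime ∧ q ≠ 2 ∧ q ∣ Nat.card G := by
    by_contra hcon
    push Not at hcon
    apply hns
    have h1 : Nat.card G = 2 ^ (Nat.card G).primeFactorsList.length :=
      Nat.eq_prime_pow_of_unique_prime_dvd Nat.card_pos.ne'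
        (fun {d} hd hdd => by_contra (fun h => hcon d hd h hdd))
    have := Fact.mk Nat.prime_two
    have h2 : IsPGroup 2 G := IsPGroup.of_card h1
    have := h2.isNilpotent
    infer_instance
  have := Fact.mk hq
  obtain ⟨Q, hQ⟩ := exists_invariant_sylow hφ hinj q
  set Z := Cfsg.centerThompsonAOf (Q : Subgroup G) with hZdef
  have hZE : Z = Helper15.ZJ.ZE 0 (Q : Subgroup G) := Helper15.ZJ.centerThompsonAOf_eq _
  have hZinv : HInv φ Z := by
    apply HInv.of_map_eq
    rw [hZE, ← Helper15.ZJ.ZE_map φ hinj.injOn, hQ.map_eq hinj]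
  have hZab : ∀ x ∈ Z, ∀ y ∈ Z, x * y = y * x := by
    rw [hZE]
    exact (Helper15.ZJ.ZE_PE 0 _).1
  have hZ1 : Z ≠ ⊥ := by
    have hQnt : Nontrivial Q := by
      rw [← Finite.one_lt_card_iff_nontrivial]
      have h1 := Q.card_eq_multiplicity
      have h2 : 0 < (Nat.card G).factorization q :=
        hq.factorization_pos_of_dvd Nat.card_pos.ne' hqd
      change 1 < Nat.card (Q : Subgroup G)
      rw [h1]
      exact Nat.one_lt_pow h2.ne' hq.one_lt
    have := Q.isPGroup'.center_nontrivial
    obtain ⟨z, hz⟩ := exists_ne (1 : Subgroup.center Q)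
    intro hbot
    have h3 : ((z : Q) : G) ∈ Z := by
      rw [hZE, Helper15.ZJ.mem_ZE_iff]
      refine ⟨(z : Q).2, pow_zero _, fun A hA a ha => ?_⟩
      have := Subgroup.mem_center_iff.mp z.2 ⟨a, hA.1 ha⟩
      exact congrArg Subtype.val this
    rw [hbot, Subgroup.mem_bot] at h3
    exact hz (Subtype.ext (Subtype.ext h3))
  by_cases hNtop : Subgroup.normalizer (Z : Set G) = ⊤
  · have hZn : Z.Normal := Subgroup.normalizer_eq_top_iff.mp hNtop
    have h1 := IHquot Z hZinv hZ1
    apply hns
    rw [Group.isSolvable_iff_subgroup_quotient Z]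
    exact ⟨Group.isSolvable_of_comm (fun a b => Subtype.ext (hZab a a.2 b b.2)), inferInstance⟩
  · have hNinv : HInv φ (Subgroup.normalizer (Z : Set G)) := by
      intro g hg
      rw [mem_normalizer_iff_conj_smul] at hg ⊢
      have hm := hZinv.map_eq hinj
      calc MulAut.conj (φ g) • Z = MulAut.conj (φ g) • Z.map φ := by rw [hm]
        _ = (MulAut.conj g • Z).map φ := (map_conj_smul φ g Z).symm
        _ = Z.map φ := by rw [hg]
        _ = Z := hm
    have hNnil := IHsub _ hNinv hNtop
    have h1 : Cfsg.HasNormalPComplement q ↥(Subgroup.normalizer (Z : Set G)) :=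
      hasNormalPComplement_of_isNilpotent q
    have h2 := GT G q hq2 Q h1
    obtain ⟨M, hMn, hMc, hMp, hMmem⟩ := Helper40.HasNormalPComplement.exists_normal h2
    have hMinv : HInv φ M := by
      intro y hy
      rw [hMmem] at hy ⊢
      rwa [orderOf_injective φ hinj y]
    have hMtop : M ≠ ⊤ := by
      rintro rfl
      rw [Subgroup.card_top] at hMc
      exact (Nat.Prime.coprime_iff_not_dvd hq).mp hMc.symm hqd
    have hMnil := IHsub M hMinv hMtop
    apply hns
    rw [Group.isSolvable_iff_subgroup_quotient M]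
    have := hMp.isNilpotent
    exact ⟨inferInstance, inferInstance⟩

/-- Thompson's theorem, relative to Glauberman--Thompson -/
theorem thompson_fpf (GT : GTStatement.{u}) {p : ℕ} (hp : p.Prime) {G : Type u} [Group G]
    [Finite G] (φ : G →* G) (hφ : FixedPointFree φ) (hpow : φ^[p] = _root_.id) :
    Group.IsNilpotent G :=
  thompson_fpf_aux GT hp _ G φ hφ hpow rfl

end Cfsg.Agent.Lib.Helper1
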