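import Cfsg.Agent.Lib.Helper58.BG13a
import Cfsg.Agent.Lib.Helper28.BG16a
import Cfsg.Agent.Lib.Helper31.BG1217
import Cfsg.Agent.Lib.Helper40.BG15a
import Cfsg.Agent.Lib.Helper2.BG139Defs
import Cfsg.Agent.S1408
import Cfsg.Agent.S1417
import Cfsg.Agent.S1418

/-!
Bender-Glauberman 13.12: `p ∈ τ₁(M)`, `P ≤ E` of order `p`, `q ∈ τ₂(M)`, `A ≤ E` elementary abelian of
order `q ^ 2` with `C_A(P) ≠ 1`: then `C_{M_σ}(P) = 1`.  Proved from the text of S1428 and from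
Lemma 13.6' (`L136`).
-/

set_option autoImplicit false

namespace Cfsg.Agent.Lib.Helper1.BG13

open Subgroup Cfsg.Agent.Lib.Helper30 Cfsg.Agent.Lib.Helper2 Cfsg.Agent.Lib.Helper68
  Cfsg.Agent.Lib.Helper28.BG12
open Cfsg.Agent.Lib.Helper2.BG139 (T1428)
open scoped commutatorElement

universe u

variable {G : Type u} [Group G]

/-- B-G 13.6 (weak form): a subgroup of prime order of `C_{M_σ}(P)`, `P ≤ E` of order `p ∈ τ₁(M)`, has its
centralizer in `M` only. -/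
def L136 (G : Type u) [Group G] : Prop :=
  ∀ (M : Subgroup G), IsCoatom M → ∀ E : Subgroup G, Cfsg.IsComplIn E (Cfsg.sigmaCore M) M →
    ∀ p : ℕ, p ∈ Cfsg.tau1 M → ∀ P : Subgroup G, P ≤ E → Nat.card P = p →
    ∀ (q : ℕ) [Fact q.Prime] (X : Subgroup G),
      X ≤ Cfsg.sigmaCore M ⊓ Subgroup.centralizer (P : Set G) → Nat.card X = q →
      (Subgroup.centralizer (X : Set G) ≤ M ∧
        ∀ L : Subgroup G, IsCoatom L → Subgroup.centralizer (X : Set G) ≤ L → L = M)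

theorem card_zpowers_of_ea {q : ℕ} [hq : Fact q.Prime] {A : Subgroup G}
    (hA : Cfsg.IsElementaryAbelian q A) {a : G} (ha : a ∈ A) (ha1 : a ≠ 1) :
    Nat.card (zpowers a) = q := by
  rw [Nat.card_zpowers]
  exact orderOf_eq_prime (hA.2 a ha) ha1

/-- `P` of order `p` lies in `L'` as soon as `p ∣ |L'|` and `L` has `p`-rank one. -/
theorem le_commutator_of_rank_one [Finite G] {L P : Subgroup G} {p : ℕ} [hp : Fact p.Prime]
    (hp2 : p ≠ 2) (hr : Cfsg.PRankLE p 1 L) (hPL : P ≤ L) (hP : Nat.card P = p)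
    (hd : p ∣ Nat.card ↥⁅L, L⁆) : P ≤ ⁅L, L⁆ := by
  have hPp : IsPGroup p P := IsPGroup.of_card (n := 1) (by rw [hP, pow_one])
  obtain ⟨T, hT, hPT⟩ := exists_isSylowIn_ge hPL hPp
  have hTc : IsCyclic T := Cfsg.Agent.Lib.Helper40.BG15.isCyclic_of_rank_one_sub hp2 hT.le hT.isPGroup hr
  obtain ⟨y, hy⟩ := exists_prime_orderOf_dvd_card' (G := ↥⁅L, L⁆) p hd
  have hLL : ⁅L, L⁆ ≤ L := commutator_le_self L
  have hc : Nat.card (zpowers (y : G)) = p := by rw [Nat.card_zpowers, Subgroup.orderOf_coe, hy]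
  have hYp : IsPGroup p (zpowers (y : G)) := IsPGroup.of_card (n := 1) (by rw [hc, pow_one])
  have hYL' : zpowers (y : G) ≤ ⁅L, L⁆ := zpowers_le.mpr y.2
  obtain ⟨T', hT', hYT'⟩ := exists_isSylowIn_ge (hYL'.trans hLL) hYp
  obtain ⟨m, hm, rfl⟩ := hT'.conj hT
  have hn : L ≤ normalizer ((⁅L, L⁆ : Subgroup G) : Set G) :=
    le_normalizer_commutator le_normalizer le_normalizer
  have h1 : cj m (zpowers (y : G)) ≤ ⁅L, L⁆ :=
    (cj_mono m hYL').trans (cj_eq_of_mem_normalizer (hn hm)).le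
  intro x hx
  apply h1
  apply mem_of_pow_eq_one_of_le_cyclic hTc (cj_mono m hYT') (hPT hx)
  rw [card_cj, hc, ← hP]
  have := pow_card_eq_one' (G := P) (x := ⟨x, hx⟩)
  exact congrArg Subtype.val this

theorem P12_of_L136 [Finite G] (hG : Cfsg.IsMinSimpleOddOrder G) (h28 : T1428 G) (h136 : L136 G)
    (M : Subgroup G) (hM : IsCoatom M) (E : Subgroup G)
    (hE : Cfsg.IsComplIn E (Cfsg.sigmaCore M) M) (p : ℕ) (hp : p ∈ Cfsg.tau1 M) (P : Subgroup G)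
    (hPE : P ≤ E) (hP : Nat.card P = p) (q : ℕ) [hqp : Fact q.Prime] (hq : q ∈ Cfsg.tau2 M)
    (A : Subgroup G) (hA : A ≤ E ∧ Cfsg.IsElementaryAbelian q A ∧ Nat.card A = q ^ 2)
    (h : A ⊓ centralizer (P : Set G) ≠ ⊥) :
    Cfsg.sigmaCore M ⊓ centralizer (P : Set G) = ⊥ := by
  by_contra hW
  have hpp : Fact p.Prime := ⟨hp.1⟩
  have h17 := Cfsg.Agent.S1417.result hG M hM q hq A ⟨hA.1.trans hE.1, hA.2⟩
  have h18 := Cfsg.Agent.S1418.result hG M hM E hE q hq A hA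
  have hPp : IsPGroup p P := IsPGroup.of_card (n := 1) (by rw [hP, pow_one])
  have hP1 : P ≠ ⊥ := by
    rintro rfl
    rw [card_bot] at hP
    exact hpp.out.one_lt.ne hP
  have hAp : IsPGroup q A := ea_isPGroup hA.2.1
  have hpq : p ≠ q := by
    rintro rfl
    exact hq.2.2.2 hp.2.2.2.2
  -- the subgroup `X`
  obtain ⟨⟨x₀, hx₀⟩, hx₀1⟩ := Subgroup.ne_bot_iff_exists_ne_one.mp h
  have hx₀1' : x₀ ≠ 1 := fun h => hx₀1 (Subtype.ext h)
  have hXc : Nat.card (zpowers x₀) = q := card_zpowers_of_ea hA.2.1 hx₀.1 hx₀1'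
  have hXA : zpowers x₀ ≤ A := zpowers_le.mpr hx₀.1
  have hXP : zpowers x₀ ≤ centralizer (P : Set G) := zpowers_le.mpr hx₀.2
  have hWX := h28 M hM E hE p hp P hPE hP (zpowers x₀) (le_inf (hXA.trans hA.1) hXP)
    (by rw [hXc]; exact hqp.out)
  have hX1 : Cfsg.sigmaCore M ⊓ centralizer ((zpowers x₀ : Subgroup G) : Set G) ≠ ⊥ :=
    fun hb => hW (eq_bot_iff.mpr (hb ▸ hWX))
  obtain ⟨hCXM, -⟩ := h18.2.2 (zpowers x₀) hXA hXc hX1
  -- `P` does not centralize `A`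
  have hnc : ¬ P ≤ centralizer (A : Set G) := by
    intro hPA
    apply hW
    rw [eq_bot_iff, ← h17.2.2.2.1]
    intro w hw
    refine mem_inf.mpr ⟨hw.1, ?_⟩
    rw [mem_centralizer_iff]
    intro a ha
    by_cases ha1 : a = 1
    · subst ha1; simp
    have hR : zpowers a ≤ E ⊓ centralizer (P : Set G) := by
      rw [zpowers_le]
      refine mem_inf.mpr ⟨hA.1 ha, ?_⟩
      rw [mem_centralizer_iff]
      intro x hx
      exact (mem_centralizer_iff.mp (hPA hx) a ha).symm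
    have := h28 M hM E hE p hp P hPE hP (zpowers a) hR
      (by rw [card_zpowers_of_ea hA.2.1 ha ha1]; exact hqp.out) hw
    exact mem_centralizer_iff.mp this.2 a (mem_zpowers a)
  -- the maximal subgroup `L`
  have hA1 : A ≠ ⊥ := fun hb => hx₀1' (by
    have : x₀ ∈ A := hx₀.1
    rwa [hb, mem_bot] at this)
  have hAtop : A ≠ ⊤ := fun ht => hM.1 (top_le_iff.mp (ht ▸ hA.1.trans hE.1))
  obtain ⟨L, hL, hNL⟩ := Cfsg.Agent.Lib.Helper2.exists_coatom_ge (normalizer_ne_top hG hA1 hAtop)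
  have hne : L ≠ M := fun he => h18.2.1.2.2 (he ▸ hNL)
  have hAL : A ≤ L := le_normalizer.trans hNL
  have hqL : q ∈ Cfsg.sigma L := by
    by_contra hqs
    have ht := Cfsg.Agent.Lib.Helper58.BG13.mem_tau2_of_ea hG hL hqs hAL hA.2.1 hA.2.2
    obtain ⟨E', hE', hAE'⟩ := exists_compl_ge hG hL hAL (fun r hr hrd => by
      rw [prime_dvd_card_isPGroup hAp hr hrd]; exact hqs)
    exact (Cfsg.Agent.S1418.result hG L hL E' hE' q ht A ⟨hAE', hA.2⟩).2.1.2.2 hNL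
  have hML : Cfsg.sigmaCore M ⊓ L = ⊥ := h17.2.2.2.2.1 L hL hne hAL
  have hALσ : A ≤ Cfsg.sigmaCore L := isPGroup_le_sigmaCore hG hL hqL hAL hAp
  have hσL' : Cfsg.sigmaCore L ≤ ⁅L, L⁆ := Cfsg.Agent.Lib.Helper31.sigmaCore_le_commutator hG hL
  have hqβ : q ∉ Cfsg.beta L := fun hb =>
    (Cfsg.Agent.S1408.result hG M hM q hq.2.1 hq.2.2.1 hq.2.2.2).1 hb.2
  have hPN : P ≤ normalizer (A : Set G) := hPE.trans h18.1.1
  have hPL : P ≤ L := hPN.trans hNL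
  -- `p ∈ τ₁(L)`
  have hPL' : ¬ P ≤ ⁅L, L⁆ := fun hle =>
    hnc (Cfsg.Agent.Lib.Helper58.BG13.lemmaK hG hL hqβ hAp hA1 (hALσ.trans hσL') hle
      (by rw [hP]; exact (Nat.coprime_primes hpp.out hqp.out).mpr hpq) hPN)
  have hpσ : p ∉ Cfsg.sigma L := fun hs =>
    hPL' ((isPGroup_le_sigmaCore hG hL hs hPL hPp).trans hσL')
  obtain ⟨E', hE', hPE'⟩ := exists_compl_ge hG hL hPL (fun r hr hrd => by
    rw [prime_dvd_card_isPGroup hPp hr hrd]; exact hpσ)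
  have hXL : zpowers x₀ ≤ Cfsg.sigmaCore L ⊓ centralizer (P : Set G) := le_inf (hXA.trans hALσ) hXP
  have hpτ2 : p ∉ Cfsg.tau2 L := by
    intro ht
    obtain ⟨B, hB⟩ := exists_ea_sq_in_compl hG hL hE' ht
    have h18' := Cfsg.Agent.S1418.result hG L hL E' hE' p ht B hB
    have hne' : Cfsg.sigmaCore L ⊓ centralizer (P : Set G) ≠ ⊥ := by
      intro hb
      have := hXL (mem_zpowers x₀)
      rw [hb, mem_bot] at this
      exact hx₀1' this
    have hCP := (h18'.2.2 P (h18'.1.2 P hPE' hP) hP hne').1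
    apply hW
    rw [eq_bot_iff, ← hML]
    exact fun w hw => ⟨hw.1, hCP hw.2⟩
  have hr1 : Cfsg.PRankLE p 1 L := by
    by_contra hr
    exact hpτ2 ⟨hpp.out, hpσ, pRankLE_two_of_not_mem_sigma hG hL hpp.out hpσ, hr⟩
  have hpL : p ∣ Nat.card L := (dvd_card_of_isPGroup_ne_bot hPp hP1).trans (card_dvd_of_le hPL)
  have hpτ1 : p ∈ Cfsg.tau1 L :=
    ⟨hpp.out, hpσ, hpL, fun hd =>
      hPL' (le_commutator_of_rank_one (ne_two_of_isPGroup hG hPp hP1) hr1 hPL hP hd), hr1⟩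
  exact hne ((h136 L hL E' hE' p hpτ1 P hPE' hP q (zpowers x₀) hXL hXc).2 M hM hCXM).symm

end Cfsg.Agent.Lib.Helper1.BG13
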