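import Mathlib
import Cfsg.Agent.Lib.Helper70.CMax.Basic
import Cfsg.Prelude.Def_Solvable
import Cfsg.Prelude.Def_Transfer

/-!
# CMAX ladder, rung FROB (Frobenius data)
-/

set_option autoImplicit false

namespace Cfsg.Agent.Lib.Helper1.CMax

open Subgroup Cfsg.Agent.Lib.Helper70.CMax
open scoped Pointwise

theorem FD_of_Out {Γ H : Type*} [Group Γ] [Group H] (f : H →* Γ) (hf : Function.Injective f)
    {N K : Subgroup Γ} {p q : ℕ} (hr : f.range = N) (h : Out N K p q) : FD H (K.comap f) p q := by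
  refine ⟨h.normal.comap f, ?_, h.pp, h.qp, ?_, ?_, ?_, ?_⟩
  · intro e
    apply h.ne
    rw [eq_bot_iff]
    intro k hk
    have hkN : k ∈ f.range := by rw [hr]; exact h.le hk
    obtain ⟨a, rfl⟩ := hkN
    have : a ∈ K.comap f := hk
    rw [e, mem_bot] at this
    rw [this, map_one]; exact one_mem _
  · intro a ha b hb
    apply hf
    rw [map_mul, map_mul]
    exact h.comm _ ha _ hb
  · intro a ha
    apply hf
    rw [map_pow, map_one]
    exact h.exp _ ha
  · rw [index_comap, hr]; exact h.idx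
  · intro y hy k hk hyk
    apply hf
    rw [map_one]
    refine h.fpf (f y) (by rw [← hr]; exact ⟨y, rfl⟩) hy (f k) hk ?_
    rw [← map_mul, ← map_mul, hyk]

section
variable {H : Type*} [Group H]

/-- `H/K` is abelian. -/
theorem frob_comm_mem {K : Subgroup H} {p q : ℕ} (h : FD H K p q) (a b : H) :
    a * b * a⁻¹ * b⁻¹ ∈ K := by
  have := h.normal
  have := Fact.mk h.qp
  have hcard : Nat.card (H ⧸ K) = q := by rw [← index_eq_card]; exact h.idx
  have hcyc : IsCyclic (H ⧸ K) := isCyclic_of_prime_card hcard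
  have hc : IsMulCommutative (H ⧸ K) := IsCyclic.isMulCommutative
  rw [← QuotientGroup.eq_one_iff]
  have e : ((a * b * a⁻¹ * b⁻¹ : H) : H ⧸ K) = (a : H ⧸ K) * b * (a : H ⧸ K)⁻¹ * (b : H ⧸ K)⁻¹ := rfl
  rw [e, hc.is_comm.comm (a : H ⧸ K) b]
  group

theorem frob_sup_top {K : Subgroup H} {p q : ℕ} (h : FD H K p q) {U : Subgroup H}
    (hU : ¬ U ≤ K) : K ⊔ U = ⊤ := by
  have h1 := relIndex_mul_index (le_sup_left : K ≤ K ⊔ U)
  rw [h.idx] at h1
  have h2 : K.relIndex (K ⊔ U) ≠ 1 := by
    rw [Ne, relIndex_eq_one]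
    intro hle
    exact hU (le_sup_right.trans hle)
  have h3 : K.relIndex (K ⊔ U) ∣ q := ⟨_, h1.symm⟩
  rcases (Nat.dvd_prime h.qp).1 h3 with e | e
  · exact absurd e h2
  · rw [e] at h1
    have : (K ⊔ U).index = 1 := by
      have hq := h.qp.pos
      nlinarith
    exact index_eq_one.1 this

theorem frob_exists_not_mem {K : Subgroup H} {p q : ℕ} (h : FD H K p q) : ∃ y, y ∉ K := by
  by_contra hcon
  simp only [not_exists, not_not] at hcon
  have : K = ⊤ := eq_top_iff.2 (fun x _ => hcon x)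
  have h1 := h.idx
  rw [this, index_top] at h1
  exact h.qp.one_lt.ne h1

theorem frob_pow_eq_one {K : Subgroup H} {p q : ℕ} (h : FD H K p q) {y : H} (hy : y ∉ K) :
    y ^ q = 1 := by
  have := h.normal
  have h1 : y ^ q ∈ K := by rw [← h.idx]; exact K.pow_index_mem y
  exact h.fpf y hy _ h1 ((Commute.refl y).pow_right q).eq

theorem frob_orderOf {K : Subgroup H} {p q : ℕ} (h : FD H K p q) {y : H} (hy : y ∉ K) :
    orderOf y = q := by
  have := Fact.mk h.qp
  exact orderOf_eq_prime (frob_pow_eq_one h hy) (fun e => hy (e ▸ K.one_mem))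

theorem frob_inf {K : Subgroup H} {p q : ℕ} (h : FD H K p q) {y : H} (hy : y ∉ K) {u : H}
    (hu : u ∈ zpowers y) (huK : u ∈ K) : u = 1 := by
  obtain ⟨i, rfl⟩ := hu
  exact h.fpf y hy _ huK ((Commute.refl y).zpow_right i).eq

theorem frob_decomp {K : Subgroup H} {p q : ℕ} (h : FD H K p q) {y : H} (hy : y ∉ K) (g : H) :
    ∃ k ∈ K, ∃ t ∈ zpowers y, g = k * t := by
  have := h.normal
  have htop : K ⊔ zpowers y = ⊤ := frob_sup_top h (fun hle => hy (hle (mem_zpowers y)))
  have hg : g ∈ K ⊔ zpowers y := by rw [htop]; exact mem_top g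
  obtain ⟨k, hk, t, ht, e⟩ := mem_sup_of_normal_left.1 hg
  exact ⟨k, hk, t, ht, e.symm⟩

theorem frob_mem_conj {Q : Subgroup H} {g x : H} :
    x ∈ MulAut.conj g • Q ↔ ∃ v ∈ Q, x = g * v * g⁻¹ := by
  rw [mem_smul_pointwise_iff_exists]
  constructor
  · rintro ⟨v, hv, e⟩
    exact ⟨v, hv, by rw [← e]; rfl⟩
  · rintro ⟨v, hv, e⟩
    exact ⟨v, hv, by rw [e]; rfl⟩

theorem frob_of_FD [Finite H] {K : Subgroup H} {p q : ℕ} (h : FD H K p q) :
    ∃ Q : Subgroup H, Cfsg.IsFrobeniusComplement Q ∧ (Nat.card ↥Q).Prime ∧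
      (K : Set H) = Cfsg.frobeniusKernel Q ∧ Cfsg.IsElementaryAbelian p K := by
  obtain ⟨y, hy⟩ := frob_exists_not_mem h
  have hKn := h.normal
  have hy1 : y ≠ 1 := fun e => hy (e ▸ K.one_mem)
  refine ⟨zpowers y, ⟨?_, ?_, ?_⟩, ?_, ?_, ⟨⟨⟨fun a b => Subtype.ext (h.comm _ a.2 _ b.2)⟩⟩, h.exp⟩⟩
  · rw [Ne, zpowers_eq_bot]; exact hy1
  · intro e
    apply h.ne
    rw [eq_bot_iff]
    intro k hk
    rw [mem_bot]
    exact frob_inf h hy (by rw [e]; exact mem_top k) hk
  · intro g hg
    rw [eq_bot_iff]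
    rintro u ⟨hu1, hu2⟩
    rw [mem_bot]
    by_contra hune
    apply hg
    obtain ⟨v, hv, e⟩ := frob_mem_conj.1 hu2
    have huv : u * v⁻¹ ∈ K := by
      rw [e]; exact frob_comm_mem h g v
    have huv1 : u * v⁻¹ = 1 :=
      frob_inf h hy ((zpowers y).mul_mem hu1 ((zpowers y).inv_mem hv)) huv
    have huv2 : u = v := mul_inv_eq_one.1 huv1
    have huK : u ∉ K := fun hK => hune (frob_inf h hy hu1 hK)
    obtain ⟨k, hk, t, ht, rfl⟩ := frob_decomp h hy g
    have htu : t * u = u * t := by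
      obtain ⟨i, rfl⟩ := ht
      obtain ⟨j, rfl⟩ := hu1
      show y ^ i * y ^ j = y ^ j * y ^ i
      rw [← zpow_add, ← zpow_add, add_comm]
    have hku : u * k = k * u := by
      rw [← huv2] at e
      have e2 : u * (k * t) = k * t * u := by
        calc u * (k * t) = (k * t * u * (k * t)⁻¹) * (k * t) := by rw [← e]
          _ = k * t * u := by group
      have e3 : u * k * t = k * u * t := by
        calc u * k * t = u * (k * t) := by group
          _ = k * t * u := e2
          _ = k * (t * u) := by group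
          _ = k * (u * t) := by rw [htu]
          _ = k * u * t := by group
      exact mul_right_cancel e3
    have hk1 : k = 1 := h.fpf u huK k hk hku
    rw [hk1, one_mul]; exact ht
  · rw [Nat.card_zpowers, frob_orderOf h hy]; exact h.qp
  · ext x
    constructor
    · intro hx
      by_cases hx1 : x = 1
      · exact Or.inl hx1
      · right
        intro g hxg
        obtain ⟨v, hv, e⟩ := frob_mem_conj.1 hxg
        have hvK : v ∈ K := by
          have : v = g⁻¹ * x * g⁻¹⁻¹ := by rw [e]; group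
          rw [this]; exact hKn.conj_mem _ hx _
        have := frob_inf h hy hv hvK
        rw [this] at e
        apply hx1
        rw [e]; group
    · intro hx
      by_contra hxK
      have hxK' : x ∉ K := hxK
      rcases hx with hx | hx
      · exact hxK' (hx ▸ K.one_mem)
      · obtain ⟨k, hk, t, ht, rfl⟩ := frob_decomp h hy x
        have htK : t ∉ K := fun htK => hxK' (K.mul_mem hk htK)
        let φ : K → K := fun c => ⟨(c : H) * t * (c : H)⁻¹ * t⁻¹, by
          have : (c : H) * t * (c : H)⁻¹ * t⁻¹ = c * (t * (c : H)⁻¹ * t⁻¹) := by group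
          rw [this]
          exact K.mul_mem c.2 (hKn.conj_mem _ (K.inv_mem c.2) _)⟩
        have hinj : Function.Injective φ := by
          intro c d hcd
          have e : (c : H) * t * (c : H)⁻¹ * t⁻¹ = d * t * (d : H)⁻¹ * t⁻¹ := congrArg Subtype.val hcd
          have e1 : (c : H) * t * (c : H)⁻¹ = d * t * (d : H)⁻¹ := mul_right_cancel e
          have e2 : t * ((d : H)⁻¹ * c) = ((d : H)⁻¹ * c) * t := by
            calc t * ((d : H)⁻¹ * c) = (d : H)⁻¹ * (d * t * (d : H)⁻¹) * c := by group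
              _ = (d : H)⁻¹ * (c * t * (c : H)⁻¹) * c := by rw [e1]
              _ = ((d : H)⁻¹ * c) * t := by group
          have e3 := h.fpf t htK _ (K.mul_mem (K.inv_mem d.2) c.2) e2
          apply Subtype.ext
          exact (inv_mul_eq_one.1 e3).symm
        obtain ⟨c, hc⟩ := (Finite.injective_iff_surjective.1 hinj) ⟨k, hk⟩
        have hc' : (c : H) * t * (c : H)⁻¹ * t⁻¹ = k := congrArg Subtype.val hc
        apply hx c
        rw [frob_mem_conj]
        refine ⟨t, ht, ?_⟩
        rw [← hc']; group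

theorem minnonab_of_FD [Finite H] {K : Subgroup H} {p q : ℕ} (h : FD H K p q)
    (hmin : ∀ K₀ : Subgroup H, K₀.Normal → K₀ ≤ K → K₀ = ⊥ ∨ K₀ = K) :
    ¬ IsMulCommutative H ∧ (∀ U : Subgroup H, U ≠ ⊤ → IsMulCommutative ↥U) ∧
      ∃ a : ℕ, p ≠ q ∧ Nat.card H = p ^ a * q ∧ ∀ P : Subgroup H, Nat.card ↥P = p ^ a → P.Normal := by
  obtain ⟨y, hy⟩ := frob_exists_not_mem h
  have hKn := h.normal
  have hKex : ∃ k ∈ K, k ≠ 1 := by
    by_contra hcon
    simp only [not_exists, not_and, not_not] at hcon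
    apply h.ne
    rw [eq_bot_iff]
    intro k hk
    rw [mem_bot]; exact hcon k hk
  obtain ⟨k0, hk0, hk01⟩ := hKex
  refine ⟨?_, ?_, ?_⟩
  · intro hc
    exact hk01 (h.fpf y hy k0 hk0 (hc.is_comm.comm y k0))
  · intro U hU
    by_cases hUK : U ≤ K
    · exact ⟨⟨fun a b => Subtype.ext (h.comm _ (hUK a.2) _ (hUK b.2))⟩⟩
    · have htop := frob_sup_top h hUK
      have hn : (U ⊓ K).Normal := by
        constructor
        intro a ha g
        have hg : g ∈ K ⊔ U := by rw [htop]; exact mem_top g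
        obtain ⟨k, hk, u, hu, rfl⟩ := mem_sup_of_normal_left.1 hg
        have h1 : u * a * u⁻¹ ∈ U ⊓ K :=
          ⟨U.mul_mem (U.mul_mem hu ha.1) (U.inv_mem hu), hKn.conj_mem _ ha.2 _⟩
        have h2 : k * u * a * (k * u)⁻¹ = u * a * u⁻¹ := by
          have := h.comm k hk _ h1.2
          calc k * u * a * (k * u)⁻¹ = (k * (u * a * u⁻¹)) * k⁻¹ := by group
            _ = ((u * a * u⁻¹) * k) * k⁻¹ := by rw [this]
            _ = u * a * u⁻¹ := by group
        rw [h2]; exact h1
      rcases hmin _ hn inf_le_right with e | e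
      · refine ⟨⟨fun a b => Subtype.ext ?_⟩⟩
        have h1 : (a : H) * b * (a : H)⁻¹ * (b : H)⁻¹ ∈ U ⊓ K :=
          ⟨U.mul_mem (U.mul_mem (U.mul_mem a.2 b.2) (U.inv_mem a.2)) (U.inv_mem b.2),
            frob_comm_mem h _ _⟩
        rw [e, mem_bot] at h1
        show (a : H) * b = b * a
        calc (a : H) * b = ((a : H) * b * (a : H)⁻¹ * (b : H)⁻¹) * (b * a) := by group
          _ = b * a := by rw [h1, one_mul]
      · exfalso
        apply hU
        have hKU : K ≤ U := by rw [← e]; exact inf_le_left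
        rw [← htop]
        exact (sup_eq_right.2 hKU).symm
  · have := Fact.mk h.pp
    have hKp : IsPGroup p K := by
      intro a
      refine ⟨1, ?_⟩
      rw [pow_one]
      exact Subtype.ext (by simpa using h.exp _ a.2)
    obtain ⟨a, ha⟩ := IsPGroup.iff_card.1 hKp
    have hcard : Nat.card H = p ^ a * q := by
      rw [← ha, ← h.idx]; exact K.card_mul_index.symm
    have hpq : p ≠ q := by
      intro e
      have hHp : IsPGroup p H := by
        apply IsPGroup.of_card (n := a + 1)
        rw [hcard, ← e, pow_succ]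
      have hnt : Nontrivial H := ⟨⟨k0, 1, hk01⟩⟩
      have hcn := hHp.center_nontrivial
      obtain ⟨z, hz⟩ := exists_ne (1 : center H)
      have hz1 : (z : H) ≠ 1 := fun e => hz (Subtype.ext e)
      have hzc := mem_center_iff.1 z.2
      by_cases hzK : (z : H) ∈ K
      · exact hz1 (h.fpf y hy _ hzK (hzc y))
      · exact hk01 (h.fpf _ hzK k0 hk0 (hzc k0).symm)
    refine ⟨a, hpq, hcard, ?_⟩
    intro P hP
    have hPK : P ≤ K := by
      intro x hx
      have h1 : x ^ q ∈ K := by rw [← h.idx]; exact K.pow_index_mem x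
      have h2 : x ^ (p ^ a) = 1 := by
        have := pow_card_eq_one' (x := (⟨x, hx⟩ : P))
        rw [hP] at this
        exact congrArg Subtype.val this
      have h3 : orderOf x ∣ p ^ a := orderOf_dvd_of_pow_eq_one h2
      have h4 : Nat.Coprime q (orderOf x) := by
        apply Nat.Coprime.coprime_dvd_right h3
        apply Nat.Coprime.pow_right
        exact (Nat.coprime_primes h.qp h.pp).2 hpq.symm
      obtain ⟨m, hm⟩ := exists_pow_eq_self_of_coprime h4
      rw [← hm]; exact K.pow_mem h1 m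
    have : P = K := eq_of_le_of_card_ge hPK (by rw [hP, ha])
    rw [this]; exact hKn

end

end Cfsg.Agent.Lib.Helper1.CMax
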