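import Mathlib
import Cfsg.Agent.Lib.Helper70.CMax.Basic
import Cfsg.Agent.S0183

/-!
# CMAX ladder, rung MINN (a minimal normal subgroup inside `N` is abelian)
-/

set_option autoImplicit false

namespace Cfsg.Agent.Lib.Helper1.CMax

open Subgroup Cfsg.Agent.Lib.Helper70.CMax

variable {G : Type*} [Group G]

/-- a subgroup generated by pairwise commuting elements is commutative -/
theorem minn_closure_comm {T : Set G} (hT : ∀ a ∈ T, ∀ b ∈ T, a * b = b * a) :
    ∀ a ∈ closure T, ∀ b ∈ closure T, a * b = b * a := by
  have h1 : closure T ≤ centralizer T := by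
    rw [closure_le]
    intro a ha
    rw [SetLike.mem_coe, mem_centralizer_iff]
    intro b hb
    exact hT b hb a ha
  have h2 : closure T ≤ centralizer (closure T : Set G) := by
    rw [closure_le]
    intro a ha
    rw [SetLike.mem_coe, mem_centralizer_iff]
    intro b hb
    exact ((mem_centralizer_iff.1 (h1 hb)) a ha).symm
  intro a ha b hb
  exact ((mem_centralizer_iff.1 (h2 ha)) b hb).symm

/-- two noncommuting involutions of `L` force `L` cyclic. -/
theorem minn_invol {N : Subgroup G} (h : CL N) {L : Subgroup G}
    (hLN : L ≤ N)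
    (hmin : ∀ L₀ : Subgroup G, L₀.Normal → L₀ ≤ L → L₀ = ⊥ ∨ L₀ = L)
    {s t : G} (hs : s ∈ L) (ht : t ∈ L) (hs2 : s * s = 1) (ht2 : t * t = 1) (hst : s * t ≠ t * s) :
    ∀ a ∈ L, ∀ b ∈ L, a * b = b * a := by
  have hsi : s⁻¹ = s := inv_eq_of_mul_eq_one_left hs2
  have hti : t⁻¹ = t := inv_eq_of_mul_eq_one_left ht2
  set x := s * t with hx
  have hxL : x ∈ L := L.mul_mem hs ht
  have hxi : x⁻¹ = t * s := by rw [hx, mul_inv_rev, hsi, hti]
  have hx1 : x ≠ 1 := by
    intro e
    apply hst
    have : x⁻¹ = 1 := by rw [e, inv_one]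
    rw [hxi] at this
    rw [this]; exact e
  have hconj : s * x * s⁻¹ = x⁻¹ := by
    rw [hxi, hsi, hx]
    calc s * (s * t) * s = (s * s) * t * s := by group
      _ = t * s := by rw [hs2, one_mul]
  have hmax := h.max x (hLN hxL) hx1
  have hsn : s ∈ normalizer ((zpowers x : Subgroup G) : Set G) := by
    rw [mem_normalizer_iff]
    intro g
    constructor
    · rintro ⟨k, rfl⟩
      refine ⟨-k, ?_⟩
      show x ^ (-k) = s * x ^ k * s⁻¹
      rw [← conj_zpow, hconj, inv_zpow, zpow_neg]
    · rintro ⟨k, hk⟩
      refine ⟨-k, ?_⟩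
      have hk' : x ^ k = s * g * s⁻¹ := hk
      show x ^ (-k) = g
      have : g = s⁻¹ * (s * g * s⁻¹) * s := by group
      rw [this, ← hk']
      have h2 : s⁻¹ * x * s = x⁻¹ := by
        rw [hsi]
        have := hconj
        rw [hsi] at this
        exact this
      have h3 : s⁻¹ * x ^ k * s = (s⁻¹ * x * s) ^ k := by
        have := conj_zpow (a := s⁻¹) (b := x) (i := k)
        rw [inv_inv] at this
        exact this.symm
      rw [h3, h2, inv_zpow, zpow_neg]
  have hcn : centralizer ({x} : Set G) ≤ normalizer ((zpowers x : Subgroup G) : Set G) := by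
    intro m hm
    rw [mem_cent] at hm
    have hmx : m * x * m⁻¹ = x := by rw [hm]; group
    have hmx' : m⁻¹ * x * m = x := by
      calc m⁻¹ * x * m = m⁻¹ * (x * m) := by group
        _ = m⁻¹ * (m * x) := by rw [hm]
        _ = x := by group
    rw [mem_normalizer_iff]
    intro g
    constructor
    · rintro ⟨k, rfl⟩
      refine ⟨k, ?_⟩
      show x ^ k = m * x ^ k * m⁻¹
      rw [← conj_zpow, hmx]
    · rintro ⟨k, hk⟩
      refine ⟨k, ?_⟩
      have hk' : x ^ k = m * g * m⁻¹ := hk
      show x ^ k = g
      have : g = m⁻¹ * (m * g * m⁻¹) * m := by group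
      rw [this, ← hk']
      have h3 : m⁻¹ * x ^ k * m = (m⁻¹ * x * m) ^ k := by
        have := conj_zpow (a := m⁻¹) (b := x) (i := k)
        rw [inv_inv] at this
        exact this.symm
      rw [h3, hmx']
  have hsc : s ∉ centralizer ({x} : Set G) := by
    intro hm
    rw [mem_cent] at hm
    have : s * x * s⁻¹ = x := by rw [hm]; group
    rw [hconj, hxi] at this
    exact hst this.symm
  have htop : normalizer ((zpowers x : Subgroup G) : Set G) = ⊤ := by
    apply hmax.2
    refine lt_of_le_of_ne hcn ?_
    intro e
    apply hsc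
    rw [e]; exact hsn
  have hnorm : (zpowers x).Normal := normalizer_eq_top_iff.1 htop
  have hle : zpowers x ≤ L := by rw [zpowers_le]; exact hxL
  rcases hmin _ hnorm hle with e | e
  · exfalso
    rw [zpowers_eq_bot] at e
    exact hx1 e
  · intro a ha b hb
    rw [← e] at ha hb
    obtain ⟨i, rfl⟩ := ha
    obtain ⟨j, rfl⟩ := hb
    show x ^ i * x ^ j = x ^ j * x ^ i
    rw [← zpow_add, ← zpow_add, add_comm]

theorem CL.min_normal_comm [Finite G] {N : Subgroup G} (h : CL N) {L : Subgroup G}
    (hL : L.Normal) (hLN : L ≤ N) (hL1 : L ≠ ⊥)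
    (hmin : ∀ L₀ : Subgroup G, L₀.Normal → L₀ ≤ L → L₀ = ⊥ ∨ L₀ = L) :
    ∀ a ∈ L, ∀ b ∈ L, a * b = b * a := by
  rcases Nat.even_or_odd (Nat.card L) with hev | hodd
  · -- even order
    have := Fact.mk Nat.prime_two
    obtain ⟨s', hs'⟩ := exists_prime_orderOf_dvd_card' (G := L) 2 hev.two_dvd
    set s : G := s'.1 with hs
    have hsL : s ∈ L := s'.2
    have hso : orderOf s = 2 := by rw [hs, Subgroup.orderOf_coe]; exact hs'
    have hs2 : s * s = 1 := by
      rw [← pow_two, ← hso]; exact pow_orderOf_eq_one s
    have hs1 : s ≠ 1 := by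
      intro e
      rw [e, orderOf_one] at hso
      omega
    by_cases hall : ∀ g k : G, (g * s * g⁻¹) * (k * s * k⁻¹) = (k * s * k⁻¹) * (g * s * g⁻¹)
    · have hE : normalClosure ({s} : Set G) = L := by
        rcases hmin (normalClosure ({s} : Set G)) normalClosure_normal
          (normalClosure_le_normal (by simpa using hsL)) with e | e
        · exfalso
          have : s ∈ normalClosure ({s} : Set G) := subset_normalClosure (Set.mem_singleton s)
          rw [e, mem_bot] at this
          exact hs1 this
        · exact e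
      rw [← hE]
      apply minn_closure_comm
      intro a ha b hb
      rw [Group.mem_conjugatesOfSet_iff] at ha hb
      obtain ⟨a0, ha0, ha1⟩ := ha
      obtain ⟨b0, hb0, hb1⟩ := hb
      rw [Set.mem_singleton_iff] at ha0 hb0
      subst ha0
      subst hb0
      rw [isConj_iff] at ha1 hb1
      obtain ⟨g, rfl⟩ := ha1
      obtain ⟨k, rfl⟩ := hb1
      exact hall g k
    · simp only [not_forall] at hall
      obtain ⟨g, k, hgk⟩ := hall
      refine minn_invol h hLN hmin (hL.conj_mem s hsL g) (hL.conj_mem s hsL k) ?_ ?_ hgk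
      · calc g * s * g⁻¹ * (g * s * g⁻¹) = g * (s * s) * g⁻¹ := by group
          _ = 1 := by rw [hs2]; group
      · calc k * s * k⁻¹ * (k * s * k⁻¹) = k * (s * s) * k⁻¹ := by group
          _ = 1 := by rw [hs2]; group
  · -- odd order
    have hCN : Cfsg.IsCNGroup L := by
      intro g hg
      have hg1 : (g : G) ≠ 1 := fun e => hg (Subtype.ext e)
      rcases h.dich (hLN g.2) hg1 with hA | ⟨r, hr, hB⟩
      · have hc : ∀ a b : centralizer ({g} : Set L), a * b = b * a := by
          intro a b
          by_cases ha1 : a = 1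
          · rw [ha1]; simp
          have ha : (a : L) * g = g * a := mem_cent.1 a.2
          have hb : (b : L) * g = g * b := mem_cent.1 b.2
          have ha' : ((a : L) : G) * (g : G) = g * a := congrArg Subtype.val ha
          have hb' : ((b : L) : G) * (g : G) = g * b := congrArg Subtype.val hb
          have ha1' : ((a : L) : G) ≠ 1 := fun e => ha1 (Subtype.ext (Subtype.ext e))
          have e := hA _ (hLN (a : L).2) ha1' ha'
          have hbm : ((b : L) : G) ∈ centralizer ({((a : L) : G)} : Set G) := by
            rw [e, mem_cent]; exact hb'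
          rw [mem_cent] at hbm
          exact Subtype.ext (Subtype.ext hbm.symm)
        let inst : CommGroup (centralizer ({g} : Set L)) :=
          { (inferInstance : Group (centralizer ({g} : Set L))) with mul_comm := hc }
        exact @CommGroup.isNilpotent _ inst
      · have := Fact.mk hr
        apply IsPGroup.isNilpotent (p := r)
        intro a
        refine ⟨1, ?_⟩
        have ha : (a : L) * g = g * a := mem_cent.1 a.2
        have ha' : ((a : L) : G) * (g : G) = g * a := congrArg Subtype.val ha
        have := hB _ (hLN (a : L).2) ha'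
        rw [pow_one]
        exact Subtype.ext (Subtype.ext (by simpa using this))
    have hsol : Group.IsSolvable L := Cfsg.Agent.S0183.result hodd hCN
    have hnt : Nontrivial L := (Subgroup.nontrivial_iff_ne_bot L).2 hL1
    have hlt := Group.IsSolvable.commutator_lt_top_of_nontrivial L
    have hn : (⁅L, L⁆ : Subgroup G).Normal := inferInstance
    have hle : ⁅L, L⁆ ≤ L := by
      rw [← L.map_subtype_commutator]; exact map_subtype_le _
    rcases hmin _ hn hle with e | e
    · rw [commutator_eq_bot_iff_le_centralizer] at e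
      intro a ha b hb
      exact ((mem_centralizer_iff.1 (e ha)) b hb).symm
    · exfalso
      rw [← L.map_subtype_commutator] at e
      apply hlt.ne
      apply Subgroup.map_injective L.subtype_injective
      rw [e, ← MonoidHom.range_eq_map, L.range_subtype]

end Cfsg.Agent.Lib.Helper1.CMax
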