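import Mathlib
import Cfsg.Agent.Lib.Helper70.FI.Defs
import Cfsg.Agent.Lib.Helper3.PGroup

set_option autoImplicit false

namespace Cfsg.Agent.Lib.Helper1.FI

open Cfsg.Agent.Lib.Helper70.FI

theorem ext_sq_mem {R : Type*} [Group R] (g : R) : g * g ∈ Sq R :=
  Subgroup.subset_closure ⟨g, rfl⟩

theorem ext_Sq_le {R : Type*} [Group R] (H : Subgroup R) (hH : ∀ g : R, g * g ∈ H) :
    Sq R ≤ H := by
  unfold Sq
  rw [Subgroup.closure_le]
  rintro _ ⟨g, rfl⟩
  exact hH g

theorem ext_Sq_normal (R : Type*) [Group R] : (Sq R).Normal := by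
  constructor
  intro n hn g
  have h1 : Sq R ≤ (Sq R).comap (MulAut.conj g).toMonoidHom := by
    apply ext_Sq_le
    intro x
    rw [Subgroup.mem_comap, map_mul]
    exact ext_sq_mem _
  exact h1 hn

theorem b_pos {R : Type*} [Group R] [Finite R] : 0 < b R :=
  Nat.pos_of_ne_zero Subgroup.index_ne_zero_of_finite

theorem b_le_card {R : Type*} [Group R] [Finite R] : b R ≤ Nat.card R :=
  Nat.le_of_dvd Nat.card_pos (Subgroup.index_dvd_card _)

theorem b_ext {R : Type*} [Group R] [Finite R] (K : Subgroup R) [K.Normal] :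
    b R ≤ b (R ⧸ K) * b ↥K := by
  have := ext_Sq_normal R
  have h1 : (Sq R).relIndex (Sq R ⊔ K) * (Sq R ⊔ K).index = (Sq R).index :=
    Subgroup.relIndex_mul_index le_sup_left
  have h2 : (Sq R).relIndex (Sq R ⊔ K) = (Sq R).relIndex K := Subgroup.relIndex_sup_left _ _
  have h3 : (Sq R).relIndex K ≤ b ↥K := by
    apply Nat.le_of_dvd b_pos
    apply Subgroup.index_dvd_of_le
    apply ext_Sq_le
    intro g
    rw [Subgroup.mem_subgroupOf]
    exact ext_sq_mem (g : R)
  have h4 : (Sq R ⊔ K).index ≤ b (R ⧸ K) := by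
    have e1 : ((Sq R).map (QuotientGroup.mk' K)).index = (Sq R ⊔ K).index := by
      rw [Subgroup.index_map, QuotientGroup.ker_mk',
        MonoidHom.range_eq_top.mpr (QuotientGroup.mk'_surjective K), Subgroup.index_top, mul_one]
    rw [← e1]
    apply Nat.le_of_dvd b_pos
    apply Subgroup.index_dvd_of_le
    apply ext_Sq_le
    intro q
    obtain ⟨g, rfl⟩ := QuotientGroup.mk'_surjective K q
    exact ⟨g * g, ext_sq_mem g, map_mul _ _ _⟩
  calc b R = (Sq R).relIndex (Sq R ⊔ K) * (Sq R ⊔ K).index := h1.symm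
    _ ≤ b ↥K * b (R ⧸ K) := by rw [h2]; exact Nat.mul_le_mul h3 h4
    _ = b (R ⧸ K) * b ↥K := mul_comm _ _

theorem b_le_two_mul {R : Type*} [Group R] [Finite R] (K : Subgroup R) (hK : K.index = 2) :
    b R ≤ 2 * b ↥K := by
  have := Subgroup.normal_of_index_eq_two hK
  refine (b_ext K).trans (Nat.mul_le_mul_right _ ?_)
  have : Nat.card (R ⧸ K) = 2 := hK
  rw [← this]
  exact b_le_card

theorem b_noncomm {R : Type*} [Group R] [Finite R] (h : ∃ x y : R, x * y ≠ y * x) :
    2 * b R ≤ Nat.card R := by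
  obtain ⟨x, y, hxy⟩ := h
  have hne : Sq R ≠ ⊥ := by
    intro hb
    have hsq : ∀ g : R, g * g = 1 := by
      intro g
      have := ext_sq_mem g
      rwa [hb, Subgroup.mem_bot] at this
    apply hxy
    have h1 := hsq (x * y)
    have hx := hsq x
    have hy := hsq y
    calc x * y = x * (x * y * (x * y)) * y := by rw [h1, mul_one]
      _ = (x * x) * (y * x) * (y * y) := by group
      _ = y * x := by rw [hx, hy, one_mul, mul_one]
  have h2 : 2 ≤ Nat.card (Sq R) := by
    have h0 : Nat.card (Sq R) ≠ 1 := by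
      intro h1
      exact hne (Subgroup.card_eq_one.mp h1)
    have : 0 < Nat.card (Sq R) := Nat.card_pos
    omega
  rw [← Subgroup.card_mul_index (Sq R)]
  exact Nat.mul_le_mul_right _ h2

theorem Sq_le_frattini {R : Type*} [Group R] [Finite R] (h : IsPGroup 2 R) :
    Sq R ≤ frattini R := by
  have := Fact.mk Nat.prime_two
  apply ext_Sq_le
  intro g
  have := Cfsg.Agent.Lib.Helper3.pow_p_mem_frattini h g
  rwa [pow_two] at this

end Cfsg.Agent.Lib.Helper1.FI
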