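import Mathlib

set_option autoImplicit false

/-! Fixed-point-free actions on abelian groups: the norm trick and the partition trick. -/

namespace Cfsg.Agent.Lib.Helper1

open Finset

section fpf
variable {A V : Type*} [Group A] [Fintype A] [CommGroup V]

open Classical in
/-- the norm of `v` over a nontrivial subgroup is trivial -/
theorem fpf_prod_subgroup (φ : A →* MulAut V) (hfpf : ∀ a, a ≠ 1 → ∀ v, φ a v = v → v = 1)
    (B : Subgroup A) (hB : B ≠ ⊥) (v : V) :
    ∏ b ∈ univ.filter (fun b => b ∈ B), φ b v = 1 := by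
  obtain ⟨c, hc1⟩ := (Subgroup.ne_bot_iff_exists_ne_one).mp hB
  have hc1' : (c : A) ≠ 1 := fun h => hc1 (Subtype.ext h)
  apply hfpf c hc1'
  rw [map_prod]
  refine Finset.prod_equiv (Equiv.mulLeft (c : A)) ?_ ?_
  · intro i
    simp only [mem_filter, mem_univ, true_and, Equiv.coe_mulLeft]
    exact (Subgroup.mul_mem_cancel_left B c.2).symm
  · intro i _
    simp only [Equiv.coe_mulLeft, map_mul, MulAut.mul_apply]

open Classical in
theorem fpf_prod_punctured (φ : A →* MulAut V) (hfpf : ∀ a, a ≠ 1 → ∀ v, φ a v = v → v = 1)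
    (B : Subgroup A) (hB : B ≠ ⊥) (v : V) :
    ∏ b ∈ univ.filter (fun b => b ∈ B ∧ b ≠ 1), φ b v = v⁻¹ := by
  have h1 := fpf_prod_subgroup φ hfpf B hB v
  have h2 : univ.filter (fun b => b ∈ B) = insert 1 (univ.filter (fun b => b ∈ B ∧ b ≠ 1)) := by
    ext x
    simp only [mem_filter, mem_univ, true_and, mem_insert]
    constructor
    · intro hx
      by_cases h : x = 1
      · exact Or.inl h
      · exact Or.inr ⟨hx, h⟩
    · rintro (rfl | h)
      · exact B.one_mem
      · exact h.1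
  rw [h2, prod_insert (by simp), map_one, MulAut.one_apply] at h1
  exact (eq_inv_of_mul_eq_one_right h1)

open Classical in
theorem card_punctured (B : Subgroup A) :
    (univ.filter (fun b => b ∈ B ∧ b ≠ 1)).card + 1 = Nat.card B := by
  have h2 : univ.filter (fun b => b ∈ B) = insert 1 (univ.filter (fun b => b ∈ B ∧ b ≠ 1)) := by
    ext x
    simp only [mem_filter, mem_univ, true_and, mem_insert]
    constructor
    · intro hx
      by_cases h : x = 1
      · exact Or.inl h
      · exact Or.inr ⟨hx, h⟩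
    · rintro (rfl | h)
      · exact B.one_mem
      · exact h.1
  rw [← card_insert_of_notMem (a := (1 : A)) (by simp), ← h2, Nat.card_eq_fintype_card,
    Fintype.card_subtype]

open Classical in
theorem punctured_biUnion (S : Finset (Subgroup A))
    (h3 : ∀ a : A, a ≠ 1 → ∃ B ∈ S, a ∈ B) :
    univ.filter (fun b => b ∈ (⊤ : Subgroup A) ∧ b ≠ 1)
      = S.biUnion (fun B => univ.filter (fun b => b ∈ B ∧ b ≠ 1)) := by
  ext x
  simp only [mem_filter, mem_univ, true_and, mem_biUnion, Subgroup.mem_top]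
  constructor
  · intro hx
    obtain ⟨B, hB, hxB⟩ := h3 x hx
    exact ⟨B, hB, hxB, hx⟩
  · rintro ⟨B, _, _, hx⟩
    exact hx

open Classical in
theorem punctured_pairwiseDisjoint (S : Finset (Subgroup A))
    (h2 : ∀ B ∈ S, ∀ C ∈ S, B ≠ C → B ⊓ C = ⊥) :
    (S : Set (Subgroup A)).PairwiseDisjoint
      (fun B => univ.filter (fun b => b ∈ B ∧ b ≠ 1)) := by
  intro B hB C hC hne
  rw [Function.onFun, Finset.disjoint_left]
  intro x hx hx'
  simp only [mem_filter, mem_univ, true_and] at hx hx'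
  have : x ∈ B ⊓ C := Subgroup.mem_inf.mpr ⟨hx.1, hx'.1⟩
  rw [h2 B hB C hC hne, Subgroup.mem_bot] at this
  exact hx.2 this

/-- partition trick -/
theorem fpf_partition [Nontrivial A] (φ : A →* MulAut V)
    (hfpf : ∀ a, a ≠ 1 → ∀ v, φ a v = v → v = 1) (S : Finset (Subgroup A))
    (h1 : ∀ B ∈ S, B ≠ ⊥) (h2 : ∀ B ∈ S, ∀ C ∈ S, B ≠ C → B ⊓ C = ⊥)
    (h3 : ∀ a : A, a ≠ 1 → ∃ B ∈ S, a ∈ B) (v : V) : v ^ S.card = v := by
  classical
  have e1 := fpf_prod_punctured φ hfpf ⊤ top_ne_bot v
  rw [punctured_biUnion S h3, prod_biUnion (punctured_pairwiseDisjoint S h2),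
    prod_congr rfl (fun B hB => fpf_prod_punctured φ hfpf B (h1 B hB) v), prod_const,
    inv_pow, inv_inj] at e1
  exact e1

theorem partition_count (S : Finset (Subgroup A))
    (h2 : ∀ B ∈ S, ∀ C ∈ S, B ≠ C → B ⊓ C = ⊥)
    (h3 : ∀ a : A, a ≠ 1 → ∃ B ∈ S, a ∈ B) :
    ∑ B ∈ S, (Nat.card B - 1) + 1 = Nat.card A := by
  classical
  have e1 := card_punctured (⊤ : Subgroup A)
  rw [punctured_biUnion S h3, card_biUnion (punctured_pairwiseDisjoint S h2),
    Subgroup.card_top] at e1
  rw [← e1]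
  congr 1
  apply sum_congr rfl
  intro B _
  rw [← card_punctured B]
  rfl

end fpf

section fix
variable {A V : Type*} [Group A] [CommGroup V]

/-- an element of prime order `r` fixes a nonidentity element of a nontrivial group of
exponent `r` -/
theorem fpf_not_exponent [Finite V] [Nontrivial V] (φ : A →* MulAut V)
    (hfpf : ∀ a, a ≠ 1 → ∀ v, φ a v = v → v = 1) (r : ℕ) [hr : Fact r.Prime] (a : A) (ha : a ≠ 1)
    (har : a ^ r = 1) (hV : ∀ v : V, v ^ r = 1) : False := by
  let _ : MulAction (Subgroup.zpowers a) V :=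
    MulAction.compHom V (φ.comp (Subgroup.zpowers a).subtype)
  have hP : IsPGroup r (Subgroup.zpowers a) := by
    apply IsPGroup.of_card (n := 1)
    rw [Nat.card_zpowers, pow_one]
    exact orderOf_eq_prime har ha
  obtain ⟨w, hw⟩ := exists_ne (1 : V)
  have hdvd : r ∣ Nat.card V := by
    rw [← orderOf_eq_prime (hV w) hw]
    exact orderOf_dvd_natCard w
  have h1 : (1 : V) ∈ MulAction.fixedPoints (Subgroup.zpowers a) V := by
    intro z
    change φ z 1 = 1
    exact map_one _
  obtain ⟨b, hb, hb1⟩ := hP.exists_fixed_point_of_prime_dvd_card_of_fixed_point V hdvd h1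
  apply hb1
  symm
  apply hfpf a ha
  exact hb ⟨a, Subgroup.mem_zpowers a⟩

end fix

end Cfsg.Agent.Lib.Helper1
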