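import Cfsg.Agent.Lib.Helper1.Fpf
import Cfsg.Agent.Lib.Helper54.CoprimeGen

set_option autoImplicit false

/-! Groups acting fixed-point-freely on abelian groups: abelian / order `pq` implies cyclic. -/

namespace Cfsg.Agent.Lib.Helper1

open Finset

section main
variable {A V : Type*} [Group A] [Finite A] [CommGroup V] [Finite V] [Nontrivial V]

omit [Finite A] in
theorem inf_eq_bot_of_prime_card [Finite A] {B C : Subgroup A} (hB : (Nat.card B).Prime)
    (hC : (Nat.card C).Prime) (hne : B ≠ C) : B ⊓ C = ⊥ := by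
  by_contra h
  have h0 : Nat.card (B ⊓ C : Subgroup A) ≠ 1 := fun h' => h (Subgroup.card_eq_one.mp h')
  have h1 : Nat.card (B ⊓ C : Subgroup A) = Nat.card B :=
    ((Nat.dvd_prime hB).mp (Subgroup.card_dvd_of_le inf_le_left)).resolve_left h0
  have h2 : Nat.card (B ⊓ C : Subgroup A) = Nat.card C :=
    ((Nat.dvd_prime hC).mp (Subgroup.card_dvd_of_le inf_le_right)).resolve_left h0
  have e1 : B ⊓ C = B := Subgroup.eq_of_le_of_card_ge inf_le_left h1.ge
  have e2 : B ⊓ C = C := Subgroup.eq_of_le_of_card_ge inf_le_right h2.ge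
  exact hne (e1.symm.trans e2)

theorem fpf_isCyclic_of_card_eq_mul_of_le (φ : A →* MulAut V)
    (hfpf : ∀ a, a ≠ 1 → ∀ v, φ a v = v → v = 1) {p q : ℕ} (hp : p.Prime) (hq : q.Prime)
    (hle : p ≤ q) (hcard : Nat.card A = p * q) : IsCyclic A := by
  classical
  by_contra hnc
  have := Fintype.ofFinite A
  have : Fintype (Subgroup A) := Fintype.ofFinite _
  have : Nontrivial A := (Finite.one_lt_card_iff_nontrivial).mp (by
    rw [hcard]; nlinarith [hp.two_le, hq.two_le])
  let S : Finset (Subgroup A) := univ.filter (fun B => (Nat.card B).Prime)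
  have hS : ∀ B, B ∈ S ↔ (Nat.card B).Prime := by simp [S]
  have h1 : ∀ B ∈ S, B ≠ ⊥ := by
    intro B hB h
    rw [hS, h, Subgroup.card_bot] at hB
    exact Nat.not_prime_one hB
  have h2 : ∀ B ∈ S, ∀ C ∈ S, B ≠ C → B ⊓ C = ⊥ := fun B hB C hC hne =>
    inf_eq_bot_of_prime_card ((hS B).mp hB) ((hS C).mp hC) hne
  have hord : ∀ a : A, a ≠ 1 → orderOf a = p ∨ orderOf a = q := by
    intro a ha
    have hd : orderOf a ∣ p * q := hcard ▸ orderOf_dvd_natCard a
    obtain ⟨k1, k2, hk1, hk2, hk⟩ := (Nat.dvd_mul).mp hd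
    rcases (Nat.dvd_prime hp).mp hk1 with rfl | rfl <;>
      rcases (Nat.dvd_prime hq).mp hk2 with rfl | rfl
    · exact absurd (orderOf_eq_one_iff.mp (by omega)) ha
    · right; omega
    · left; omega
    · exact absurd (isCyclic_of_orderOf_eq_card a (by rw [hcard, ← hk])) hnc
  have h3 : ∀ a : A, a ≠ 1 → ∃ B ∈ S, a ∈ B := by
    intro a ha
    refine ⟨Subgroup.zpowers a, ?_, Subgroup.mem_zpowers a⟩
    rw [hS, Nat.card_zpowers]
    rcases hord a ha with h | h <;> rw [h] <;> assumption
  have hcardS : ∀ B ∈ S, Nat.card B = p ∨ Nat.card B = q := by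
    intro B hB
    have hd := Subgroup.card_subgroup_dvd_card B
    rw [hcard] at hd
    rcases ((hS B).mp hB).dvd_mul.mp hd with h | h
    · left; exact (Nat.prime_dvd_prime_iff_eq ((hS B).mp hB) hp).mp h
    · right; exact (Nat.prime_dvd_prime_iff_eq ((hS B).mp hB) hq).mp h
  have hpow := fpf_partition φ hfpf S h1 h2 h3
  have hcount := partition_count S h2 h3
  have : Fact q.Prime := ⟨hq⟩
  obtain ⟨a, ha⟩ := exists_prime_orderOf_dvd_card' (G := A) q (hcard ▸ dvd_mul_left q p)
  have ha1 : a ≠ 1 := by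
    rintro rfl
    rw [orderOf_one] at ha
    exact hq.one_lt.ne ha
  have hScard : S.card = q + 1 := by
    rcases hle.eq_or_lt with rfl | hlt
    · have e1 : ∑ B ∈ S, (Nat.card B - 1) = S.card * (p - 1) := by
        apply sum_const_nat
        intro B hB
        rcases hcardS B hB with h | h <;> rw [h]
      rw [e1, hcard] at hcount
      obtain ⟨k, rfl⟩ : ∃ k, p = k + 2 := ⟨p - 2, by have := hp.two_le; omega⟩
      have e2 : k + 2 - 1 = k + 1 := rfl
      rw [e2] at hcount
      apply Nat.eq_of_mul_eq_mul_right (Nat.succ_pos k)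
      nlinarith
    · have hQ : ∀ B ∈ S, Nat.card B = q → B = Subgroup.zpowers a := by
        intro B hB hBq
        by_contra hne
        have hd : B ⊓ Subgroup.zpowers a = ⊥ :=
          inf_eq_bot_of_prime_card ((hS B).mp hB) (by rw [Nat.card_zpowers, ha]; exact hq) hne
        have hinj := Subgroup.mul_injective_of_disjoint (disjoint_iff.mpr hd)
        have hc := Nat.card_le_card_of_injective _ hinj
        rw [Nat.card_prod, hBq, Nat.card_zpowers, ha, hcard] at hc
        have := Nat.le_of_mul_le_mul_right hc hq.pos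
        omega
      have hf : S.filter (fun B : Subgroup A => Nat.card B = q) = {Subgroup.zpowers a} := by
        ext B
        simp only [mem_filter, mem_singleton]
        constructor
        · rintro ⟨hB, hBq⟩
          exact hQ B hB hBq
        · rintro rfl
          refine ⟨?_, by rw [Nat.card_zpowers, ha]⟩
          rw [hS, Nat.card_zpowers, ha]
          exact hq
      have e0 := sum_filter_add_sum_filter_not S (fun B : Subgroup A => Nat.card B = q)
        (fun B : Subgroup A => Nat.card B - 1)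
      have e1 : ∑ B ∈ S.filter (fun B : Subgroup A => ¬ Nat.card B = q), (Nat.card B - 1)
          = (S.filter (fun B : Subgroup A => ¬ Nat.card B = q)).card * (p - 1) := by
        apply sum_const_nat
        intro B hB
        rw [mem_filter] at hB
        rcases hcardS B hB.1 with h | h
        · rw [h]
        · exact absurd h hB.2
      have e2 := card_filter_add_card_filter_not (s := S) (fun B : Subgroup A => Nat.card B = q)
      rw [hf, card_singleton] at e2
      rw [hf, sum_singleton, e1, Nat.card_zpowers, ha] at e0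
      rw [← e0, hcard] at hcount
      rw [← e2, add_comm]
      congr 1
      obtain ⟨k, rfl⟩ : ∃ k, p = k + 2 := ⟨p - 2, by have := hp.two_le; omega⟩
      obtain ⟨l, rfl⟩ : ∃ l, q = l + 2 := ⟨q - 2, by have := hq.two_le; omega⟩
      have e3 : k + 2 - 1 = k + 1 := rfl
      have e4 : l + 2 - 1 = l + 1 := rfl
      rw [e3, e4] at hcount
      apply Nat.eq_of_mul_eq_mul_right (Nat.succ_pos k)
      nlinarith
  apply fpf_not_exponent φ hfpf q a ha1 (ha ▸ pow_orderOf_eq_one a)
  intro v
  have := hpow v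
  rw [hScard, pow_succ] at this
  exact mul_eq_right.mp this

theorem fpf_isCyclic_of_card_eq_mul (φ : A →* MulAut V)
    (hfpf : ∀ a, a ≠ 1 → ∀ v, φ a v = v → v = 1) {p q : ℕ} (hp : p.Prime) (hq : q.Prime)
    (hcard : Nat.card A = p * q) : IsCyclic A := by
  rcases le_total p q with h | h
  · exact fpf_isCyclic_of_card_eq_mul_of_le φ hfpf hp hq h hcard
  · exact fpf_isCyclic_of_card_eq_mul_of_le φ hfpf hq hp h (by rw [hcard, mul_comm])

theorem fpf_isCyclic_of_comm (φ : A →* MulAut V)
    (hfpf : ∀ a, a ≠ 1 → ∀ v, φ a v = v → v = 1) (hcomm : ∀ a b : A, a * b = b * a) :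
    IsCyclic A := by
  by_contra hnc
  let _ : CommGroup A := { ‹Group A› with mul_comm := hcomm }
  obtain ⟨p, hp, a, b, ha, hb, ha1, hb2⟩ := Helper54.exists_pair_of_not_isCyclic hnc
  have : Fact p.Prime := ⟨hp⟩
  let ψ : A →* Monoid.End V :=
    { toFun := fun x => (φ x).toMonoidHom
      map_one' := by ext v; rw [map_one]; rfl
      map_mul' := by intro x y; ext v; rw [map_mul]; rfl }
  have hψ : ∀ x v, ψ x v = φ x v := fun _ _ => rfl
  have htr : ∀ x : A, x ≠ 1 → x ^ p = 1 → ∀ v, Helper54.trc p (ψ x) v = 1 := by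
    intro x hx hxp v
    apply hfpf x hx
    rw [← hψ]
    apply Helper54.trc_fixed
    rw [← map_pow, hxp, map_one]
  apply fpf_not_exponent φ hfpf p a ha1 ha
  intro v
  have key := Helper54.trace_identity p (ψ a) (ψ b) (by
    change ψ a * ψ b = ψ b * ψ a
    rw [← map_mul, ← map_mul, hcomm]) (by rw [← map_pow, ha, map_one]) v
  have hb1 : b ≠ 1 := by
    rintro rfl
    exact hb2 (Subgroup.one_mem _)
  rw [htr a ha1 ha, htr a ha1 ha, mul_one, mul_one] at key
  rw [← key]
  apply Finset.prod_eq_one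
  intro i _
  rw [← map_pow, ← map_mul]
  apply htr
  · intro h
    apply hb2
    have : b = (a ^ i)⁻¹ := (eq_inv_of_mul_eq_one_right h)
    rw [this]
    exact Subgroup.inv_mem _ (Subgroup.npow_mem_zpowers a i)
  · rw [mul_pow, ← pow_mul, mul_comm i p, pow_mul, ha, one_pow, hb, one_mul]

end main

end Cfsg.Agent.Lib.Helper1
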