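import Cfsg.Agent.Lib.Helper1.Fpf2
import Cfsg.Agent.Lib.Helper1.Coprime3
import Cfsg.Agent.Lib.Helper59.UniqueOdd

set_option autoImplicit false

/-! Fixed-point-free actions inside an ambient finite group. -/

namespace Cfsg.Agent.Lib.Helper1

variable {G : Type*} [Group G]

/-- subgroup form of "fixed-point-free on abelian implies cyclic" -/
theorem fpf_isCyclic_subgroup [Finite G] (A V : Subgroup G) [IsMulCommutative V]
    (hV : V ≠ ⊥) (hAV : A ≤ Subgroup.normalizer (V : Set G))
    (hfpf : ∀ a ∈ A, a ≠ 1 → V ⊓ Subgroup.centralizer {a} = ⊥)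
    (hA : IsMulCommutative A ∨ ∃ p q : ℕ, p.Prime ∧ q.Prime ∧ Nat.card A = p * q) :
    IsCyclic A := by
  let _ : CommGroup V := { (inferInstance : Group V) with mul_comm := mul_comm' }
  have : Nontrivial V := (Subgroup.nontrivial_iff_ne_bot V).mpr hV
  let φ : A →* MulAut V := V.normalizerMonoidHom.comp (Subgroup.inclusion hAV)
  have hφ : ∀ (a : A) (v : V), ((φ a v : V) : G) = a * v * (a : G)⁻¹ := fun _ _ => rfl
  have h : ∀ a : A, a ≠ 1 → ∀ v : V, φ a v = v → v = 1 := by
    intro a ha v hv
    have h1 : (v : G) ∈ V ⊓ Subgroup.centralizer {(a : G)} := by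
      refine Subgroup.mem_inf.mpr ⟨v.2, ?_⟩
      rw [Subgroup.mem_centralizer_singleton_iff]
      have := congrArg Subtype.val hv
      rw [hφ] at this
      exact (mul_inv_eq_iff_eq_mul.mp this).symm
    rw [hfpf a a.2 (fun h => ha (Subtype.ext h)), Subgroup.mem_bot] at h1
    exact Subtype.ext h1
  rcases hA with hA | ⟨p, q, hp, hq, hc⟩
  · exact fpf_isCyclic_of_comm φ h (fun a b => mul_comm' a b)
  · exact fpf_isCyclic_of_card_eq_mul φ h hp hq hc

/-- a group acting fixed-point-freely has order coprime to the group acted on -/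
theorem fpf_coprime [Finite G] (E K : Subgroup G) (hEK : E ≤ Subgroup.normalizer (K : Set G))
    (hfpf : ∀ e ∈ E, e ≠ 1 → K ⊓ Subgroup.centralizer {e} = ⊥) :
    (Nat.card E).Coprime (Nat.card K) := by
  apply Nat.coprime_of_dvd
  intro r hr hrE hrK
  have : Fact r.Prime := ⟨hr⟩
  obtain ⟨e, he⟩ := exists_prime_orderOf_dvd_card' (G := E) r hrE
  have he1 : e ≠ 1 := by
    rintro rfl
    rw [orderOf_one] at he
    exact hr.one_lt.ne he
  let φ : E →* MulAut K := K.normalizerMonoidHom.comp (Subgroup.inclusion hEK)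
  have hφ : ∀ (a : E) (v : K), ((φ a v : K) : G) = a * v * (a : G)⁻¹ := fun _ _ => rfl
  let _ : MulAction (Subgroup.zpowers e) K :=
    MulAction.compHom K (φ.comp (Subgroup.zpowers e).subtype)
  have hP : IsPGroup r (Subgroup.zpowers e) := by
    apply IsPGroup.of_card (n := 1)
    rw [Nat.card_zpowers, pow_one, he]
  have h1 : (1 : K) ∈ MulAction.fixedPoints (Subgroup.zpowers e) K := by
    intro z
    change φ z 1 = 1
    exact map_one _
  obtain ⟨b, hb, hb1⟩ := hP.exists_fixed_point_of_prime_dvd_card_of_fixed_point K hrK h1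
  apply hb1
  have hv : φ e b = b := hb ⟨e, Subgroup.mem_zpowers e⟩
  have h2 : (b : G) ∈ K ⊓ Subgroup.centralizer {(e : G)} := by
    refine Subgroup.mem_inf.mpr ⟨b.2, ?_⟩
    rw [Subgroup.mem_centralizer_singleton_iff]
    have := congrArg Subtype.val hv
    rw [hφ] at this
    exact (mul_inv_eq_iff_eq_mul.mp this).symm
  rw [hfpf e e.2 (fun h => he1 (Subtype.ext h)), Subgroup.mem_bot] at h2
  exact (Subtype.ext h2).symm

/-- a soluble group acting fixed-point-freely on `K ≠ 1` normalises a nontrivial abelian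
subgroup of `K` (the centre of an invariant Sylow subgroup). -/
theorem fpf_exists_invariant_abelian [Finite G] (E K : Subgroup G)
    (hEK : E ≤ Subgroup.normalizer (K : Set G)) (hK : K ≠ ⊥)
    (hfpf : ∀ e ∈ E, e ≠ 1 → K ⊓ Subgroup.centralizer {e} = ⊥)
    (hsolv : Group.IsSolvable E ∨ Group.IsSolvable K) :
    ∃ V : Subgroup G, V ≤ K ∧ V ≠ ⊥ ∧ IsMulCommutative V ∧
      E ≤ Subgroup.normalizer (V : Set G) ∧
      (∀ e ∈ E, e ≠ 1 → V ⊓ Subgroup.centralizer {e} = ⊥) := by
  have hcop := fpf_coprime E K hEK hfpf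
  have hK1 : Nat.card K ≠ 1 := fun h => hK (Subgroup.card_eq_one.mp h)
  obtain ⟨q, hq, hqK⟩ := Nat.exists_prime_and_dvd hK1
  have : Fact q.Prime := ⟨hq⟩
  obtain ⟨Q, hQ, hEQ⟩ := coprime_exists_invariant_sylow E K hEK hcop hsolv q
  have hQnt : Nontrivial Q := by
    rw [Subgroup.nontrivial_iff_ne_bot]
    rintro rfl
    apply hQ.2.2
    rw [Subgroup.relIndex_bot_left]
    exact hqK
  have hZ : Nontrivial (Subgroup.center Q) := hQ.2.1.center_nontrivial
  refine ⟨(Subgroup.center Q).map Q.subtype, ?_, ?_, inferInstance, ?_, ?_⟩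
  · exact (Subgroup.map_subtype_le _).trans hQ.1
  · intro h
    rw [Subgroup.map_eq_bot_iff_of_injective _ Q.subtype_injective] at h
    exact (Subgroup.nontrivial_iff_ne_bot _).mp hZ h
  · exact hEQ.trans (normalizer_le_normalizer_map_of_characteristic Q (Subgroup.center Q))
  · intro e he he1
    rw [eq_bot_iff, ← hfpf e he he1]
    exact inf_le_inf_right _ ((Subgroup.map_subtype_le _).trans hQ.1)

/-- in a finite cyclic group a subgroup is determined by its order -/
theorem eq_of_card_eq_of_isCyclic [Finite G] [IsCyclic G] {X Y : Subgroup G}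
    (h : Nat.card X = Nat.card Y) : X = Y := by
  classical
  have := Fintype.ofFinite G
  have key : ∀ Z : Subgroup G, (Z : Set G) = {a : G | a ^ Nat.card Z = 1} := by
    intro Z
    apply Set.eq_of_subset_of_ncard_le
    · intro a ha
      have := pow_card_eq_one' (G := Z) (x := ⟨a, ha⟩)
      exact congrArg Subtype.val this
    · have h1 := IsCyclic.card_pow_eq_one_le (α := G) (n := Nat.card Z) Nat.card_pos
      have h2 : ({a : G | a ^ Nat.card Z = 1} : Set G).ncard
          = (Finset.univ.filter (fun a : G => a ^ Nat.card Z = 1)).card := by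
        rw [← Set.ncard_coe_finset]
        congr 1
        ext a
        simp
      rw [h2]
      refine h1.trans ?_
      rw [← Nat.card_coe_set_eq]
      exact le_rfl
    · exact Set.toFinite _
  apply SetLike.coe_injective
  rw [key X, key Y, h]

/-- a `p`-group acting fixed-point-freely has a unique subgroup of order `p` -/
theorem fpf_pgroup_unique [Finite G] (p : ℕ) [Fact p.Prime] (P K : Subgroup G)
    (hP : IsPGroup p P) (hPK : P ≤ Subgroup.normalizer (K : Set G)) (hK : K ≠ ⊥)
    (hfpf : ∀ e ∈ P, e ≠ 1 → K ⊓ Subgroup.centralizer {e} = ⊥)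
    (X Y : Subgroup G) (hX : X ≤ P) (hY : Y ≤ P) (hXc : Nat.card X = p) (hYc : Nat.card Y = p) :
    X = Y := by
  have hp := (Fact.out : p.Prime)
  have hPnt : Nontrivial P := by
    rw [Subgroup.nontrivial_iff_ne_bot]
    rintro rfl
    rw [le_bot_iff] at hX
    rw [hX, Subgroup.card_bot] at hXc
    exact hp.one_lt.ne hXc
  obtain ⟨z, hz, hzo⟩ := Helper59.exists_central_orderOf_eq hP
  have hzo' : orderOf (z : G) = p := by rw [Subgroup.orderOf_coe, hzo]
  have main : ∀ W : Subgroup G, W ≤ P → Nat.card W = p → W = Subgroup.zpowers (z : G) := by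
    intro W hW hWc
    have hWcyc : IsCyclic W := isCyclic_of_prime_card hWc
    set E := W ⊔ Subgroup.zpowers (z : G) with hE
    have hZP : Subgroup.zpowers (z : G) ≤ P := by
      rw [Subgroup.zpowers_le]; exact z.2
    have hEP : E ≤ P := sup_le hW hZP
    have hzc : Subgroup.zpowers (z : G) ≤ Subgroup.centralizer (P : Set G) := by
      rw [Subgroup.zpowers_le, Subgroup.mem_centralizer_iff]
      intro h hh
      exact congrArg Subtype.val (Subgroup.mem_center_iff.mp hz ⟨h, hh⟩)
    have hEcomm : IsMulCommutative E := by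
      rw [← Subgroup.le_centralizer_iff_isMulCommutative]
      apply sup_le
      · rw [Subgroup.le_centralizer_iff]
        apply sup_le
        · exact Subgroup.le_centralizer_iff_isMulCommutative.mpr inferInstance
        · exact hzc.trans (Subgroup.centralizer_le hW)
      · exact hzc.trans (Subgroup.centralizer_le hEP)
    obtain ⟨V, -, hV1, hVc, hEV, hVf⟩ := fpf_exists_invariant_abelian E K (hEP.trans hPK) hK
      (fun e he => hfpf e (hEP he)) (Or.inl (Group.isSolvable_of_comm mul_comm'))
    have hcyc : IsCyclic E := fpf_isCyclic_subgroup E V hV1 hEV hVf (Or.inl hEcomm)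
    have h1 : W.subgroupOf E = (Subgroup.zpowers (z : G)).subgroupOf E := by
      apply eq_of_card_eq_of_isCyclic
      rw [card_subgroupOf_of_le le_sup_left, card_subgroupOf_of_le le_sup_right, hWc,
        Nat.card_zpowers, hzo']
    have h2 := congrArg (Subgroup.map E.subtype) h1
    rwa [Subgroup.map_subgroupOf_eq_of_le le_sup_left,
      Subgroup.map_subgroupOf_eq_of_le le_sup_right] at h2
  rw [main X hX hXc, main Y hY hYc]

end Cfsg.Agent.Lib.Helper1
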