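import Mathlib
import Cfsg.Prelude.Def_Solvable
import Cfsg.Agent.Lib.Helper1.Tools

set_option autoImplicit false

namespace Cfsg.Agent.Lib.Helper1

open scoped Pointwise
open Cfsg

variable {G : Type*} [Group G]

theorem card_subtype_ne_add_one {α : Type*} [Finite α] (a : α) :
    Nat.card {x : α // x ≠ a} + 1 = Nat.card α := by
  have h1 := Set.ncard_add_ncard_compl ({a} : Set α)
  rw [Set.ncard_singleton] at h1
  have h2 : Nat.card {x : α // x ≠ a} = ({a}ᶜ : Set α).ncard := Nat.card_coe_set_eq ({a}ᶜ : Set α)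
  rw [h2]
  omega

theorem card_subtype_not_add {α : Type*} [Finite α] (s : Set α) :
    Nat.card s + Nat.card {x : α // x ∉ s} = Nat.card α := by
  have h1 := Set.ncard_add_ncard_compl s
  have h2 : Nat.card {x : α // x ∉ s} = (sᶜ : Set α).ncard := Nat.card_coe_set_eq (sᶜ : Set α)
  rw [h2, Nat.card_coe_set_eq]
  exact h1

/-- Two conjugates of a Frobenius complement sharing a nonidentity element coincide. -/
theorem frob_inv_mul_mem {H : Subgroup G} (hH : IsFrobeniusComplement H) {x y z : G} (hz : z ≠ 1)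
    (hx : z ∈ MulAut.conj x • H) (hy : z ∈ MulAut.conj y • H) : x⁻¹ * y ∈ H := by
  by_contra hcon
  have h1 := hH.2.2 _ hcon
  rw [mem_conj_smul] at hx hy
  have h2 : x⁻¹ * z * x ∈ H ⊓ MulAut.conj (x⁻¹ * y) • H := by
    refine Subgroup.mem_inf.mpr ⟨hx, ?_⟩
    rw [mem_conj_smul]
    convert hy using 1
    group
  rw [h1, Subgroup.mem_bot] at h2
  apply hz
  have : z = x * (x⁻¹ * z * x) * x⁻¹ := by group
  rw [this, h2]; group

theorem not_mem_frobeniusKernel_iff {H : Subgroup G} {x : G} :
    x ∉ frobeniusKernel H ↔ x ≠ 1 ∧ ∃ g : G, x ∈ MulAut.conj g • H := by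
  simp only [frobeniusKernel, Set.mem_ofPred_eq, not_or, not_forall, not_not]

theorem one_mem_frobeniusKernel (H : Subgroup G) : (1 : G) ∈ frobeniusKernel H := Or.inl rfl

theorem conj_mem_frobeniusKernel {H : Subgroup G} {x : G} (hx : x ∈ frobeniusKernel H) (c : G) :
    c * x * c⁻¹ ∈ frobeniusKernel H := by
  rcases hx with rfl | hx
  · left; group
  · right
    intro g hg
    apply hx (c⁻¹ * g)
    rw [mem_conj_smul] at hg ⊢
    convert hg using 1
    group

/-- the conjugation map from cosets times nonidentity elements -/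
noncomputable def frobMap (H : Subgroup G) (x : (G ⧸ H) × {h : H // h ≠ 1}) : G :=
  x.1.out * (x.2.1 : G) * x.1.out⁻¹

theorem frobMap_not_mem (H : Subgroup G) (x : (G ⧸ H) × {h : H // h ≠ 1}) :
    frobMap H x ∉ frobeniusKernel H := by
  rw [not_mem_frobeniusKernel_iff]
  constructor
  · intro h
    apply x.2.2
    apply Subtype.ext
    have : (x.2.1 : G) = x.1.out⁻¹ * frobMap H x * x.1.out := by
      unfold frobMap; group
    rw [this, h]; simp
  · refine ⟨x.1.out, ?_⟩
    rw [mem_conj_smul]
    unfold frobMap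
    have : x.1.out⁻¹ * (x.1.out * (x.2.1 : G) * x.1.out⁻¹) * x.1.out = x.2.1 := by group
    rw [this]
    exact x.2.1.2

theorem frobMap_bijective {H : Subgroup G} (hH : IsFrobeniusComplement H) :
    Function.Bijective (fun x : (G ⧸ H) × {h : H // h ≠ 1} =>
      (⟨frobMap H x, frobMap_not_mem H x⟩ : {x : G // x ∉ frobeniusKernel H})) := by
  constructor
  · rintro ⟨c, h⟩ ⟨c', h'⟩ heq
    have heq : frobMap H (c, h) = frobMap H (c', h') := congrArg Subtype.val heq
    have hne : frobMap H (c, h) ≠ 1 := (not_mem_frobeniusKernel_iff.mp (frobMap_not_mem H (c, h))).1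
    have m1 : frobMap H (c, h) ∈ MulAut.conj c.out • H := by
      rw [mem_conj_smul]
      have : c.out⁻¹ * frobMap H (c, h) * c.out = h.1 := by unfold frobMap; group
      rw [this]; exact h.1.2
    have m2 : frobMap H (c, h) ∈ MulAut.conj c'.out • H := by
      rw [heq, mem_conj_smul]
      have : c'.out⁻¹ * frobMap H (c', h') * c'.out = h'.1 := by unfold frobMap; group
      rw [this]; exact h'.1.2
    have h1 := frob_inv_mul_mem hH hne m1 m2
    have hc : c = c' := by
      rw [← QuotientGroup.out_eq' c, ← QuotientGroup.out_eq' c']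
      exact QuotientGroup.eq.mpr h1
    subst hc
    have h2 : (h.1 : G) = h'.1 := by
      unfold frobMap at heq
      simpa using heq
    exact Prod.ext rfl (Subtype.ext (Subtype.ext h2))
  · rintro ⟨x, hx⟩
    obtain ⟨hx1, g, hg⟩ := not_mem_frobeniusKernel_iff.mp hx
    rw [mem_conj_smul] at hg
    obtain ⟨k, hk⟩ := QuotientGroup.mk_out_eq_mul H g
    set c : G ⧸ H := (g : G ⧸ H) with hc
    have hmem : c.out⁻¹ * x * c.out ∈ H := by
      rw [hk]
      have : (g * (k : G))⁻¹ * x * (g * k) = (k : G)⁻¹ * (g⁻¹ * x * g) * k := by group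
      rw [this]
      exact H.mul_mem (H.mul_mem (H.inv_mem k.2) hg) k.2
    have hne : (⟨c.out⁻¹ * x * c.out, hmem⟩ : H) ≠ 1 := by
      intro h
      apply hx1
      have h' : c.out⁻¹ * x * c.out = 1 := congrArg Subtype.val h
      have : x = c.out * (c.out⁻¹ * x * c.out) * c.out⁻¹ := by group
      rw [this, h']; group
    refine ⟨(c, ⟨⟨_, hmem⟩, hne⟩), ?_⟩
    apply Subtype.ext
    change c.out * (c.out⁻¹ * x * c.out) * c.out⁻¹ = x
    group

theorem card_frobeniusKernel [Finite G] {H : Subgroup G} (hH : IsFrobeniusComplement H) :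
    Nat.card (frobeniusKernel H) = H.index := by
  have h1 := Nat.card_congr (Equiv.ofBijective _ (frobMap_bijective hH))
  rw [Nat.card_prod] at h1
  have h2 := card_subtype_ne_add_one (1 : H)
  have h3 := card_subtype_not_add (frobeniusKernel H)
  have h4 := H.index_mul_card
  have h5 : Nat.card (G ⧸ H) = H.index := rfl
  rw [h5] at h1
  rw [← h1, ← h4, ← h2, mul_add, mul_one, add_comm] at h3
  exact Nat.add_left_cancel h3

/-- the nontrivial cosets, as a set with an action of `H` -/
def nontrivialCosets (H : Subgroup G) : SubMulAction H (G ⧸ H) where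
  carrier := {c | c ≠ ((1 : G) : G ⧸ H)}
  smul_mem' := by
    intro h c hc hcon
    apply hc
    have h1 : c = h⁻¹ • (h • c) := by rw [inv_smul_smul]
    rw [h1, hcon]
    change (((((h⁻¹ : H) : G) * 1 : G)) : G ⧸ H) = _
    rw [QuotientGroup.eq]
    simp

theorem index_mod_card [Finite G] {H : Subgroup G} (hH : IsFrobeniusComplement H) :
    H.index % Nat.card H = 1 % Nat.card H := by
  have hfree : ∀ b : nontrivialCosets H, MulAction.stabilizer H b = ⊥ := by
    rintro ⟨c, hc⟩
    rw [eq_bot_iff]
    intro h hh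
    rw [MulAction.mem_stabilizer_iff] at hh
    have hh' : h • c = c := congrArg Subtype.val hh
    induction c using QuotientGroup.induction_on with
    | H g =>
    have h1 : (((h : G) * g : G) : G ⧸ H) = (g : G ⧸ H) := hh'
    rw [QuotientGroup.eq] at h1
    have hg : g ∉ H := by
      intro hg
      apply hc
      exact (QuotientGroup.eq.mpr (by simpa using hg))
    rw [Subgroup.mem_bot]
    by_contra hne
    have h2 : (h : G) ∈ H ⊓ MulAut.conj g • H := by
      refine Subgroup.mem_inf.mpr ⟨h.2, ?_⟩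
      rw [mem_conj_smul]
      have : g⁻¹ * (h : G) * g = (((h : G) * g)⁻¹ * g)⁻¹ := by group
      rw [this]
      exact H.inv_mem h1
    rw [hH.2.2 g hg, Subgroup.mem_bot] at h2
    exact hne (Subtype.ext h2)
  have h1 := Nat.card_congr (MulAction.selfEquivOrbitsQuotientProd hfree)
  rw [Nat.card_prod] at h1
  have h2 := card_subtype_ne_add_one (((1 : G) : G ⧸ H))
  have h3 : Nat.card (nontrivialCosets H) = Nat.card {c : G ⧸ H // c ≠ ((1 : G) : G ⧸ H)} := rfl
  have h5 : Nat.card (G ⧸ H) = H.index := rfl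
  rw [← h5, ← h2, ← h3, h1, add_comm, Nat.add_mul_mod_self_right]

end Cfsg.Agent.Lib.Helper1
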