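import Mathlib

set_option autoImplicit false

/-! One automorphism of an elementary abelian group: the chain of images of `α - 1`. -/

namespace Cfsg.Agent.Lib.Helper1.Off

variable {W : Type*} [CommGroup W]

/-- the endomorphism `w ↦ α w * w⁻¹` -/
def dl (α : MulAut W) : W →* W where
  toFun w := α w * w⁻¹
  map_one' := by simp
  map_mul' a b := by rw [map_mul, mul_inv]; exact mul_mul_mul_comm _ _ _ _

theorem dl_apply (α : MulAut W) (w : W) : dl α w = α w * w⁻¹ := rfl

/-- the fixed points of `α` -/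
def fx (α : MulAut W) : Subgroup W := (dl α).ker

theorem mem_fx {α : MulAut W} {w : W} : w ∈ fx α ↔ α w = w := by
  unfold fx
  rw [MonoidHom.mem_ker, dl_apply, mul_inv_eq_one]

theorem card_fx_mul_card_range (α : MulAut W) :
    Nat.card (fx α) * Nat.card (dl α).range = Nat.card W := by
  rw [← Subgroup.index_ker, mul_comm]
  exact Subgroup.index_mul_card _

theorem dl_iterate_pow {p : ℕ} (hp : p.Prime) (hexp : ∀ w : W, w ^ p = 1) (α : MulAut W) (j : ℕ)
    (w : W) : (dl α)^[p ^ j] w = (α ^ (p ^ j)) w * w⁻¹ := by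
  let a' : AddMonoid.End (Additive W) := MonoidHom.toAdditive α.toMonoidHom
  let n' : AddMonoid.End (Additive W) := MonoidHom.toAdditive (dl α)
  have h1 : a' = n' + 1 := by
    ext x
    induction x using Additive.rec with
    | ofMul v =>
      change Additive.ofMul (α v) = Additive.ofMul (α v * v⁻¹) + Additive.ofMul v
      rw [← ofMul_mul, inv_mul_cancel_right]
  have hpow_a : ∀ (k : ℕ) (x : W), (a' ^ k) (Additive.ofMul x) = Additive.ofMul ((α ^ k) x) := by
    intro k
    induction k with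
    | zero => intro x; rfl
    | succ k ih =>
      intro x
      rw [pow_succ, pow_succ]
      change (a' ^ k) (a' (Additive.ofMul x)) = Additive.ofMul ((α ^ k) (α x))
      exact ih (α x)
  have hpow_n : ∀ (k : ℕ) (x : W), (n' ^ k) (Additive.ofMul x) = Additive.ofMul ((dl α)^[k] x) := by
    intro k
    induction k with
    | zero => intro x; rfl
    | succ k ih =>
      intro x
      rw [pow_succ, Function.iterate_succ_apply]
      change (n' ^ k) (n' (Additive.ofMul x)) = _
      exact ih (dl α x)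
  obtain ⟨r, hr⟩ := (Commute.one_right n').exists_add_pow_prime_pow_eq hp j
  have hp0 : (p : AddMonoid.End (Additive W)) = 0 := by
    ext x
    induction x using Additive.rec with
    | ofMul v =>
      rw [AddMonoid.End.natCast_apply, ← ofMul_pow, hexp]
      rfl
  rw [← h1, hp0, zero_mul, zero_mul, zero_mul, add_zero, one_pow] at hr
  have h2 := DFunLike.congr_fun hr (Additive.ofMul w)
  rw [hpow_a] at h2
  change _ = (n' ^ p ^ j) (Additive.ofMul w) + Additive.ofMul w at h2
  rw [hpow_n, ← ofMul_mul] at h2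
  have h3 := Additive.ofMul.injective h2
  rw [h3, mul_inv_cancel_right]

/-- the chain of images -/
def ch (N : W →* W) : ℕ → Subgroup W
  | 0 => ⊤
  | k + 1 => (ch N k).map N

theorem mem_ch {N : W →* W} {k : ℕ} {w : W} : w ∈ ch N k ↔ ∃ v, N^[k] v = w := by
  induction k generalizing w with
  | zero => exact ⟨fun _ => ⟨w, rfl⟩, fun _ => Subgroup.mem_top w⟩
  | succ k ih =>
    change w ∈ (ch N k).map N ↔ _
    rw [Subgroup.mem_map]
    constructor
    · rintro ⟨x, hx, rfl⟩
      obtain ⟨v, rfl⟩ := ih.1 hx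
      exact ⟨v, Function.iterate_succ_apply' N k v⟩
    · rintro ⟨v, rfl⟩
      exact ⟨N^[k] v, ih.2 ⟨v, rfl⟩, (Function.iterate_succ_apply' N k v).symm⟩

theorem ch_succ_le (N : W →* W) (k : ℕ) : ch N (k + 1) ≤ ch N k := by
  induction k with
  | zero => exact le_top
  | succ k ih => exact Subgroup.map_mono ih

theorem ch_stable {N : W →* W} {k : ℕ} (h : ch N (k + 1) = ch N k) (j : ℕ) :
    ch N (k + j) = ch N k := by
  induction j with
  | zero => rfl
  | succ j ih =>
    change (ch N (k + j)).map N = _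
    rw [ih]
    exact h

theorem ch_step [Finite W] {p : ℕ} [Fact p.Prime] (hW : IsPGroup p W) {N : W →* W} {m : ℕ}
    (hnil : ch N m = ⊥) (k : ℕ) :
    ch N k = ⊥ ∨ Nat.card (ch N (k + 1)) * p ≤ Nat.card (ch N k) := by
  rcases eq_or_lt_of_le (ch_succ_le N k) with h | h
  · left
    have h1 := ch_stable h m
    have h2 : ch N (k + m) = ⊥ := by
      rw [Nat.add_comm]
      clear h1 h
      induction k with
      | zero => exact hnil
      | succ k ih =>
        change (ch N (m + k)).map N = ⊥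
        rw [ih, Subgroup.map_bot]
    rw [← h1, h2]
  · right
    obtain ⟨a, ha⟩ := (hW.to_subgroup (ch N k)).exists_card_eq
    obtain ⟨b, hb⟩ := (hW.to_subgroup (ch N (k + 1))).exists_card_eq
    have hlt : Nat.card (ch N (k + 1)) < Nat.card (ch N k) :=
      lt_of_le_of_ne (Subgroup.card_le_of_le h.le)
        (fun he => h.ne (Subgroup.eq_of_le_of_card_ge h.le he.ge))
    rw [ha, hb] at hlt ⊢
    have hp := (Fact.out : p.Prime)
    have hba : b < a := (Nat.pow_lt_pow_iff_right hp.one_lt).1 hlt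
    rw [← pow_succ]
    exact Nat.pow_le_pow_right hp.pos hba

theorem ch_bound [Finite W] {p : ℕ} [Fact p.Prime] (hW : IsPGroup p W) {N : W →* W} {m : ℕ}
    (hnil : ch N m = ⊥) {n : ℕ} (h1 : Nat.card (ch N 1) ≤ p ^ n) (j : ℕ) :
    Nat.card (ch N (1 + j)) ≤ p ^ (n - j) := by
  have hp := (Fact.out : p.Prime)
  induction j with
  | zero => exact h1
  | succ j ih =>
    rcases ch_step hW hnil (1 + j) with h | h
    · have h2 : ch N (1 + (j + 1)) = ⊥ := by
        change (ch N (1 + j)).map N = ⊥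
        rw [h, Subgroup.map_bot]
      rw [h2, Subgroup.card_bot]
      exact Nat.one_le_pow _ _ hp.pos
    · change Nat.card (ch N (1 + j + 1)) ≤ _
      by_cases hnj : n - j = 0
      · have h3 : Nat.card (ch N (1 + j + 1)) * p ≤ 1 := by
          rw [hnj, pow_zero] at ih
          exact h.trans ih
        have h4 : 0 < Nat.card (ch N (1 + j + 1)) := Nat.card_pos
        have := hp.two_le
        nlinarith
      · have h5 : n - j = (n - (j + 1)) + 1 := by omega
        rw [h5, pow_succ] at ih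
        exact Nat.le_of_mul_le_mul_right (h.trans ih) hp.pos

theorem isPGroup_of_exp {p : ℕ} (hexp : ∀ w : W, w ^ p = 1) : IsPGroup p W :=
  fun w => ⟨1, by rw [pow_one]; exact hexp w⟩

theorem ch_one (N : W →* W) : ch N 1 = N.range := by
  change (⊤ : Subgroup W).map N = _
  rw [MonoidHom.range_eq_map]

theorem ch_pow_eq {p : ℕ} (hp : p.Prime) (hexp : ∀ w : W, w ^ p = 1) (α : MulAut W) (j : ℕ) :
    ch (dl α) (p ^ j) = (dl (α ^ (p ^ j))).range := by
  ext w
  rw [mem_ch, MonoidHom.mem_range]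
  constructor
  · rintro ⟨v, rfl⟩
    exact ⟨v, (dl_iterate_pow hp hexp α j v).symm⟩
  · rintro ⟨v, rfl⟩
    exact ⟨v, dl_iterate_pow hp hexp α j v⟩

theorem ch_nil {p : ℕ} (hp : p.Prime) (hexp : ∀ w : W, w ^ p = 1) {α : MulAut W} {n : ℕ}
    (hα : α ^ (p ^ n) = 1) : ch (dl α) (p ^ n) = ⊥ := by
  rw [ch_pow_eq hp hexp, hα, eq_bot_iff]
  rintro _ ⟨v, rfl⟩
  rw [Subgroup.mem_bot, dl_apply, MulAut.one_apply, mul_inv_cancel]

theorem card_range_le [Finite W] {α : MulAut W} {c : ℕ}
    (hcard : Nat.card W ≤ c * Nat.card (fx α)) : Nat.card (dl α).range ≤ c := by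
  rw [← card_fx_mul_card_range α, mul_comm c] at hcard
  exact Nat.le_of_mul_le_mul_left hcard Nat.card_pos

/-- if `α` has order dividing `p ^ n` and `|W : C_W(α)| ≤ p ^ n`, then `α ^ p ^ (n - 1)` is a transvection -/
theorem rank_lemma [Finite W] {p : ℕ} [Fact p.Prime] (hexp : ∀ w : W, w ^ p = 1) (α : MulAut W)
    {n : ℕ} (hn : 1 ≤ n) (hα : α ^ (p ^ n) = 1) (hcard : Nat.card W ≤ p ^ n * Nat.card (fx α)) :
    Nat.card W ≤ p * Nat.card (fx (α ^ (p ^ (n - 1)))) := by
  have hp := (Fact.out : p.Prime)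
  have h1 : Nat.card (ch (dl α) 1) ≤ p ^ n := by
    rw [ch_one]
    exact card_range_le hcard
  have hq : n - 1 < p ^ (n - 1) := Nat.lt_pow_self hp.one_lt
  have h2 := ch_bound (isPGroup_of_exp hexp) (ch_nil hp hexp hα) h1 (p ^ (n - 1) - 1)
  have h3 : 1 + (p ^ (n - 1) - 1) = p ^ (n - 1) := by omega
  rw [h3, ch_pow_eq hp hexp] at h2
  have h4 : p ^ (n - (p ^ (n - 1) - 1)) ≤ p ^ 1 := Nat.pow_le_pow_right hp.pos (by omega)
  rw [pow_one] at h4
  rw [← card_fx_mul_card_range (α ^ (p ^ (n - 1))), mul_comm]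
  exact Nat.mul_le_mul_right _ (h2.trans h4)

/-- a transvection of order dividing `p` acts quadratically -/
theorem quad_lemma [Finite W] {p : ℕ} [Fact p.Prime] (hexp : ∀ w : W, w ^ p = 1) (α : MulAut W)
    (hα : α ^ p = 1) (hcard : Nat.card W ≤ p * Nat.card (fx α)) (w : W) :
    α (α w * w⁻¹) = α w * w⁻¹ := by
  have hp := (Fact.out : p.Prime)
  have h1 : Nat.card (ch (dl α) 1) ≤ p ^ 1 := by
    rw [ch_one, pow_one]
    exact card_range_le hcard
  have h2 := ch_bound (isPGroup_of_exp hexp) (ch_nil (n := 1) hp hexp (by rwa [pow_one])) h1 1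
  rw [Nat.sub_self, pow_zero] at h2
  have h3 : ch (dl α) (1 + 1) = ⊥ :=
    Subgroup.card_eq_one.1 (le_antisymm h2 Nat.card_pos)
  have h4 : (dl α)^[1 + 1] w ∈ ch (dl α) (1 + 1) := mem_ch.2 ⟨w, rfl⟩
  rw [h3, Subgroup.mem_bot] at h4
  change dl α (dl α w) = 1 at h4
  rw [dl_apply, mul_inv_eq_one] at h4
  exact h4

theorem pow_apply_of_dl (η : MulAut W) {u v : W} (hu : η v * v⁻¹ = u) (hfix : η u = u) (k : ℕ) :
    (η ^ k) v = v * u ^ k := by
  induction k with
  | zero => simp
  | succ k ih =>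
    rw [pow_succ', MulAut.mul_apply, ih, map_mul, map_pow, hfix, pow_succ', ← mul_assoc]
    congr 1
    rw [← hu, mul_comm v, inv_mul_cancel_right]

theorem pow_orderOf_eq_one_of_mem (η : MulAut W) {u : W} (hu : u ∈ (dl η).range) (hfix : η u = u) :
    u ^ orderOf η = 1 := by
  obtain ⟨v, hv⟩ := hu
  have h := pow_apply_of_dl η hv hfix (orderOf η)
  rw [pow_orderOf_eq_one, MulAut.one_apply] at h
  exact (mul_eq_left.1 h.symm)

/-- `[W, η] ∩ C_W(η) = 1` for coprime `η` -/
theorem eq_one_of_mem_range_of_fix {p : ℕ} (hexp : ∀ w : W, w ^ p = 1) (η : MulAut W)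
    (hcop : (orderOf η).Coprime p) {u : W} (hu : u ∈ (dl η).range) (hfix : η u = u) : u = 1 := by
  have h1 := pow_orderOf_eq_one_of_mem η hu hfix
  have h2 : orderOf u ∣ Nat.gcd (orderOf η) p :=
    Nat.dvd_gcd (orderOf_dvd_of_pow_eq_one h1) (orderOf_dvd_of_pow_eq_one (hexp u))
  rw [hcop.gcd_eq_one, Nat.dvd_one, orderOf_eq_one_iff] at h2
  exact h2

theorem fix_pow {α : MulAut W} {w : W} (h : α w = w) (k : ℕ) : (α ^ k) w = w := by
  induction k with
  | zero => rfl
  | succ k ih => rw [pow_succ, MulAut.mul_apply, h, ih]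

theorem fix_of_sq_fix {η : MulAut W} (hodd : Odd (orderOf η)) {w : W} (h : η (η w) = w) :
    η w = w := by
  obtain ⟨k, hk⟩ := hodd
  have h1 : (η ^ 2) w = w := by rw [pow_two, MulAut.mul_apply, h]
  have h2 := fix_pow h1 (k + 1)
  have h3 : (η ^ 2) ^ (k + 1) = η := by
    rw [← pow_mul, show 2 * (k + 1) = orderOf η + 1 by omega, pow_succ, pow_orderOf_eq_one, one_mul]
  rwa [h3] at h2

theorem dl_range_inv_of_inverts {τ η : MulAut W} (hinv : τ * η * τ⁻¹ = η⁻¹) {w : W}
    (hw : w ∈ (dl η).range) : τ w ∈ (dl η).range := by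
  obtain ⟨v, rfl⟩ := hw
  have h1 : ∀ x, τ (η x) = η⁻¹ (τ x) := by
    intro x
    have h2 : τ * η = η⁻¹ * τ := by rw [← hinv]; group
    exact DFunLike.congr_fun h2 x
  refine ⟨(η⁻¹ (τ v))⁻¹, ?_⟩
  rw [dl_apply, dl_apply, map_mul, map_inv, map_inv, h1, inv_inv, MulAut.apply_inv_self, mul_comm]

/-- the configuration leading to `S₄` -/
theorem dihedral_config [Finite W] (hexp : ∀ w : W, w ^ 2 = 1) (τ η : MulAut W)
    (hinv : τ * η * τ⁻¹ = η⁻¹) (hodd : Odd (orderOf η)) (hη : η ≠ 1)
    (hτ : Nat.card W ≤ 2 * Nat.card (fx τ)) :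
    ∃ W₁ : Subgroup W, Nat.card W₁ = 4 ∧ (∀ w ∈ W₁, τ w ∈ W₁) ∧ (∀ w ∈ W₁, η w ∈ W₁) ∧
      (∀ w ∈ W₁, η w = w → w = 1) ∧ ∃ w ∈ W₁, τ w ≠ w := by
  have hcop : (orderOf η).Coprime 2 := Nat.coprime_two_right.2 hodd
  have h1 : ∀ x, τ (η x) = η⁻¹ (τ x) := by
    intro x
    have h2 : τ * η = η⁻¹ * τ := by rw [← hinv]; group
    exact DFunLike.congr_fun h2 x
  have hfpf : ∀ w ∈ (dl η).range, η w = w → w = 1 :=
    fun w hw h => eq_one_of_mem_range_of_fix hexp η hcop hw h
  have hηinv : ∀ w ∈ (dl η).range, η w ∈ (dl η).range := by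
    rintro _ ⟨v, rfl⟩
    exact ⟨η v, by rw [dl_apply, dl_apply, map_mul, map_inv]⟩
  have hne : (dl η).range ≠ ⊥ := by
    intro h
    apply hη
    ext w
    have h2 : dl η w ∈ (dl η).range := ⟨w, rfl⟩
    rw [h, Subgroup.mem_bot, dl_apply, mul_inv_eq_one] at h2
    rw [h2, MulAut.one_apply]
  have hidx : (fx τ).index ≤ 2 := by
    rw [← (fx τ).index_mul_card] at hτ
    exact Nat.le_of_mul_le_mul_right hτ Nat.card_pos
  have hle : fx τ ⊓ (fx τ).map (η : W ≃* W).toMonoidHom ≤ fx η := by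
    rintro w ⟨hw1, x, hx, rfl⟩
    have hx : τ x = x := mem_fx.1 hx
    have hw1 : τ (η x) = η x := mem_fx.1 hw1
    rw [h1, hx] at hw1
    have h3 : η (η x) = x := by rw [← hw1, MulAut.apply_inv_self]
    have h4 := fix_of_sq_fix hodd h3
    rw [mem_fx]
    change η (η x) = η x
    rw [h4, h4]
  have hidx2 : (fx η).index ≤ 4 := by
    calc (fx η).index ≤ (fx τ ⊓ (fx τ).map (η : W ≃* W).toMonoidHom).index :=
          Subgroup.index_antitone hle
      _ ≤ (fx τ).index * ((fx τ).map (η : W ≃* W).toMonoidHom).index := Subgroup.index_inf_le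
      _ = (fx τ).index * (fx τ).index := by
          congr 1
          exact Subgroup.index_map_equiv (fx τ) η
      _ ≤ 2 * 2 := Nat.mul_le_mul hidx hidx
  have hcard : Nat.card (dl η).range ≤ 4 := by
    rw [← Subgroup.index_ker]
    exact hidx2
  refine ⟨(dl η).range, ?_, fun w hw => dl_range_inv_of_inverts hinv hw, hηinv, hfpf, ?_⟩
  · obtain ⟨a, ha⟩ := ((isPGroup_of_exp hexp).to_subgroup (dl η).range).exists_card_eq
    have ha2 : a ≤ 2 := by
      by_contra hlt
      have : 2 ^ 3 ≤ 2 ^ a := Nat.pow_le_pow_right (by norm_num) (by omega)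
      omega
    interval_cases a
    · exact absurd (Subgroup.card_eq_one.1 (by simpa using ha)) hne
    · exfalso
      rw [pow_one] at ha
      obtain ⟨u, hu1, hu2⟩ := (Nat.card_eq_two_iff' (1 : (dl η).range)).1 ha
      have h5 : (⟨η u, hηinv u u.2⟩ : (dl η).range) = u := by
        apply hu2
        intro h
        apply hu1
        have h6 : η (u : W) = 1 := congrArg Subtype.val h
        apply Subtype.ext
        rw [Subgroup.coe_one]
        exact (map_eq_one_iff η η.injective).1 h6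
      exact hu1 (Subtype.ext (hfpf u u.2 (congrArg Subtype.val h5)))
    · simpa using ha
  · by_contra hall
    push Not at hall
    apply hne
    rw [eq_bot_iff]
    intro w hw
    rw [Subgroup.mem_bot]
    apply hfpf w hw
    apply fix_of_sq_fix hodd
    have h7 := h1 w
    rw [hall _ (hηinv w hw), hall w hw] at h7
    rw [h7, MulAut.apply_inv_self]

end Cfsg.Agent.Lib.Helper1.Off
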