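import Cfsg.Agent.Lib.Helper1.Off1
import Cfsg.Agent.Lib.Helper1.Fpf2

set_option autoImplicit false

/-! An abelian `p`-group acting non-trivially on an abelian `p'`-group: a cyclic Frobenius section. -/

namespace Cfsg.Agent.Lib.Helper1.Off

section res
variable {D M : Type*} [Group D] [Group M]

/-- restriction of an action to an invariant subgroup -/
def resAct (φ : D →* MulAut M) (L : Subgroup M) (h : ∀ d, ∀ x ∈ L, φ d x ∈ L) : D →* MulAut L where
  toFun d :=
    { toFun := fun x => ⟨φ d x, h d x x.2⟩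
      invFun := fun x => ⟨φ d⁻¹ x, h d⁻¹ x x.2⟩
      left_inv := fun x => Subtype.ext (by simp)
      right_inv := fun x => Subtype.ext (by simp)
      map_mul' := fun x y => Subtype.ext (map_mul _ _ _) }
  map_one' := by ext x; simp
  map_mul' a b := by ext x; simp

theorem resAct_apply (φ : D →* MulAut M) (L : Subgroup M) (h : ∀ d, ∀ x ∈ L, φ d x ∈ L) (d : D)
    (x : L) : ((resAct φ L h d x : L) : M) = φ d x := rfl

/-- the fixed points of a subgroup -/
def fixB (φ : D →* MulAut M) (B : Subgroup D) : Subgroup M where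
  carrier := {x | ∀ b ∈ B, φ b x = x}
  one_mem' := fun b _ => map_one _
  mul_mem' := fun ha hb b hB => by rw [map_mul, ha b hB, hb b hB]
  inv_mem' := fun ha b hB => by rw [map_inv, ha b hB]

theorem mem_fixB {φ : D →* MulAut M} {B : Subgroup D} {x : M} :
    x ∈ fixB φ B ↔ ∀ b ∈ B, φ b x = x := Iff.rfl

/-- the stabilizer of a point -/
def stab (φ : D →* MulAut M) (x : M) : Subgroup D where
  carrier := {d | φ d x = x}
  one_mem' := by simp
  mul_mem' := fun {a b} ha hb => by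
    change φ (a * b) x = x
    rw [map_mul, MulAut.mul_apply, hb, ha]
  inv_mem' := fun {a} ha => by
    change φ a⁻¹ x = x
    rw [map_inv]
    nth_rewrite 1 [← (ha : φ a x = x)]
    exact MulAut.inv_apply_self _ _ _

theorem mem_stab {φ : D →* MulAut M} {x : M} {d : D} : d ∈ stab φ x ↔ φ d x = x := Iff.rfl

theorem mem_fixB_iff_le_stab {φ : D →* MulAut M} {B : Subgroup D} {x : M} :
    x ∈ fixB φ B ↔ B ≤ stab φ x := Iff.rfl

theorem fixB_inv (hD : ∀ a b : D, a * b = b * a) (φ : D →* MulAut M) (B : Subgroup D) (d : D)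
    {x : M} (hx : x ∈ fixB φ B) : φ d x ∈ fixB φ B := by
  intro b hb
  rw [← MulAut.mul_apply, ← map_mul, hD b d, map_mul, MulAut.mul_apply, hx b hb]

theorem exists_max_B [Finite D] (φ : D →* MulAut M) (h : ∃ d x, φ d x ≠ x) :
    ∃ B : Subgroup D, (∃ d, ∃ x ∈ fixB φ B, φ d x ≠ x) ∧
      ∀ B', B < B' → ∀ d, ∀ x ∈ fixB φ B', φ d x = x := by
  obtain ⟨d, x, hdx⟩ := h
  obtain ⟨B, hB, hmax⟩ := Set.exists_max_image {B : Subgroup D | ∃ d, ∃ x ∈ fixB φ B, φ d x ≠ x}
    (fun B => Nat.card B) (Set.toFinite _) ⟨⊥, d, x, by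
      intro b hb
      rw [Subgroup.mem_bot] at hb
      rw [hb, map_one, MulAut.one_apply], hdx⟩
  refine ⟨B, hB, ?_⟩
  intro B' hBB' d' x' hx'
  by_contra hne
  have h1 := hmax B' ⟨d', x', hx', hne⟩
  exact hBB'.ne (Subgroup.eq_of_le_of_card_ge hBB'.le h1)

end res

section nrm
variable {D Q : Type*} [Group D] [Fintype D] [CommGroup Q]

/-- the norm map -/
def nrm (φ : D →* MulAut Q) : Q →* Q where
  toFun x := ∏ d : D, φ d x
  map_one' := by simp
  map_mul' := by intro a b; simp [Finset.prod_mul_distrib]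

theorem nrm_apply (φ : D →* MulAut Q) (x : Q) : nrm φ x = ∏ d : D, φ d x := rfl

theorem nrm_act (φ : D →* MulAut Q) (d : D) (x : Q) : nrm φ (φ d x) = nrm φ x := by
  rw [nrm_apply, nrm_apply]
  apply Fintype.prod_equiv (Equiv.mulRight d)
  intro e
  rw [Equiv.coe_mulRight, map_mul, MulAut.mul_apply]

theorem nrm_of_fixed (φ : D →* MulAut Q) {x : Q} (h : ∀ d, φ d x = x) :
    nrm φ x = x ^ Fintype.card D := by
  rw [nrm_apply, Finset.prod_congr rfl (fun d _ => h d), Finset.prod_const, Finset.card_univ]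

end nrm

theorem frob_section {D Q : Type*} [Group D] [Finite D] [CommGroup Q] [Finite Q] {p : ℕ}
    [Fact p.Prime] (hD : ∀ a b : D, a * b = b * a) (hDp : IsPGroup p D)
    (hQ : (Nat.card Q).Coprime p) (φ : D →* MulAut Q) (hnt : ∃ d x, φ d x ≠ x) :
    ∃ (B : Subgroup D) (L : Subgroup Q) (a : D) (n : ℕ), 1 ≤ n ∧ L ≠ ⊥ ∧
      (∀ d, ∀ x ∈ L, φ d x ∈ L) ∧ (∀ b ∈ B, ∀ x ∈ L, φ b x = x) ∧
      (∀ d, d ∉ B → ∀ x ∈ L, φ d x = x → x = 1) ∧ a ^ (p ^ n) ∈ B ∧ a ^ (p ^ (n - 1)) ∉ B ∧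
      (∀ d, ∃ i : ℤ, ∃ b ∈ B, d = a ^ i * b) ∧ Nat.card D = p ^ n * Nat.card B := by
  classical
  have hp := (Fact.out : p.Prime)
  have := Fintype.ofFinite D
  obtain ⟨B, ⟨d₀, x₀, hx₀, hdx₀⟩, hmax⟩ := exists_max_B φ hnt
  let L : Subgroup Q := fixB φ B ⊓ (nrm φ).ker
  have hLinv : ∀ d, ∀ x ∈ L, φ d x ∈ L := by
    rintro d x ⟨h1, h2⟩
    refine ⟨fixB_inv hD φ B d h1, ?_⟩
    have h2 : nrm φ x = 1 := h2
    change nrm φ (φ d x) = 1
    rw [nrm_act, h2]
  have hLB : ∀ b ∈ B, ∀ x ∈ L, φ b x = x := fun b hb x hx => hx.1 b hb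
  have hcop : (Nat.card Q).Coprime (Nat.card D) := by
    obtain ⟨k, hk⟩ := hDp.exists_card_eq
    rw [hk]
    exact Nat.Coprime.pow_right k hQ
  have hLfix : ∀ x ∈ L, (∀ d, φ d x = x) → x = 1 := by
    intro x hx h
    have h1 : nrm φ x = 1 := hx.2
    rw [nrm_of_fixed φ h, ← Nat.card_eq_fintype_card] at h1
    have h2 : orderOf x ∣ Nat.gcd (Nat.card Q) (Nat.card D) :=
      Nat.dvd_gcd (orderOf_dvd_natCard x) (orderOf_dvd_of_pow_eq_one h1)
    rw [hcop.gcd_eq_one, Nat.dvd_one, orderOf_eq_one_iff] at h2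
    exact h2
  have hfree : ∀ d, d ∉ B → ∀ x ∈ L, φ d x = x → x = 1 := by
    intro d hd x hx hdx
    apply hLfix x hx
    intro d'
    apply hmax (B ⊔ Subgroup.zpowers d) _ d' x
    · rw [mem_fixB_iff_le_stab]
      apply sup_le
      · exact mem_fixB_iff_le_stab.1 hx.1
      · rw [Subgroup.zpowers_le]
        exact hdx
    · apply lt_of_le_of_ne le_sup_left
      intro h
      apply hd
      rw [h]
      exact (le_sup_right : Subgroup.zpowers d ≤ _) (Subgroup.mem_zpowers d)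
  have hLne : L ≠ ⊥ := by
    intro h
    have h1 : φ d₀ x₀ * x₀⁻¹ ∈ L := by
      refine ⟨(fixB φ B).mul_mem (fixB_inv hD φ B d₀ hx₀) ((fixB φ B).inv_mem hx₀), ?_⟩
      change nrm φ (φ d₀ x₀ * x₀⁻¹) = 1
      rw [map_mul, map_inv, nrm_act, mul_inv_cancel]
    rw [h, Subgroup.mem_bot, mul_inv_eq_one] at h1
    exact hdx₀ h1
  let θ := resAct φ L hLinv
  have hker : ∀ d, θ d = 1 ↔ d ∈ B := by
    intro d
    constructor
    · intro h
      by_contra hd
      apply hLne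
      rw [eq_bot_iff]
      intro x hx
      rw [Subgroup.mem_bot]
      apply hfree d hd x hx
      have := DFunLike.congr_fun h ⟨x, hx⟩
      exact congrArg Subtype.val this
    · intro hd
      ext x
      exact hLB d hd x x.2
  have : Nontrivial L := (Subgroup.nontrivial_iff_ne_bot L).2 hLne
  have hcyc : IsCyclic θ.range := by
    apply fpf_isCyclic_of_comm θ.range.subtype
    · rintro ⟨_, d, rfl⟩ hne v hv
      have hd : d ∉ B := fun h => hne (Subtype.ext ((hker d).2 h))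
      apply Subtype.ext
      exact hfree d hd v v.2 (congrArg Subtype.val hv)
    · rintro ⟨_, a, rfl⟩ ⟨_, b, rfl⟩
      apply Subtype.ext
      change θ a * θ b = θ b * θ a
      rw [← map_mul, ← map_mul, hD]
  obtain ⟨⟨_, a, rfl⟩, hg⟩ := hcyc.exists_generator
  have hgen : ∀ d, ∃ i : ℤ, ∃ b ∈ B, d = a ^ i * b := by
    intro d
    obtain ⟨i, hi⟩ := Subgroup.mem_zpowers_iff.1 (hg ⟨θ d, d, rfl⟩)
    have hi' : θ a ^ i = θ d := by
      have := congrArg Subtype.val hi
      simpa using this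
    refine ⟨i, (a ^ i)⁻¹ * d, ?_, by group⟩
    rw [← hker, map_mul, map_inv, map_zpow, hi', inv_mul_cancel]
  obtain ⟨k, hk⟩ := (IsPGroup.iff_orderOf.1 hDp) a
  obtain ⟨n, hn, hord⟩ := (Nat.dvd_prime_pow hp).1 (hk ▸ orderOf_map_dvd θ a)
  have hn1 : 1 ≤ n := by
    by_contra h0
    have h00 : n = 0 := by omega
    rw [h00, pow_zero, orderOf_eq_one_iff] at hord
    have haB := (hker a).1 hord
    obtain ⟨i, b, hb, hd⟩ := hgen d₀
    apply hdx₀
    apply hx₀
    rw [hd]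
    exact mul_mem (zpow_mem haB i) hb
  refine ⟨B, L, a, n, hn1, hLne, hLinv, hLB, hfree, ?_, ?_, hgen, ?_⟩
  · rw [← hker, map_pow, ← hord, pow_orderOf_eq_one]
  · rw [← hker, map_pow]
    intro h
    have h1 := orderOf_dvd_of_pow_eq_one h
    rw [hord] at h1
    have := (Nat.pow_dvd_pow_iff_le_right hp.one_lt).1 h1
    omega
  · have h1 : θ.ker = B := by
      ext d
      rw [MonoidHom.mem_ker, hker]
    have h2 : Nat.card θ.range = p ^ n := by
      rw [← hord, ← orderOf_eq_card_of_forall_mem_zpowers hg]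
      exact Subgroup.orderOf_mk (H := θ.range) (θ a) (MonoidHom.mem_range.2 ⟨a, rfl⟩)
    rw [← h2, ← Subgroup.index_ker, h1]
    exact (B.index_mul_card).symm

end Cfsg.Agent.Lib.Helper1.Off
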