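import Cfsg.Agent.Lib.Helper1.Off2
import Cfsg.Agent.Lib.Helper62.QuadAction

set_option autoImplicit false

/-! No offenders for abelian `p`-groups acting on (abelian `p'`) on (elementary abelian `p`), except for `S₃` on `2²`. -/

namespace Cfsg.Agent.Lib.Helper1.Off

theorem exists_fixed_ne_one {P U : Type*} [Group P] [Group U] [Finite U] [Nontrivial U] {p : ℕ}
    [Fact p.Prime] (hP : IsPGroup p P) (hU : IsPGroup p U) (f : P →* MulAut U) :
    ∃ u : U, u ≠ 1 ∧ ∀ b, f b u = u := by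
  let _ : MulAction P U := MulAction.compHom U f
  have hdvd : p ∣ Nat.card U := by
    obtain ⟨n, hn0, hn⟩ := hU.nontrivial_iff_card.mp inferInstance
    exact hn.symm ▸ dvd_pow_self _ (ne_of_gt hn0)
  have h1 : (1 : U) ∈ MulAction.fixedPoints P U := by
    intro z
    change f z 1 = 1
    exact map_one _
  obtain ⟨b, hb, hb1⟩ := hP.exists_fixed_point_of_prime_dvd_card_of_fixed_point U hdvd h1
  exact ⟨b, fun h => hb1 h.symm, fun z => hb z⟩

theorem pq_abstract {D Q V : Type*} [Group D] [CommGroup Q] [Finite Q] [CommGroup V]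
    [Finite V] {p : ℕ} [Fact p.Prime] (hDp : IsPGroup p D) (hQ : (Nat.card Q).Coprime p)
    (hV : ∀ v : V, v ^ p = 1) (ρ : D →* MulAut V) (σ : Q →* MulAut V) (B : Subgroup D) (x : Q)
    (hcomm : ∀ b ∈ B, ∀ v, ρ b (σ x v) = σ x (ρ b v))
    (htriv : ∀ w ∈ fixB ρ B, σ x w = w) : σ x = 1 := by
  have hcop : (orderOf (σ x)).Coprime p :=
    Nat.Coprime.coprime_dvd_left ((orderOf_map_dvd σ x).trans (orderOf_dvd_natCard x)) hQ
  by_contra hne
  have hUne : (dl (σ x)).range ≠ ⊥ := by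
    intro h
    apply hne
    ext w
    have h2 : dl (σ x) w ∈ (dl (σ x)).range := ⟨w, rfl⟩
    rw [h, Subgroup.mem_bot, dl_apply, mul_inv_eq_one] at h2
    rw [h2, MulAut.one_apply]
  have hinv : ∀ b : B, ∀ u ∈ (dl (σ x)).range, (ρ.comp B.subtype) b u ∈ (dl (σ x)).range := by
    rintro b _ ⟨v, rfl⟩
    refine ⟨ρ b v, ?_⟩
    change _ = ρ b (dl (σ x) v)
    rw [dl_apply, dl_apply, map_mul, map_inv, hcomm b b.2]
  have : Nontrivial (dl (σ x)).range := (Subgroup.nontrivial_iff_ne_bot _).2 hUne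
  obtain ⟨u, hu1, hu⟩ := exists_fixed_ne_one (hDp.to_subgroup B)
    ((isPGroup_of_exp hV).to_subgroup (dl (σ x)).range) (resAct (ρ.comp B.subtype) _ hinv)
  apply hu1
  apply Subtype.ext
  apply eq_one_of_mem_range_of_fix hV (σ x) hcop u.2
  apply htriv
  intro b hb
  exact congrArg Subtype.val (hu ⟨b, hb⟩)

theorem offender_main {D Q V : Type*} [Group D] [Finite D] [CommGroup Q] [Finite Q] [CommGroup V]
    [Finite V] {p : ℕ} [Fact p.Prime]
    (hD : ∀ a b : D, a * b = b * a) (hDp : IsPGroup p D) (hQ : (Nat.card Q).Coprime p)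
    (hV : ∀ v : V, v ^ p = 1)
    (φ : D →* MulAut Q) (ρ : D →* MulAut V) (σ : Q →* MulAut V)
    (hc : ∀ d x v, ρ d (σ x v) = σ (φ d x) (ρ d v)) (hinj : Function.Injective σ)
    (hoff : ∀ B : Subgroup D, Nat.card (fixB ρ B) * Nat.card B ≤ Nat.card (fixB ρ ⊤) * Nat.card D)
    (hnt : ∃ d x, φ d x ≠ x) :
    p = 2 ∧ ∃ (a : D) (y : Q) (W₁ : Subgroup V), Nat.card W₁ = 4 ∧ (∀ w ∈ W₁, ρ a w ∈ W₁) ∧
      (∀ w ∈ W₁, σ y w ∈ W₁) ∧ (∀ w ∈ W₁, σ y w = w → w = 1) ∧ (∃ w ∈ W₁, ρ a w ≠ w) ∧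
      φ a y = y⁻¹ := by
  have hp := (Fact.out : p.Prime)
  obtain ⟨B, L, a, n, hn1, hLne, hLinv, hLB, hfree, haB, ha1, hgen, hcard⟩ :=
    frob_section hD hDp hQ φ hnt
  have hWD : ∀ d, ∀ w ∈ fixB ρ B, ρ d w ∈ fixB ρ B := fun d w hw => fixB_inv hD ρ B d hw
  have hWL : ∀ x : L, ∀ w ∈ fixB ρ B, (σ.comp L.subtype) x w ∈ fixB ρ B := by
    intro x w hw b hb
    change ρ b (σ x w) = σ x w
    rw [hc, hLB b hb x x.2, hw b hb]
  let ρW := resAct ρ (fixB ρ B) hWD
  let σW := resAct (σ.comp L.subtype) (fixB ρ B) hWL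
  let θ := resAct φ L hLinv
  have hexpW : ∀ w : fixB ρ B, w ^ p = 1 := fun w => Subtype.ext (hV w)
  have hρB : ∀ b ∈ B, ρW b = 1 := by
    intro b hb
    ext w
    exact w.2 b hb
  have hα : (ρW a) ^ (p ^ n) = 1 := by rw [← map_pow]; exact hρB _ haB
  have hfx : Nat.card (fx (ρW a)) = Nat.card (fixB ρ ⊤) := by
    rw [← Subgroup.card_map_of_injective (fixB ρ B).subtype_injective]
    congr 2
    ext w
    constructor
    · rintro ⟨w', hw', rfl⟩
      have h1 : ρ a w' = w' := congrArg Subtype.val (mem_fx.1 hw')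
      rw [mem_fixB_iff_le_stab]
      intro d _
      obtain ⟨i, b, hb, rfl⟩ := hgen d
      exact mul_mem (zpow_mem (mem_stab.2 h1) i) (mem_stab.2 (w'.2 b hb))
    · intro hw
      refine ⟨⟨w, fun b _ => hw b (Subgroup.mem_top b)⟩, ?_, rfl⟩
      rw [SetLike.mem_coe, mem_fx]
      exact Subtype.ext (hw a (Subgroup.mem_top a))
  have hcardW : Nat.card (fixB ρ B) ≤ p ^ n * Nat.card (fx (ρW a)) := by
    have h1 := hoff B
    rw [hcard, ← hfx, ← mul_assoc] at h1
    rw [mul_comm (p ^ n)]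
    exact Nat.le_of_mul_le_mul_right h1 Nat.card_pos
  have hrank := rank_lemma hexpW (ρW a) hn1 hα hcardW
  rw [← map_pow] at hrank
  obtain ⟨a₁, ha₁⟩ : ∃ a₁, a₁ = a ^ (p ^ (n - 1)) := ⟨_, rfl⟩
  rw [← ha₁] at hrank ha1
  have ha₁p : a₁ ^ p ∈ B := by
    rw [ha₁, ← pow_mul, ← pow_succ, Nat.sub_add_cancel hn1]
    exact haB
  have hα₁p : (ρW a₁) ^ p = 1 := by rw [← map_pow]; exact hρB _ ha₁p
  have hconj : ∀ (d : D) (x : L), ρW d * σW x * (ρW d)⁻¹ = σW (θ d x) := by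
    intro d x
    rw [mul_inv_eq_iff_eq_mul]
    ext w
    exact hc d x w
  have hex : ∃ y : L, σW y ≠ 1 := by
    by_contra hall
    push Not at hall
    apply hLne
    rw [eq_bot_iff]
    intro x hx
    rw [Subgroup.mem_bot]
    apply hinj
    rw [map_one]
    apply pq_abstract hDp hQ hV ρ σ B x
    · intro b hb v
      rw [hc, hLB b hb x hx]
    · intro w hw
      exact congrArg Subtype.val (DFunLike.congr_fun (hall ⟨x, hx⟩) ⟨w, hw⟩)
  have hfree' : ∀ x : L, θ a₁ x = x → x = 1 := by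
    intro x hx
    exact Subtype.ext (hfree a₁ ha1 x x.2 (congrArg Subtype.val hx))
  by_cases hp2 : p = 2
  · refine ⟨hp2, ?_⟩
    subst hp2
    have hinvL : ∀ x : L, θ a₁ x = x⁻¹ := by
      intro x
      have h1 : θ a₁ (x * θ a₁ x) = x * θ a₁ x := by
        rw [map_mul, ← MulAut.mul_apply, ← map_mul, ← pow_two, mul_comm]
        congr 1
        exact Subtype.ext (hLB _ ha₁p x x.2)
      have h2 := hfree' _ h1
      exact (eq_inv_of_mul_eq_one_right h2)
    obtain ⟨y, hy⟩ := hex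
    have hodd : Odd (orderOf (σW y)) := by
      rw [← Nat.coprime_two_right]
      apply Nat.Coprime.coprime_dvd_left _ hQ
      exact (orderOf_map_dvd σW y).trans
        ((orderOf_dvd_natCard y).trans (Subgroup.card_subgroup_dvd_card L))
    obtain ⟨W₁, h1, h2, h3, h4, w, hw, h5⟩ := dihedral_config hexpW (ρW a₁) (σW y)
      (by rw [hconj, hinvL, map_inv]) hodd hy hrank
    refine ⟨a₁, y, W₁.map (fixB ρ B).subtype, ?_, ?_, ?_, ?_, ?_, ?_⟩
    · rw [Subgroup.card_map_of_injective (fixB ρ B).subtype_injective, h1]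
    · rintro _ ⟨w, hw, rfl⟩
      exact ⟨_, h2 w hw, rfl⟩
    · rintro _ ⟨w, hw, rfl⟩
      exact ⟨_, h3 w hw, rfl⟩
    · rintro _ ⟨w, hw, rfl⟩ h
      have := h4 w hw (Subtype.ext h)
      rw [this]
      rfl
    · exact ⟨w, ⟨w, hw, rfl⟩, fun h => h5 (Subtype.ext h)⟩
    · exact congrArg Subtype.val (hinvL y)
  · exfalso
    obtain ⟨y, hy⟩ := hex
    apply hy
    have hquad := quad_lemma hexpW (ρW a₁) hα₁p hrank
    have hfin : Finite σW.range := inferInstance
    have key := Cfsg.Agent.Lib.Helper62.quad_centralizes_aut hp hp2 hexpW σW.range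
      (by
        rintro _ ⟨x, rfl⟩ _ ⟨z, rfl⟩
        rw [← map_mul, ← map_mul, mul_comm])
      (by
        apply Nat.Coprime.coprime_dvd_left _ hQ
        exact (Subgroup.card_range_dvd σW).trans (Subgroup.card_subgroup_dvd_card L))
      (ρW a₁)
      (by
        rintro _ ⟨x, rfl⟩
        refine ⟨θ a₁⁻¹ x, ?_⟩
        rw [← hconj, map_inv, inv_inv])
      (by
        rintro _ ⟨x, rfl⟩
        exact ⟨θ a₁ x, (hconj a₁ x).symm⟩)
      hquad
    have hinjc : Function.Injective (dl (θ a₁)) := by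
      rw [injective_iff_map_eq_one]
      intro x hx
      rw [dl_apply, mul_inv_eq_one] at hx
      exact hfree' x hx
    obtain ⟨x, rfl⟩ := (Finite.injective_iff_surjective.1 hinjc) y
    rw [dl_apply, map_mul, map_inv, ← hconj, key _ ⟨x, rfl⟩, mul_inv_cancel_right, mul_inv_cancel]

end Cfsg.Agent.Lib.Helper1.Off
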