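import Mathlib
import Cfsg.Prelude.Def_LocalEven
import Cfsg.Agent.Lib.Helper1.Coprime
import Cfsg.Agent.Lib.Helper11.NPC
import Cfsg.Agent.Lib.Helper40.PComp

set_option autoImplicit false

/-! Recognising `S₄` as a section. -/

namespace Cfsg.Agent.Lib.Helper1

theorem involves_of_surjective {H : Type*} [Group H] {G : Type*} [Group G] (M : Subgroup G)
    (f : M →* H) (hf : Function.Surjective f) : Cfsg.Involves H G := by
  have h1 : (f.ker.map M.subtype).subgroupOf M = f.ker :=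
    Subgroup.comap_map_eq_self_of_injective M.subtype_injective f.ker
  have hn : ((f.ker.map M.subtype).subgroupOf M).Normal := by
    rw [h1]
    infer_instance
  exact ⟨M, f.ker.map M.subtype, hn,
    ⟨(QuotientGroup.quotientMulEquivOfEq h1).trans (QuotientGroup.quotientKerEquivOfSurjective f hf)⟩⟩

theorem card_sup_of_disjoint_le_normalizer {G : Type*} [Group G] {H N : Subgroup G}
    (hLE : H ≤ Subgroup.normalizer (N : Set G)) (h : N ⊓ H = ⊥) :
    Nat.card (H ⊔ N : Subgroup G) = Nat.card H * Nat.card N := by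
  rw [← card_mul_relIndex (le_sup_right : N ≤ H ⊔ N), relIndex_sup_right_of_le_normalizer hLE,
    mul_comm]
  congr 1
  have h1 := card_mul_relIndex (inf_le_right : N ⊓ H ≤ H)
  rwa [Subgroup.inf_relIndex_right, h, Subgroup.card_bot, one_mul] at h1

theorem six_le_card_of_orders {Γ : Type*} [Group Γ] [Finite Γ] (y s : Γ) (hy : Odd (orderOf y))
    (hy1 : y ≠ 1) (hs : ∃ j : ℕ, s ^ 2 ^ j = 1) (hs1 : s ≠ 1) : 6 ≤ Nat.card Γ := by
  obtain ⟨j, hj⟩ := hs
  obtain ⟨i, -, hi⟩ := (Nat.dvd_prime_pow Nat.prime_two).1 (orderOf_dvd_of_pow_eq_one hj)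
  have hi0 : i ≠ 0 := by
    rintro rfl
    rw [pow_zero, orderOf_eq_one_iff] at hi
    exact hs1 hi
  have h2 : 2 ∣ Nat.card Γ := by
    apply Dvd.dvd.trans _ (orderOf_dvd_natCard s)
    rw [hi]
    exact dvd_pow_self 2 hi0
  have h3 : orderOf y ∣ Nat.card Γ := orderOf_dvd_natCard y
  have h4 : 2 * orderOf y ∣ Nat.card Γ :=
    Nat.Coprime.mul_dvd_of_dvd_of_dvd (Nat.coprime_two_left.2 hy) h2 h3
  have h5 : orderOf y ≠ 1 := fun h => hy1 (orderOf_eq_one_iff.1 h)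
  have h6 : 3 ≤ orderOf y := by
    obtain ⟨t, ht⟩ := hy
    omega
  have h7 := Nat.le_of_dvd Nat.card_pos h4
  omega

theorem S4_of_complement {M : Type*} [Group M] [Finite M] (W R : Subgroup M) [hWn : W.Normal]
    (hW4 : Nat.card W = 4) (hd : W ⊓ R = ⊥) (hsup : R ⊔ W = ⊤)
    (hy : ∃ y ∈ R, Odd (orderOf y) ∧ ∃ w ∈ W, y * w * y⁻¹ ≠ w)
    (hs : ∃ s ∈ R, (∃ j : ℕ, s ^ 2 ^ j = 1) ∧ ∃ w ∈ W, s * w * s⁻¹ ≠ w) :
    ∃ f : M →* Equiv.Perm (Fin 4), Function.Surjective f := by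
  let g : R →* MulAut W := (MulAut.conjNormal).comp R.subtype
  have hg : ∀ (x : R) (w : W), ((g x w : W) : M) = x * w * (x : M)⁻¹ := fun x w => rfl
  have h6 : 6 ≤ Nat.card g.range := by
    obtain ⟨y, hyR, hyo, w, hw, hyw⟩ := hy
    obtain ⟨s, hsR, ⟨j, hj⟩, w', hw', hsw⟩ := hs
    have hm1 : g ⟨y, hyR⟩ ∈ g.range := MonoidHom.mem_range.2 ⟨_, rfl⟩
    have hm2 : g ⟨s, hsR⟩ ∈ g.range := MonoidHom.mem_range.2 ⟨_, rfl⟩
    apply six_le_card_of_orders (⟨g ⟨y, hyR⟩, hm1⟩ : g.range) ⟨g ⟨s, hsR⟩, hm2⟩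
    · rw [Subgroup.orderOf_mk]
      apply Odd.of_dvd_nat _ (orderOf_map_dvd g _)
      rwa [Subgroup.orderOf_mk]
    · intro h
      have h1 : g ⟨y, hyR⟩ = 1 := congrArg Subtype.val h
      have h2 := congrArg Subtype.val (DFunLike.congr_fun h1 ⟨w, hw⟩)
      exact hyw h2
    · refine ⟨j, Subtype.ext ?_⟩
      change (g ⟨s, hsR⟩) ^ 2 ^ j = 1
      rw [← map_pow]
      have : (⟨s, hsR⟩ : R) ^ 2 ^ j = 1 := Subtype.ext hj
      rw [this, map_one]
    · intro h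
      have h1 : g ⟨s, hsR⟩ = 1 := congrArg Subtype.val h
      have h2 := congrArg Subtype.val (DFunLike.congr_fun h1 ⟨w', hw'⟩)
      exact hsw h2
  have hcardR : Nat.card g.range * Nat.card g.ker = Nat.card R := by
    rw [← Subgroup.index_ker]
    exact g.ker.index_mul_card
  have hcore : R.normalCore ≤ g.ker.map R.subtype := by
    intro x hx
    have hxR : x ∈ R := R.normalCore_le hx
    refine ⟨⟨x, hxR⟩, ?_, rfl⟩
    rw [SetLike.mem_coe, MonoidHom.mem_ker]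
    ext w
    rw [hg, MulAut.one_apply]
    have h1 : (w : M) * x * (w : M)⁻¹ * x⁻¹ ∈ W ⊓ R := by
      constructor
      · have h2 : (w : M) * x * (w : M)⁻¹ * x⁻¹ = w * (x * (w : M)⁻¹ * x⁻¹) := by group
        rw [h2]
        exact W.mul_mem w.2 (hWn.conj_mem _ (W.inv_mem w.2) x)
      · exact R.mul_mem (R.normalCore_le (R.normalCore_normal.conj_mem x hx w)) (R.inv_mem hxR)
    rw [hd, Subgroup.mem_bot] at h1
    change x * (w : M) * x⁻¹ = w
    calc x * (w : M) * x⁻¹ = ((w : M) * x * (w : M)⁻¹ * x⁻¹)⁻¹ * w := by group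
      _ = w := by rw [h1, inv_one, one_mul]
  have hcore' : Nat.card R.normalCore ≤ Nat.card g.ker := by
    rw [← Subgroup.card_map_of_injective R.subtype_injective]
    exact Subgroup.card_le_of_le hcore
  have hcardM : Nat.card M = Nat.card R * 4 := by
    rw [← hW4, ← card_sup_of_disjoint_le_normalizer
      (by rw [Subgroup.normalizer_eq_top]; exact le_top) hd, hsup, Subgroup.card_top]
  have hidx : Nat.card (M ⧸ R) = 4 := by
    have h1 := R.card_mul_index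
    rw [hcardM] at h1
    exact Nat.eq_of_mul_eq_mul_left Nat.card_pos h1
  let f₀ := MulAction.toPermHom M (M ⧸ R)
  have hker : f₀.ker = R.normalCore := (Subgroup.normalCore_eq_ker R).symm
  have hrange : Nat.card f₀.range * Nat.card R.normalCore = Nat.card M := by
    rw [← Subgroup.index_ker, hker]
    exact R.normalCore.index_mul_card
  have hsurj : Function.Surjective f₀ := by
    rw [← MonoidHom.range_eq_top]
    apply Subgroup.eq_top_of_le_card
    rw [Nat.card_perm, hidx]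
    have hpos : 0 < Nat.card R.normalCore := Nat.card_pos
    have h24 : (4 : ℕ).factorial = 24 := rfl
    rw [h24]
    by_contra hlt
    push Not at hlt
    have e1 : Nat.card f₀.range * Nat.card R.normalCore < 24 * Nat.card R.normalCore :=
      Nat.mul_lt_mul_of_pos_right hlt hpos
    have e2 : 6 * Nat.card g.ker ≤ Nat.card R := by
      rw [← hcardR]
      exact Nat.mul_le_mul_right _ h6
    rw [hrange, hcardM] at e1
    omega
  let e : (M ⧸ R) ≃ Fin 4 := Finite.equivFinOfCardEq hidx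
  exact ⟨(Equiv.permCongrHom e).toMonoidHom.comp f₀, (Equiv.permCongrHom e).surjective.comp hsurj⟩

open scoped Pointwise in
theorem involves_S4 {X : Type*} [Group X] [Finite X] (H W₁ : Subgroup X) [hHn : H.Normal]
    (hH : IsPGroup 2 H) (hHW : ∀ h ∈ H, ∀ w ∈ W₁, h * w * h⁻¹ = w) (hW4 : Nat.card W₁ = 4)
    (k a : X) (hk : ∀ w ∈ W₁, k * w * k⁻¹ ∈ W₁) (ha : ∀ w ∈ W₁, a * w * a⁻¹ ∈ W₁)
    (hkfpf : ∀ w ∈ W₁, k * w * k⁻¹ = w → w = 1) (hant : ∃ w ∈ W₁, a * w * a⁻¹ ≠ w)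
    (ha2 : ∃ j : ℕ, a ^ 2 ^ j = 1) (hinv : a * k * a⁻¹ * k ∈ H)
    (hkodd : ∃ m : ℕ, Odd m ∧ k ^ m ∈ H) :
    Cfsg.Involves (Equiv.Perm (Fin 4)) X := by
  have : Fact (Nat.Prime 2) := ⟨Nat.prime_two⟩
  have hkN : k ∈ Subgroup.normalizer (W₁ : Set X) :=
    Cfsg.Agent.Lib.Helper11.mem_normalizer_of_conj_mem W₁ k hk
  have haN : a ∈ Subgroup.normalizer (W₁ : Set X) :=
    Cfsg.Agent.Lib.Helper11.mem_normalizer_of_conj_mem W₁ a ha
  have hHN : H ≤ Subgroup.normalizer (W₁ : Set X) := by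
    intro h hh
    apply Cfsg.Agent.Lib.Helper11.mem_normalizer_of_conj_mem W₁ h
    intro w hw
    rw [hHW h hh w hw]
    exact hw
  obtain ⟨j₀, hj₀⟩ := Cfsg.Agent.Lib.Helper40.exists_pow_coprime 2 k
  obtain ⟨c, hc⟩ : ∃ c, c = k ^ 2 ^ j₀ := ⟨_, rfl⟩
  rw [← hc] at hj₀
  have hcN : c ∈ Subgroup.normalizer (W₁ : Set X) := hc ▸ pow_mem hkN _
  have hcfpf : ∀ w ∈ W₁, c * w * c⁻¹ = w → w = 1 := by
    intro w hw hcw
    apply hkfpf w hw
    obtain ⟨m, hm, hkm⟩ := hkodd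
    have h1 : c ∈ Subgroup.centralizer ({w} : Set X) := by
      rw [Subgroup.mem_centralizer_singleton_iff]
      exact mul_inv_eq_iff_eq_mul.1 hcw
    have h2 : k ^ m ∈ Subgroup.centralizer ({w} : Set X) := by
      rw [Subgroup.mem_centralizer_singleton_iff]
      exact mul_inv_eq_iff_eq_mul.1 (hHW _ hkm w hw)
    have hg : Nat.gcd (2 ^ j₀) m = 1 := Nat.Coprime.pow_left j₀ (Nat.coprime_two_left.2 hm)
    have h3 := Nat.gcd_eq_gcd_ab (2 ^ j₀) m
    rw [hg] at h3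
    have h4 : k = c ^ (Nat.gcdA (2 ^ j₀) m) * (k ^ m) ^ (Nat.gcdB (2 ^ j₀) m) := by
      rw [hc, ← zpow_natCast k, ← zpow_natCast k, ← zpow_mul, ← zpow_mul, ← zpow_add, ← h3]
      simp
    have h5 : k ∈ Subgroup.centralizer ({w} : Set X) := by
      rw [h4]
      exact mul_mem (zpow_mem h1 _) (zpow_mem h2 _)
    rw [Subgroup.mem_centralizer_singleton_iff] at h5
    exact mul_inv_eq_iff_eq_mul.2 h5
  have hcinv : a * c * a⁻¹ * c ∈ H := by
    rw [← QuotientGroup.eq_one_iff, ← QuotientGroup.mk'_apply] at hinv ⊢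
    rw [map_mul, mul_eq_one_iff_eq_inv] at hinv
    rw [map_mul, hc, ← conj_pow, map_pow, hinv, map_pow, inv_pow, inv_mul_cancel]
  have hcop : (Nat.card (Subgroup.zpowers c)).Coprime (Nat.card H) := by
    obtain ⟨t, ht⟩ := hH.exists_card_eq
    rw [ht, Nat.card_zpowers]
    exact Nat.Coprime.pow_right t hj₀
  obtain ⟨h, hh, hconj⟩ := coprime_conj (Subgroup.zpowers c) H Subgroup.le_normalizer_of_normal hcop
    (Or.inl (Group.isSolvable_of_comm mul_comm')) (MulAut.conj a • Subgroup.zpowers c) (by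
      rintro _ ⟨x, hx, rfl⟩
      obtain ⟨i, rfl⟩ := Subgroup.mem_zpowers_iff.1 hx
      have h1 : a * c * a⁻¹ ∈ Subgroup.zpowers c ⊔ H := by
        have h2 : a * c * a⁻¹ = (a * c * a⁻¹ * c) * c⁻¹ := by group
        rw [h2]
        exact mul_mem (Subgroup.mem_sup_right hcinv)
          (Subgroup.mem_sup_left (inv_mem (Subgroup.mem_zpowers c)))
      change (MulAut.conj a) (c ^ i) ∈ _
      rw [map_zpow]
      exact zpow_mem h1 i) (card_conj_smul _ _)
  rw [← conj_mul_smul] at hconj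
  obtain ⟨s, hs⟩ : ∃ s, s = h * a := ⟨_, rfl⟩
  rw [← hs] at hconj
  have hsC : s ∈ Subgroup.normalizer (Subgroup.zpowers c : Set X) :=
    mem_normalizer_iff_conj_smul.2 hconj
  have hsN : s ∈ Subgroup.normalizer (W₁ : Set X) := hs ▸ mul_mem (hHN hh) haN
  have hsw : ∀ w ∈ W₁, s * w * s⁻¹ = a * w * a⁻¹ := by
    intro w hw
    have h1 : s * w * s⁻¹ = h * (a * w * a⁻¹) * h⁻¹ := by rw [hs]; group
    rw [h1, hHW h hh _ (ha w hw)]
  have hs2 : ∃ j : ℕ, s ^ 2 ^ j = 1 := by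
    have hza : IsPGroup 2 (Subgroup.zpowers a) := by
      obtain ⟨j, hj⟩ := ha2
      rintro ⟨x, hx⟩
      obtain ⟨i, rfl⟩ := Subgroup.mem_zpowers_iff.1 hx
      refine ⟨j, Subtype.ext ?_⟩
      change (a ^ i) ^ 2 ^ j = 1
      rw [← zpow_natCast, ← zpow_mul, mul_comm, zpow_mul, zpow_natCast, hj, one_zpow]
    have hP := hH.to_sup_of_normal_left hza
    have hsP : s ∈ H ⊔ Subgroup.zpowers a :=
      hs ▸ mul_mem (Subgroup.mem_sup_left hh) (Subgroup.mem_sup_right (Subgroup.mem_zpowers a))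
    obtain ⟨j, hj⟩ := hP ⟨s, hsP⟩
    exact ⟨j, congrArg Subtype.val hj⟩
  obtain ⟨R, hR⟩ : ∃ R, R = Subgroup.zpowers c ⊔ Subgroup.zpowers s := ⟨_, rfl⟩
  have hcR : c ∈ R := hR ▸ Subgroup.mem_sup_left (Subgroup.mem_zpowers c)
  have hsR : s ∈ R := hR ▸ Subgroup.mem_sup_right (Subgroup.mem_zpowers s)
  have hRN : R ≤ Subgroup.normalizer (W₁ : Set X) := by
    rw [hR]
    exact sup_le (Subgroup.zpowers_le.2 hcN) (Subgroup.zpowers_le.2 hsN)
  have hRC : R ≤ Subgroup.normalizer (Subgroup.zpowers c : Set X) := by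
    rw [hR]
    exact sup_le Subgroup.le_normalizer (Subgroup.zpowers_le.2 hsC)
  have hCW : Subgroup.zpowers c ⊓ W₁ = ⊥ := by
    apply (Subgroup.disjoint_of_coprime_natCard _).eq_bot
    rw [hW4, Nat.card_zpowers]
    exact Nat.Coprime.pow_right 2 hj₀
  have hd : W₁ ⊓ R = ⊥ := by
    rw [eq_bot_iff]
    rintro x ⟨hxW, hxR⟩
    rw [Subgroup.mem_bot]
    apply hcfpf x hxW
    have h1 : x * c * x⁻¹ * c⁻¹ ∈ Subgroup.zpowers c ⊓ W₁ := by
      constructor
      · exact (Subgroup.zpowers c).mul_mem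
          ((Subgroup.mem_normalizer_iff.1 (hRC hxR) c).1 (Subgroup.mem_zpowers c))
          ((Subgroup.zpowers c).inv_mem (Subgroup.mem_zpowers c))
      · have h2 : x * c * x⁻¹ * c⁻¹ = x * (c * x⁻¹ * c⁻¹) := by group
        rw [h2]
        exact W₁.mul_mem hxW ((Subgroup.mem_normalizer_iff.1 hcN _).1 (W₁.inv_mem hxW))
    rw [hCW, Subgroup.mem_bot] at h1
    calc c * x * c⁻¹ = (x * c * x⁻¹ * c⁻¹)⁻¹ * x := by group
      _ = x := by rw [h1, inv_one, one_mul]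
  have hWM : W₁ ≤ R ⊔ W₁ := le_sup_right
  have hRM : R ≤ R ⊔ W₁ := le_sup_left
  have hn : (W₁.subgroupOf (R ⊔ W₁)).Normal := Subgroup.normal_subgroupOf_sup_of_le_normalizer hRN
  obtain ⟨f, hf⟩ := S4_of_complement (W₁.subgroupOf (R ⊔ W₁)) (R.subgroupOf (R ⊔ W₁))
    (by rw [card_subgroupOf_of_le hWM, hW4])
    (by
      rw [eq_bot_iff]
      rintro x ⟨h1, h2⟩
      have h3 : (x : X) ∈ W₁ ⊓ R := ⟨h1, h2⟩
      rw [hd, Subgroup.mem_bot] at h3
      exact Subgroup.mem_bot.2 (Subtype.ext h3))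
    (by rw [← Subgroup.subgroupOf_sup hRM hWM, Subgroup.subgroupOf_self])
    (by
      have hnt : Nontrivial W₁ := by
        rw [← Finite.one_lt_card_iff_nontrivial, hW4]
        norm_num
      obtain ⟨w, hw⟩ := exists_ne (1 : W₁)
      refine ⟨⟨c, hRM hcR⟩, hcR, ?_, ⟨w, hWM w.2⟩, w.2, ?_⟩
      · rw [Subgroup.orderOf_mk]
        exact Nat.coprime_two_right.1 hj₀
      · intro h
        exact hw (Subtype.ext (hcfpf w w.2 (congrArg Subtype.val h))))
    (by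
      obtain ⟨w, hw, hne⟩ := hant
      obtain ⟨j, hj⟩ := hs2
      refine ⟨⟨s, hRM hsR⟩, hsR, ⟨j, Subtype.ext hj⟩, ⟨w, hWM hw⟩, hw, ?_⟩
      intro h
      apply hne
      rw [← hsw w hw]
      exact congrArg Subtype.val h)
  exact involves_of_surjective _ f hf

end Cfsg.Agent.Lib.Helper1
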