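import Cfsg.Agent.Lib.Helper1.Off3
import Cfsg.Agent.Lib.Helper1.S4Sec

set_option autoImplicit false

/-! Variants and auxiliary lemmas for the Thompson factorisation argument. -/

namespace Cfsg.Agent.Lib.Helper1.Off

theorem offender_main' {D Q V : Type*} [Group D] [Finite D] [Group Q] [Finite Q] [Group V]
    [Finite V] {p : ℕ} [Fact p.Prime] (hQc : ∀ x y : Q, x * y = y * x)
    (hVc : ∀ x y : V, x * y = y * x)
    (hD : ∀ a b : D, a * b = b * a) (hDp : IsPGroup p D) (hQ : (Nat.card Q).Coprime p)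
    (hV : ∀ v : V, v ^ p = 1)
    (φ : D →* MulAut Q) (ρ : D →* MulAut V) (σ : Q →* MulAut V)
    (hc : ∀ d x v, ρ d (σ x v) = σ (φ d x) (ρ d v)) (hinj : Function.Injective σ)
    (hoff : ∀ B : Subgroup D, Nat.card (fixB ρ B) * Nat.card B ≤ Nat.card (fixB ρ ⊤) * Nat.card D)
    (hnt : ∃ d x, φ d x ≠ x) :
    p = 2 ∧ ∃ (a : D) (y : Q) (W₁ : Subgroup V), Nat.card W₁ = 4 ∧ (∀ w ∈ W₁, ρ a w ∈ W₁) ∧
      (∀ w ∈ W₁, σ y w ∈ W₁) ∧ (∀ w ∈ W₁, σ y w = w → w = 1) ∧ (∃ w ∈ W₁, ρ a w ≠ w) ∧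
      φ a y = y⁻¹ := by
  let _ : CommGroup Q := { ‹Group Q› with mul_comm := hQc }
  let _ : CommGroup V := { ‹Group V› with mul_comm := hVc }
  exact offender_main hD hDp hQ hV φ ρ σ hc hinj hoff hnt

theorem eq_one_of_mem_range_of_fix' {W : Type*} [CommGroup W] {p : ℕ} (η : MulAut W)
    (hcop : (orderOf η).Coprime p) {u : W} (hu : u ∈ (dl η).range) (hfix : η u = u)
    (hup : u ^ p = 1) : u = 1 := by
  have h1 := pow_orderOf_eq_one_of_mem η hu hfix
  have h2 : orderOf u ∣ Nat.gcd (orderOf η) p :=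
    Nat.dvd_gcd (orderOf_dvd_of_pow_eq_one h1) (orderOf_dvd_of_pow_eq_one hup)
  rw [hcop.gcd_eq_one, Nat.dvd_one, orderOf_eq_one_iff] at h2
  exact h2

theorem omega_abstract {Z : Type*} [CommGroup Z] [Finite Z] {p : ℕ} [Fact p.Prime]
    (hZ : IsPGroup p Z) (η : MulAut Z) (hcop : (orderOf η).Coprime p)
    (h : ∀ z : Z, z ^ p = 1 → η z = z) : η = 1 := by
  by_contra hne
  have hUne : (dl η).range ≠ ⊥ := by
    intro h
    apply hne
    ext w
    have h2 : dl η w ∈ (dl η).range := ⟨w, rfl⟩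
    rw [h, Subgroup.mem_bot, dl_apply, mul_inv_eq_one] at h2
    rw [h2, MulAut.one_apply]
  have : Nontrivial (dl η).range := (Subgroup.nontrivial_iff_ne_bot _).2 hUne
  have hdvd : p ∣ Nat.card (dl η).range := by
    obtain ⟨n, hn0, hn⟩ := (hZ.to_subgroup (dl η).range).nontrivial_iff_card.mp inferInstance
    exact hn.symm ▸ dvd_pow_self _ (ne_of_gt hn0)
  obtain ⟨u, hu⟩ := exists_prime_orderOf_dvd_card' (G := (dl η).range) p hdvd
  have hup : (u : Z) ^ p = 1 := by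
    have := pow_orderOf_eq_one u
    rw [hu] at this
    exact congrArg Subtype.val this
  have h1 := eq_one_of_mem_range_of_fix' η hcop u.2 (h u hup) hup
  have h2 : u = 1 := Subtype.ext h1
  rw [h2, orderOf_one] at hu
  exact (Fact.out : p.Prime).one_lt.ne hu

theorem centralizes_of_centralizes_omega {X : Type*} [Group X] [Finite X] {p : ℕ} [Fact p.Prime]
    (Z : Subgroup X) [hZn : Z.Normal] (hZc : ∀ a ∈ Z, ∀ b ∈ Z, a * b = b * a) (hZp : IsPGroup p Z)
    (y : X) (hy : (orderOf y).Coprime p) (h : ∀ z ∈ Z, z ^ p = 1 → y * z * y⁻¹ = z) :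
    ∀ z ∈ Z, y * z * y⁻¹ = z := by
  let _ : CommGroup Z :=
    { (inferInstance : Group Z) with mul_comm := fun a b => Subtype.ext (hZc a a.2 b b.2) }
  have h1 : (MulAut.conjNormal y : MulAut Z) = 1 := by
    apply omega_abstract hZp
    · exact Nat.Coprime.coprime_dvd_left (orderOf_map_dvd _ y) hy
    · intro z hz
      apply Subtype.ext
      exact h z z.2 (congrArg Subtype.val hz)
  intro z hz
  exact congrArg Subtype.val (DFunLike.congr_fun h1 ⟨z, hz⟩)

theorem card_sup_mul_card_inf {G : Type*} [Group G] {H N : Subgroup G}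
    (hLE : H ≤ Subgroup.normalizer (N : Set G)) :
    Nat.card (H ⊔ N : Subgroup G) * Nat.card (N ⊓ H : Subgroup G) = Nat.card H * Nat.card N := by
  rw [← card_mul_relIndex (le_sup_right : N ≤ H ⊔ N), relIndex_sup_right_of_le_normalizer hLE,
    ← card_mul_relIndex (inf_le_right : N ⊓ H ≤ H), Subgroup.inf_relIndex_right]
  ring

end Cfsg.Agent.Lib.Helper1.Off
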