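import Cfsg.Agent.Lib.Helper1.ThompsonNPC

set_option autoImplicit false

/-! `S₄`-free groups: an inverted odd-order element acting on `Ω₁(Z(O₂))` produces `S₄`. -/

namespace Cfsg.Agent.Lib.Helper1.Off

open Cfsg.Agent.Lib.Helper15.ZJ Cfsg.Agent.Lib.Helper62

variable {X : Type*} [Group X]

instance omZ_normal_inst (p : ℕ) (H : Subgroup X) [H.Normal] : (omZ p H).Normal := omZ_normal p H

/-- the conjugation action on `Ω₁(Z(H))` -/
def psi (p : ℕ) (H : Subgroup X) [H.Normal] : X →* MulAut (omZ p H) := MulAut.conjNormal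

theorem psi_apply (p : ℕ) (H : Subgroup X) [H.Normal] (g : X) (v : omZ p H) :
    ((psi p H g v : omZ p H) : X) = g * v * g⁻¹ := rfl

theorem psi_eq_one (p : ℕ) (H : Subgroup X) [H.Normal] {h : X} (hh : h ∈ H) : psi p H h = 1 := by
  ext v
  rw [psi_apply, v.2.2.1 h hh, mul_inv_cancel_right]
  rfl

theorem offender_ineq [Finite X] {p e : ℕ} (he : p ∣ e) {H T A : Subgroup X} [hHn : H.Normal]
    (hHT : H ≤ T) (hA : A ∈ AE e T) (B : Subgroup A) :
    Nat.card (fixB ((psi p H).comp A.subtype) B) * Nat.card B ≤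
      Nat.card (fixB ((psi p H).comp A.subtype) ⊤) * Nat.card A := by
  obtain ⟨ρ, hρ⟩ : ∃ ρ, ρ = (psi p H).comp A.subtype := ⟨_, rfl⟩
  rw [← hρ]
  have hVH : omZ p H ≤ H := fun v hv => hv.1
  have hB'A : B.map A.subtype ≤ A := Subgroup.map_subtype_le B
  have hFV : (fixB ρ B).map (omZ p H).subtype ≤ omZ p H := Subgroup.map_subtype_le _
  have hcomm : ∀ b ∈ B.map A.subtype, ∀ v ∈ (fixB ρ B).map (omZ p H).subtype, b * v = v * b := by
    rintro _ ⟨b, hb, rfl⟩ _ ⟨v, hv, rfl⟩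
    have h0 := hv b hb
    rw [hρ] at h0
    have h1 : (b : X) * v * (b : X)⁻¹ = v := congrArg Subtype.val h0
    exact mul_inv_eq_iff_eq_mul.1 h1
  have hPEF : PE e ((fixB ρ B).map (omZ p H).subtype) := by
    constructor
    · intro x hx y hy
      exact (hFV hy).2.1 x (hFV hx).1
    · intro x hx
      obtain ⟨c, rfl⟩ := he
      rw [pow_mul, (hFV hx).2.2, one_pow]
  have hPE := PE_sup (hA.2.1.mono hB'A) hPEF hcomm
  have hle : B.map A.subtype ⊔ (fixB ρ B).map (omZ p H).subtype ≤ T :=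
    sup_le (hB'A.trans hA.1) (hFV.trans (hVH.trans hHT))
  have h1 := hA.2.2 _ hle hPE
  have hLE : B.map A.subtype ≤
      Subgroup.normalizer (((fixB ρ B).map (omZ p H).subtype : Subgroup X) : Set X) := by
    refine le_trans ?_ (Subgroup.centralizer_le_normalizer _)
    intro b hb
    rw [Subgroup.mem_centralizer_iff]
    intro v hv
    exact (hcomm b hb v hv).symm
  have h2 := card_sup_mul_card_inf hLE
  have h3 : Nat.card ((fixB ρ B).map (omZ p H).subtype ⊓ B.map A.subtype : Subgroup X) ≤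
      Nat.card (fixB ρ ⊤) := by
    have h30 : Nat.card ((fixB ρ ⊤).map (omZ p H).subtype) = Nat.card (fixB ρ ⊤) :=
      Subgroup.card_map_of_injective (omZ p H).subtype_injective
    rw [← h30]
    apply Subgroup.card_le_of_le
    rintro x ⟨hxF, hxB⟩
    refine ⟨⟨x, hFV hxF⟩, ?_, rfl⟩
    intro a _
    apply Subtype.ext
    rw [hρ]
    change (a : X) * x * (a : X)⁻¹ = x
    rw [hA.2.1.1 a a.2 x (hB'A hxB), mul_inv_cancel_right]
  calc Nat.card (fixB ρ B) * Nat.card B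
      = Nat.card (B.map A.subtype) * Nat.card ((fixB ρ B).map (omZ p H).subtype) := by
        rw [Subgroup.card_map_of_injective A.subtype_injective,
          Subgroup.card_map_of_injective (omZ p H).subtype_injective, mul_comm]
    _ = _ := h2.symm
    _ ≤ Nat.card A * Nat.card (fixB ρ ⊤) := Nat.mul_le_mul h1 h3
    _ = _ := mul_comm _ _

theorem eq_one_of_sq_eq_one_of_odd {Γ : Type*} [Group Γ] {x : Γ} {m : ℕ} (hm : Odd m)
    (hxm : x ^ m = 1) (h2 : x ^ 2 = 1) : x = 1 := by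
  have h : orderOf x ∣ Nat.gcd m 2 :=
    Nat.dvd_gcd (orderOf_dvd_of_pow_eq_one hxm) (orderOf_dvd_of_pow_eq_one h2)
  rw [(Nat.coprime_two_right.2 hm).gcd_eq_one, Nat.dvd_one, orderOf_eq_one_iff] at h
  exact h

theorem involves_S4_of_inverted [Finite X] {e : ℕ} (he : 2 ∣ e) {H : Subgroup X} [hHn : H.Normal]
    (hHp : IsPGroup 2 H) (T : Sylow 2 X) {A : Subgroup X} (hA : A ∈ AE e (T : Subgroup X)) (k : X)
    {m : ℕ} (hm : Odd m) (hkm : k ^ m ∈ H)
    (hAk : ∀ d ∈ A, d * k * d⁻¹ * k⁻¹ ∈ H ∨ d * k * d⁻¹ * k ∈ H)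
    (ha : ∃ a ∈ A, a * k * a⁻¹ * k ∈ H) (hkV : ∃ v ∈ omZ 2 H, k * v * k⁻¹ ≠ v) :
    Cfsg.Involves (Equiv.Perm (Fin 4)) X := by
  have : Fact (Nat.Prime 2) := ⟨Nat.prime_two⟩
  have hHT : H ≤ T := hHp.le_sylow_of_normal T
  obtain ⟨ψ, hψdef⟩ : ∃ ψ, ψ = psi 2 H := ⟨_, rfl⟩
  have hψH : ∀ h ∈ H, ψ h = 1 := fun h hh => hψdef ▸ psi_eq_one 2 H hh
  have hψ : ∀ g (v : omZ 2 H), ((ψ g v : omZ 2 H) : X) = g * v * g⁻¹ := by
    intro g v
    rw [hψdef]
    rfl
  obtain ⟨κ, hκ⟩ : ∃ κ, κ = ψ k := ⟨_, rfl⟩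
  have hκm : κ ^ m = 1 := by rw [hκ, ← map_pow]; exact hψH _ hkm
  have hκ1 : κ ≠ 1 := by
    intro h
    obtain ⟨v, hv, hne⟩ := hkV
    apply hne
    have h1 := congrArg Subtype.val (DFunLike.congr_fun h ⟨v, hv⟩)
    rw [hκ, hψ] at h1
    exact h1
  have hzm : ∀ i : ℤ, (κ ^ i) ^ m = 1 := by
    intro i
    rw [← zpow_natCast, ← zpow_mul, mul_comm, zpow_mul, zpow_natCast, hκm, one_zpow]
  have hd : ∀ d ∈ A, ψ d * κ * (ψ d)⁻¹ = κ ∨ ψ d * κ * (ψ d)⁻¹ = κ⁻¹ := by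
    intro d hd
    rcases hAk d hd with h | h
    · left
      have h1 := hψH _ h
      rw [map_mul, map_mul, map_mul, map_inv, map_inv, mul_inv_eq_one] at h1
      rw [hκ, h1]
    · right
      have h1 := hψH _ h
      rw [map_mul, map_mul, map_mul, map_inv, mul_eq_one_iff_eq_inv] at h1
      rw [hκ, h1]
  let ρ : A →* MulAut (omZ 2 H) := ψ.comp A.subtype
  have hconjz : ∀ (d : A) (i : ℤ), ρ d * κ ^ i * (ρ d)⁻¹ = (ρ d * κ * (ρ d)⁻¹) ^ i := by
    intro d i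
    exact (conj_zpow).symm
  have hEinv : ∀ d : A, ∀ x ∈ Subgroup.zpowers κ, ((MulAut.conj).comp ρ) d x ∈ Subgroup.zpowers κ := by
    intro d x hx
    obtain ⟨i, rfl⟩ := Subgroup.mem_zpowers_iff.1 hx
    change ρ d * κ ^ i * (ρ d)⁻¹ ∈ _
    rw [hconjz]
    rcases hd d d.2 with h | h
    · change (ψ d * κ * (ψ d)⁻¹) ^ i ∈ _
      rw [h]
      exact zpow_mem (Subgroup.mem_zpowers κ) i
    · change (ψ d * κ * (ψ d)⁻¹) ^ i ∈ _
      rw [h]
      exact zpow_mem (inv_mem (Subgroup.mem_zpowers κ)) i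
  let φ : A →* MulAut (Subgroup.zpowers κ) := resAct ((MulAut.conj).comp ρ) (Subgroup.zpowers κ) hEinv
  have hφ : ∀ (d : A) (x : Subgroup.zpowers κ),
      ((φ d x : Subgroup.zpowers κ) : MulAut (omZ 2 H)) = ρ d * x * (ρ d)⁻¹ := fun d x => rfl
  have hVc : ∀ x y : omZ 2 H, x * y = y * x := fun x y => Subtype.ext (y.2.2.1 x x.2.1)
  have hVexp : ∀ v : omZ 2 H, v ^ 2 = 1 := fun v => Subtype.ext v.2.2.2
  have hEp : (Nat.card (Subgroup.zpowers κ)).Coprime 2 := by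
    rw [Nat.card_zpowers, Nat.coprime_two_right]
    exact Odd.of_dvd_nat hm (orderOf_dvd_of_pow_eq_one hκm)
  have hnt : ∃ d x, φ d x ≠ x := by
    obtain ⟨a, haA, hak⟩ := ha
    refine ⟨⟨a, haA⟩, ⟨κ, Subgroup.mem_zpowers κ⟩, ?_⟩
    intro h
    have h1 : ψ a * κ * (ψ a)⁻¹ = κ := congrArg Subtype.val h
    have h2 := hψH _ hak
    rw [map_mul, map_mul, map_mul, map_inv, ← hκ, h1, ← pow_two] at h2
    exact hκ1 (eq_one_of_sq_eq_one_of_odd hm hκm h2)
  have hoff : ∀ B : Subgroup A,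
      Nat.card (fixB ρ B) * Nat.card B ≤ Nat.card (fixB ρ ⊤) * Nat.card A := by
    intro B
    have := offender_ineq (p := 2) he hHT hA B
    rw [← hψdef] at this
    exact this
  obtain ⟨-, a', ⟨y, hy⟩, W₁, h4, hWa, hWy, hfpf, ⟨w, hw, hne⟩, hinv⟩ :=
    offender_main' (p := 2) (fun x y => mul_comm' x y) hVc
      (fun a b => Subtype.ext (hA.2.1.1 a a.2 b b.2))
      (T.2.to_le hA.1) hEp hVexp φ ρ (Subgroup.zpowers κ).subtype (by
        intro d x v
        change ρ d (x.1 v) = (φ d x).1 (ρ d v)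
        rw [hφ, MulAut.mul_apply, MulAut.mul_apply, MulAut.inv_apply_self])
      (Subgroup.zpowers κ).subtype_injective hoff hnt
  obtain ⟨i, rfl⟩ := Subgroup.mem_zpowers_iff.1 hy
  have hψki : ψ (k ^ i) = κ ^ i := by rw [map_zpow, hκ]
  have hinv' : ψ a' * κ ^ i * (ψ a')⁻¹ = (κ ^ i)⁻¹ := congrArg Subtype.val hinv
  apply involves_S4 H (W₁.map (omZ 2 H).subtype) hHp ?_ ?_ (k ^ i) a' ?_ ?_ ?_ ?_ ?_ ?_ ?_
  · rintro h hh _ ⟨w, -, rfl⟩
    have h0 := congrArg Subtype.val (DFunLike.congr_fun (hψH h hh) w)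
    rw [hψ] at h0
    exact h0
  · rw [Subgroup.card_map_of_injective (omZ 2 H).subtype_injective, h4]
  · rintro _ ⟨w, hw, rfl⟩
    refine ⟨_, hWy w hw, ?_⟩
    change ((κ ^ i) w : X) = _
    rw [← hψki, hψ]
    rfl
  · rintro _ ⟨w, hw, rfl⟩
    exact ⟨_, hWa w hw, hψ _ _⟩
  · rintro _ ⟨w, hw, rfl⟩ hfix
    have h1 : (κ ^ i) w = w := by
      apply Subtype.ext
      rw [← hψki, hψ]
      exact hfix
    have := hfpf w hw h1
    rw [this]
    rfl
  · exact ⟨w, ⟨w, hw, rfl⟩, fun hfix => hne (Subtype.ext ((hψ _ _).trans hfix))⟩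
  · obtain ⟨j, hj⟩ := (T.2.to_le hA.1) a'
    exact ⟨j, congrArg Subtype.val hj⟩
  · rcases hAk a' a'.2 with h | h
    · exfalso
      have h1 := hψH _ h
      rw [map_mul, map_mul, map_mul, map_inv, map_inv, mul_inv_eq_one, ← hκ] at h1
      have h2 : ψ a' * κ ^ i * (ψ a')⁻¹ = κ ^ i := by
        rw [← conj_zpow, h1]
      rw [h2] at hinv'
      have h3 : (κ ^ i) ^ 2 = 1 := by
        rw [pow_two]
        nth_rewrite 1 [hinv']
        exact inv_mul_cancel _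
      have h5 := eq_one_of_sq_eq_one_of_odd hm (hzm i) h3
      apply hne
      have h6 : w = 1 := hfpf w hw (by
        change (κ ^ i) w = w
        rw [h5]
        rfl)
      rw [h6, map_one]
    · rw [← QuotientGroup.eq_one_iff, ← QuotientGroup.mk'_apply] at h ⊢
      rw [map_mul, mul_eq_one_iff_eq_inv] at h
      rw [map_mul, ← conj_zpow, map_zpow, h, map_zpow, inv_zpow, inv_mul_cancel]
  · refine ⟨m, hm, ?_⟩
    rw [← zpow_natCast, ← zpow_mul, mul_comm, zpow_mul, zpow_natCast]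
    exact zpow_mem hkm i

end Cfsg.Agent.Lib.Helper1.Off
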