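import Cfsg.Agent.Lib.Helper1.S4Free
import Cfsg.Agent.Lib.Helper31.CNSolv
import Cfsg.Agent.Lib.Helper30.PStable2
import Cfsg.Agent.S1324
import Cfsg.Agent.S0044

set_option autoImplicit false

/-! Solvable `S₄`-free groups with Sylow 2-subgroups of class at most two. -/

namespace Cfsg.Agent.Lib.Helper1.Off

open Cfsg.Agent.Lib.Helper15.ZJ Cfsg.Agent.Lib.Helper62

theorem exists_inverted {Y : Type*} [Group Y] [Finite Y] [Group.IsSolvable Y]
    (hO : Cfsg.pCore 2 Y = ⊥) (A : Subgroup Y) (hA : Cfsg.IsElementaryAbelian 2 A) (hne : A ≠ ⊥) :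
    ∃ (y : Y) (m : ℕ), Odd m ∧ y ^ m = 1 ∧ y ≠ 1 ∧
      (∀ d ∈ A, d * y * d⁻¹ = y ∨ d * y * d⁻¹ = y⁻¹) ∧ ∃ a ∈ A, a * y * a⁻¹ = y⁻¹ := by
  have : Fact (Nat.Prime 2) := ⟨Nat.prime_two⟩
  have hAc : ∀ a ∈ A, ∀ b ∈ A, a * b = b * a := fun a ha b hb =>
    congrArg Subtype.val (hA.1.is_comm.comm ⟨a, ha⟩ ⟨b, hb⟩)
  have hAp : IsPGroup 2 A := fun a => ⟨1, Subtype.ext (by simpa using hA.2 a a.2)⟩
  obtain ⟨F, hF⟩ : ∃ F, F = Cfsg.fittingSubgroup Y := ⟨_, rfl⟩
  have hFn : F.Normal := hF ▸ fitting_normal Y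
  have hFodd : (Nat.card F).Coprime 2 :=
    hF ▸ Cfsg.Agent.Lib.Helper31.fitting_card_coprime Nat.prime_two hO
  have hCF : Subgroup.centralizer (F : Set Y) ≤ F := hF ▸ Cfsg.Agent.S0044.result
  have hnc : ¬ A ≤ Subgroup.centralizer (F : Set Y) := by
    intro h
    apply hne
    have h1 : Nat.card A ∣ Nat.card F := Subgroup.card_dvd_of_le (h.trans hCF)
    obtain ⟨n, hn⟩ := hAp.exists_card_eq
    have h2 : (Nat.card A).Coprime (Nat.card A) := by
      nth_rewrite 2 [hn]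
      exact Nat.Coprime.pow_right n (Nat.Coprime.coprime_dvd_left h1 hFodd)
    rw [Nat.coprime_self] at h2
    exact Subgroup.card_eq_one.1 h2
  have hex : ∃ B : Subgroup Y, B ≤ A ∧ B.relIndex A ≤ 2 ∧
      ∃ x ∈ F ⊓ Subgroup.centralizer (B : Set Y), ∃ a ∈ A, a * x ≠ x * a := by
    by_contra hall
    push Not at hall
    apply hnc
    rw [Subgroup.le_centralizer_iff]
    by_cases h4 : 2 ^ 2 ≤ Nat.card A
    · have h1 := Cfsg.Agent.S1324.result 2 A F hA h4
        (fun h => Nat.prime_two.one_lt.ne' (Nat.eq_one_of_dvd_coprimes hFodd h dvd_rfl))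
        Subgroup.le_normalizer_of_normal
      rw [h1]
      apply iSup_le
      rintro ⟨B, hBA, hB2⟩ x hx
      rw [Subgroup.mem_centralizer_iff]
      intro a ha
      exact hall B hBA hB2 x hx a ha
    · intro x hx
      rw [Subgroup.mem_centralizer_iff]
      intro a ha
      apply hall ⊥ bot_le _ x ⟨hx, by
        apply Subgroup.mem_centralizer_iff.2
        intro z hz
        rw [SetLike.mem_coe, Subgroup.mem_bot] at hz
        rw [hz, one_mul, mul_one]⟩ a ha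
      rw [Subgroup.relIndex_bot_left]
      obtain ⟨n, hn⟩ := hAp.exists_card_eq
      rw [hn] at h4 ⊢
      have hn2 : n < 2 := by
        by_contra h
        exact h4 (Nat.pow_le_pow_right (by norm_num) (by omega))
      calc 2 ^ n ≤ 2 ^ 1 := Nat.pow_le_pow_right (by norm_num) (by omega)
        _ = 2 := by norm_num
  obtain ⟨B, hBA, hB2, x, ⟨hxF, hxB⟩, a, ha, hax⟩ := hex
  have ha2 : a * a = 1 := by rw [← pow_two]; exact hA.2 a ha
  have hainv : a⁻¹ = a := inv_eq_of_mul_eq_one_left ha2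
  have haB : a ∉ B := fun h => hax (Subgroup.mem_centralizer_iff.1 hxB a h)
  have hidx : (B.subgroupOf A).index = 2 := by
    have h1 : (B.subgroupOf A).index ≤ 2 := hB2
    have h2 : (B.subgroupOf A).index ≠ 1 := by
      intro h
      rw [Subgroup.index_eq_one] at h
      have h3 : (⟨a, ha⟩ : A) ∈ B.subgroupOf A := h ▸ Subgroup.mem_top _
      exact haB h3
    have h3 : (B.subgroupOf A).index ≠ 0 := Subgroup.FiniteIndex.index_ne_zero
    omega
  obtain ⟨y, hy⟩ : ∃ y, y = x * a * x⁻¹ * a⁻¹ := ⟨_, rfl⟩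
  have hyF : y ∈ F := by
    have h1 : y = x * (a * x⁻¹ * a⁻¹) := by rw [hy]; group
    rw [h1]
    exact F.mul_mem hxF (hFn.conj_mem _ (F.inv_mem hxF) a)
  have hyB : ∀ b ∈ B, b * y * b⁻¹ = y := by
    intro b hb
    have h1 : b * x = x * b := Subgroup.mem_centralizer_iff.1 hxB b hb
    have h2 : b * a = a * b := hAc b (hBA hb) a ha
    have h3 : b * x⁻¹ = x⁻¹ * b := (show Commute b x from h1).inv_right.eq
    have h4 : b * a⁻¹ = a⁻¹ * b := (show Commute b a from h2).inv_right.eq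
    rw [hy, mul_inv_eq_iff_eq_mul]
    calc b * (x * a * x⁻¹ * a⁻¹) = (b * x) * a * x⁻¹ * a⁻¹ := by group
      _ = x * (b * a) * x⁻¹ * a⁻¹ := by rw [h1]; group
      _ = x * a * (b * x⁻¹) * a⁻¹ := by rw [h2]; group
      _ = x * a * x⁻¹ * (b * a⁻¹) := by rw [h3]; group
      _ = x * a * x⁻¹ * a⁻¹ * b := by rw [h4]; group
  have hya : a * y * a⁻¹ = y⁻¹ := by
    rw [hy, hainv]
    calc a * (x * a * x⁻¹ * a) * a = a * x * a * x⁻¹ * (a * a) := by group
      _ = a * x * a * x⁻¹ := by rw [ha2, mul_one]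
      _ = (x * a * x⁻¹ * a)⁻¹ := by
        have : (x * a * x⁻¹ * a)⁻¹ = a⁻¹ * x * a⁻¹ * x⁻¹ := by group
        rw [this, hainv]
  refine ⟨y, Nat.card F, Nat.coprime_two_right.1 hFodd, ?_, ?_, ?_, a, ha, hya⟩
  · exact congrArg Subtype.val (pow_card_eq_one' (G := F) (x := ⟨y, hyF⟩))
  · intro h
    apply hax
    rw [hy, mul_inv_eq_one, mul_inv_eq_iff_eq_mul] at h
    exact h.symm
  · intro d hd
    by_cases hdB : d ∈ B
    · exact Or.inl (hyB d hdB)
    · right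
      have h1 : (⟨d, hd⟩ * ⟨a, ha⟩ : A) ∈ B.subgroupOf A :=
        (Subgroup.mul_mem_iff_of_index_two hidx).2 ⟨fun h => absurd h hdB, fun h => absurd h haB⟩
      have h2 : d * a ∈ B := h1
      have h3 := hyB _ h2
      have h4 : d * y * d⁻¹ = (d * a) * (a * y * a⁻¹)  * (d * a)⁻¹ := by
        have : (d * a) * (a * y * a⁻¹)  * (d * a)⁻¹ = d * (a * a) * y * (a * a)⁻¹ * d⁻¹ := by group
        rw [this, ha2]
        group
      rw [h4, hya]
      have h5 : (d * a) * y⁻¹ * (d * a)⁻¹ = ((d * a) * y * (d * a)⁻¹)⁻¹ := by group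
      rw [h5, h3]

/-- the centralizer of `K / Z` in `X` -/
theorem exists_centralizer_mod {X : Type*} [Group X] (Z K : Subgroup X) [hZ : Z.Normal]
    [hK : K.Normal] : ∃ D₀ : Subgroup X, D₀.Normal ∧ ∀ x, x ∈ D₀ ↔ ∀ k ∈ K, x * k * x⁻¹ * k⁻¹ ∈ Z := by
  have hsurj := QuotientGroup.mk'_surjective Z
  have hKπ : (K.map (QuotientGroup.mk' Z)).Normal := hK.map _ hsurj
  refine ⟨(Subgroup.centralizer
    ((K.map (QuotientGroup.mk' Z) : Subgroup (X ⧸ Z)) : Set (X ⧸ Z))).comap (QuotientGroup.mk' Z),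
    inferInstance, ?_⟩
  intro x
  rw [Subgroup.mem_comap, Subgroup.mem_centralizer_iff]
  constructor
  · intro hx k hk
    have h1 := hx _ ⟨k, hk, rfl⟩
    rw [← QuotientGroup.eq_one_iff, ← QuotientGroup.mk'_apply, map_mul, map_mul, map_mul, map_inv,
      map_inv, ← h1]
    group
  · rintro hx _ ⟨k, hk, rfl⟩
    have h1 := hx k hk
    rw [← QuotientGroup.eq_one_iff, ← QuotientGroup.mk'_apply, map_mul, map_mul, map_mul, map_inv,
      map_inv, mul_inv_eq_one, mul_inv_eq_iff_eq_mul] at h1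
    exact h1.symm

theorem le_pCore_of_class_two {X : Type*} [Group X] [Finite X] [Group.IsSolvable X]
    (hO : Cfsg.pPrimeCore 2 X = ⊥) (hS4 : ¬ Cfsg.Involves (Equiv.Perm (Fin 4)) X) (T : Sylow 2 X)
    (hcl : ⁅⁅(T : Subgroup X), (T : Subgroup X)⁆, (T : Subgroup X)⁆ = ⊥) (A : Subgroup X)
    (hA : A ∈ AE 2 (T : Subgroup X)) : A ≤ Cfsg.pCore 2 X := by
  have : Fact (Nat.Prime 2) := ⟨Nat.prime_two⟩
  obtain ⟨H, hH⟩ : ∃ H, H = Cfsg.pCore 2 X := ⟨_, rfl⟩
  have hHn : H.Normal := hH ▸ pCore_normal 2 X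
  have hHp : IsPGroup 2 H := hH ▸ pCore_isPGroup 2 X
  have hC : Subgroup.centralizer (H : Set X) ≤ H :=
    hH ▸ Cfsg.Agent.Lib.Helper30.centralizer_pCore_le_of_solvable hO
  have hOY : Cfsg.pCore 2 (X ⧸ H) = ⊥ := by
    subst hH
    exact Cfsg.Agent.Lib.Helper31.pCore_quotient_pCore 2
  have hHT : H ≤ T := hHp.le_sylow_of_normal T
  rw [← hH]
  by_contra hAH
  have hAe : Cfsg.IsElementaryAbelian 2 (A.map (QuotientGroup.mk' H)) := by
    rw [← PE_iff_isElementaryAbelian]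
    constructor
    · rintro _ ⟨a, ha, rfl⟩ _ ⟨b, hb, rfl⟩
      rw [← map_mul, ← map_mul, hA.2.1.1 a ha b hb]
    · rintro _ ⟨a, ha, rfl⟩
      rw [← map_pow, hA.2.1.2 a ha, map_one]
  have hne : A.map (QuotientGroup.mk' H) ≠ ⊥ := by
    intro h
    apply hAH
    rw [Subgroup.map_eq_bot_iff, QuotientGroup.ker_mk'] at h
    exact h
  obtain ⟨y, m, hm, hym, hy1, hd, a', ⟨a, ha, rfl⟩, hinv⟩ := exists_inverted hOY _ hAe hne
  obtain ⟨k, rfl⟩ := QuotientGroup.mk'_surjective H y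
  have hkm : k ^ m ∈ H := by
    rw [← QuotientGroup.eq_one_iff, ← QuotientGroup.mk'_apply, map_pow]
    exact hym
  have hkH : k ∉ H := by
    intro h
    apply hy1
    rw [QuotientGroup.mk'_apply, QuotientGroup.eq_one_iff]
    exact h
  have hAk : ∀ d ∈ A, d * k * d⁻¹ * k⁻¹ ∈ H ∨ d * k * d⁻¹ * k ∈ H := by
    intro d hdA
    rcases hd _ ⟨d, hdA, rfl⟩ with h | h
    · left
      rw [← QuotientGroup.eq_one_iff, ← QuotientGroup.mk'_apply, map_mul, map_mul, map_mul, map_inv,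
        map_inv, h, mul_inv_cancel]
    · right
      rw [← QuotientGroup.eq_one_iff, ← QuotientGroup.mk'_apply, map_mul, map_mul, map_mul, map_inv,
        h, inv_mul_cancel]
  have hak : a * k * a⁻¹ * k ∈ H := by
    rw [← QuotientGroup.eq_one_iff, ← QuotientGroup.mk'_apply, map_mul, map_mul, map_mul, map_inv,
      hinv, inv_mul_cancel]
  apply hS4
  apply involves_S4_of_inverted (e := 2) dvd_rfl hHp T hA k hm hkm hAk ⟨a, ha, hak⟩
  by_contra hall
  push Not at hall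
  apply hkH
  have hTT : ⁅(T : Subgroup X), (T : Subgroup X)⁆ ≤ H ⊓ Subgroup.centralizer (H : Set X) := by
    have h1 : ⁅(T : Subgroup X), (T : Subgroup X)⁆ ≤ Subgroup.centralizer ((T : Subgroup X) : Set X) :=
      Subgroup.commutator_eq_bot_iff_le_centralizer.1 hcl
    have h2 := h1.trans (Subgroup.centralizer_le hHT)
    exact le_inf (h2.trans hC) h2
  obtain ⟨N₀, hN₀n, hN₀⟩ := exists_centralizer_mod (H ⊓ Subgroup.centralizer (H : Set X)) H
  have hTN : (T : Subgroup X) ≤ N₀ := by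
    intro t ht
    rw [hN₀]
    intro h hh
    exact hTT (Subgroup.commutator_mem_commutator ht (hHT hh))
  have haN : a ∈ N₀ := hTN (hA.1 ha)
  have hk2 : k ^ 2 ∈ N₀ := by
    have h1 : a * k * a⁻¹ * k⁻¹ ∈ N₀ := by
      have : a * k * a⁻¹ * k⁻¹ = a * (k * a⁻¹ * k⁻¹) := by group
      rw [this]
      exact N₀.mul_mem haN (hN₀n.conj_mem _ (N₀.inv_mem haN) k)
    have h2 : a * k * a⁻¹ * k ∈ N₀ := hTN (hHT hak)
    have h3 : k ^ 2 = (a * k * a⁻¹ * k⁻¹)⁻¹ * (a * k * a⁻¹ * k) := by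
      rw [pow_two]
      group
    rw [h3]
    exact N₀.mul_mem (N₀.inv_mem h1) h2
  have hkN : k ∈ N₀ :=
    mem_of_pow_mem_of_coprime (Nat.coprime_two_left.2 hm) hk2 (hTN (hHT hkm))
  obtain ⟨j, hj⟩ := Cfsg.Agent.Lib.Helper40.exists_pow_coprime 2 k
  obtain ⟨c, hc⟩ : ∃ c, c = k ^ 2 ^ j := ⟨_, rfl⟩
  rw [← hc] at hj
  have hcN : c ∈ N₀ := hc ▸ N₀.pow_mem hkN _
  have hcV : ∀ v ∈ omZ 2 H, c * v * c⁻¹ = v := by
    intro v hv
    have h1 : k ∈ Subgroup.centralizer ({v} : Set X) := by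
      rw [Subgroup.mem_centralizer_singleton_iff]
      exact mul_inv_eq_iff_eq_mul.1 (hall v hv)
    have h2 : c ∈ Subgroup.centralizer ({v} : Set X) := hc ▸ pow_mem h1 _
    rw [Subgroup.mem_centralizer_singleton_iff] at h2
    exact mul_inv_eq_iff_eq_mul.2 h2
  have hcZ := centralizes_of_centralizes_omega (H ⊓ Subgroup.centralizer (H : Set X))
    (fun a ha b hb => (Subgroup.mem_centralizer_iff.1 hb.2 a ha.1))
    (hHp.to_le inf_le_left) c hj (fun z hz hzp =>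
      hcV z ⟨hz.1, fun h hh => Subgroup.mem_centralizer_iff.1 hz.2 h hh, hzp⟩)
  have hcH : c ∈ Subgroup.centralizer (H : Set X) := by
    rw [Subgroup.mem_centralizer_iff]
    intro h hh
    obtain ⟨z, hz⟩ : ∃ z, z = c * h * c⁻¹ * h⁻¹ := ⟨_, rfl⟩
    have hzZ : z ∈ H ⊓ Subgroup.centralizer (H : Set X) := hz ▸ (hN₀ c).1 hcN h hh
    have hcz : c * z = z * c := mul_inv_eq_iff_eq_mul.1 (hcZ z hzZ)
    have hch : c * h = z * h * c := by rw [hz]; group
    have hpow : ∀ i : ℕ, c ^ i * h = z ^ i * h * c ^ i := by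
      intro i
      induction i with
      | zero => simp
      | succ i ih =>
        have hczi : c * z ^ i = z ^ i * c := (show Commute c z from hcz).pow_right i
        calc c ^ (i + 1) * h = c * (c ^ i * h) := by rw [pow_succ']; group
          _ = (c * z ^ i) * h * c ^ i := by rw [ih]; group
          _ = z ^ i * (c * h) * c ^ i := by rw [hczi]; group
          _ = z ^ i * z * h * (c * c ^ i) := by rw [hch]; group
          _ = z ^ (i + 1) * h * c ^ (i + 1) := by rw [← pow_succ, ← pow_succ']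
    have h1 := hpow (orderOf c)
    rw [pow_orderOf_eq_one, one_mul, mul_one] at h1
    have h2 : z ^ orderOf c = 1 := by
      have : z ^ orderOf c * h = 1 * h := by rw [one_mul]; exact h1.symm
      exact mul_right_cancel this
    obtain ⟨t, ht⟩ := hHp ⟨z, hzZ.1⟩
    have ht' : z ^ 2 ^ t = 1 := congrArg Subtype.val ht
    have h3 : orderOf z = 1 :=
      Nat.eq_one_of_dvd_coprimes (Nat.Coprime.pow_right t hj) (orderOf_dvd_of_pow_eq_one h2)
        (orderOf_dvd_of_pow_eq_one ht')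
    rw [orderOf_eq_one_iff] at h3
    rw [hch, h3, one_mul]
  exact mem_of_pow_mem_of_coprime (Nat.Coprime.pow_left j (Nat.coprime_two_left.2 hm))
    (hc ▸ hC hcH) hkm

end Cfsg.Agent.Lib.Helper1.Off
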