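import Mathlib

set_option autoImplicit false

/-! Fixed-point-free endomorphisms of finite order: restriction, quotients, invariant Sylow
subgroups. -/

namespace Cfsg.Agent.Lib.Helper1

open MonoidHom
open scoped Pointwise

variable {G : Type*} [Group G]

/-- `H` is invariant under `φ` -/
def HInv (φ : G →* G) (H : Subgroup G) : Prop := ∀ y ∈ H, φ y ∈ H

/-- restriction of `φ` to an invariant subgroup -/
def resHom (φ : G →* G) (H : Subgroup G) (h : HInv φ H) : H →* H :=
  (φ.comp H.subtype).codRestrict H (fun x => h x x.2)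

theorem resHom_coe (φ : G →* G) (H : Subgroup G) (h : HInv φ H) (x : H) :
    ((resHom φ H h x : H) : G) = φ x := rfl

theorem resHom_iterate (φ : G →* G) (H : Subgroup G) (h : HInv φ H) (i : ℕ) (x : H) :
    (((resHom φ H h)^[i] x : H) : G) = φ^[i] x := by
  induction i with
  | zero => rfl
  | succ i ih => rw [Function.iterate_succ_apply', Function.iterate_succ_apply', resHom_coe, ih]

theorem resHom_fpf {φ : G →* G} (hφ : FixedPointFree φ) (H : Subgroup G) (h : HInv φ H) :
    FixedPointFree (resHom φ H h) := by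
  intro x hx
  apply Subtype.ext
  apply hφ
  exact congrArg Subtype.val hx

theorem resHom_pow {φ : G →* G} {p : ℕ} (hpow : φ^[p] = _root_.id) (H : Subgroup G) (h : HInv φ H) :
    (resHom φ H h)^[p] = _root_.id := by
  funext x
  apply Subtype.ext
  rw [resHom_iterate, hpow]
  rfl

/-- the endomorphism induced on the quotient by an invariant normal subgroup -/
def quotHom (φ : G →* G) (N : Subgroup G) [N.Normal] (h : HInv φ N) : G ⧸ N →* G ⧸ N :=
  QuotientGroup.map N N φ h

theorem quotHom_mk (φ : G →* G) (N : Subgroup G) [N.Normal] (h : HInv φ N) (x : G) :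
    quotHom φ N h (x : G ⧸ N) = ((φ x : G) : G ⧸ N) := rfl

theorem quotHom_iterate (φ : G →* G) (N : Subgroup G) [N.Normal] (h : HInv φ N) (i : ℕ) (x : G) :
    (quotHom φ N h)^[i] (x : G ⧸ N) = ((φ^[i] x : G) : G ⧸ N) := by
  induction i with
  | zero => rfl
  | succ i ih => rw [Function.iterate_succ_apply', Function.iterate_succ_apply', ih, quotHom_mk]

theorem quotHom_pow {φ : G →* G} {p : ℕ} (hpow : φ^[p] = _root_.id) (N : Subgroup G) [N.Normal]
    (h : HInv φ N) : (quotHom φ N h)^[p] = _root_.id := by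
  funext x
  obtain ⟨x, rfl⟩ := QuotientGroup.mk_surjective x
  rw [quotHom_iterate, hpow]
  rfl

theorem quotHom_fpf [Finite G] {φ : G →* G} (hφ : FixedPointFree φ) (N : Subgroup G) [N.Normal]
    (h : HInv φ N) : FixedPointFree (quotHom φ N h) := by
  intro x hx
  obtain ⟨x, rfl⟩ := QuotientGroup.mk_surjective x
  rw [quotHom_mk, QuotientGroup.eq] at hx
  -- hx : (φ x)⁻¹ * x ∈ N
  obtain ⟨n, hn⟩ := (resHom_fpf hφ N h).commutatorMap_surjective ⟨x⁻¹ * φ x, by
    have := N.inv_mem hx
    rwa [mul_inv_rev, inv_inv] at this⟩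
  have hn' : (n : G) / φ n = x⁻¹ * φ x := congrArg Subtype.val hn
  have hfix : φ (x * n) = x * n := by
    rw [map_mul]
    have h1 : φ x = x * ((n : G) / φ n) := by rw [hn', mul_inv_cancel_left]
    rw [h1, mul_assoc, div_mul_cancel]
  have h2 := hφ _ hfix
  rw [QuotientGroup.eq_one_iff]
  have h3 : x = (n : G)⁻¹ := eq_inv_of_mul_eq_one_left h2
  rw [h3]
  exact N.inv_mem n.2

theorem injective_of_iterate {φ : G →* G} {p : ℕ} (hp : 0 < p) (hpow : φ^[p] = _root_.id) :
    Function.Injective φ := by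
  obtain ⟨k, rfl⟩ : ∃ k, p = k + 1 := ⟨p - 1, by omega⟩
  intro x y hxy
  have hx : φ^[k + 1] x = x := by rw [hpow]; rfl
  have hy : φ^[k + 1] y = y := by rw [hpow]; rfl
  rw [Function.iterate_succ_apply] at hx hy
  rw [← hx, ← hy, hxy]

theorem HInv.map_eq [Finite G] {φ : G →* G} (hinj : Function.Injective φ) {H : Subgroup G}
    (h : HInv φ H) : H.map φ = H := by
  apply Subgroup.eq_of_le_of_card_ge
  · rintro _ ⟨y, hy, rfl⟩
    exact h y hy
  · rw [Subgroup.card_map_of_injective hinj]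

theorem HInv.of_map_eq {φ : G →* G} {H : Subgroup G} (h : H.map φ = H) : HInv φ H := by
  intro y hy
  rw [← h]
  exact Subgroup.mem_map_of_mem φ hy

theorem HInv.iterate {φ : G →* G} {H : Subgroup G} (h : HInv φ H) (i : ℕ) {y : G} (hy : y ∈ H) :
    φ^[i] y ∈ H := by
  induction i with
  | zero => exact hy
  | succ i ih =>
    rw [Function.iterate_succ_apply']
    exact h _ ih

/-- there is an invariant Sylow subgroup -/
theorem exists_invariant_sylow [Finite G] {φ : G →* G} (hφ : FixedPointFree φ)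
    (hinj : Function.Injective φ) (q : ℕ) [Fact q.Prime] :
    ∃ Q : Sylow q G, HInv φ (Q : Subgroup G) := by
  obtain ⟨Q₀⟩ : Nonempty (Sylow q G) := inferInstance
  let e : MulAut G := MulEquiv.ofBijective φ (Finite.injective_iff_bijective.mp hinj)
  obtain ⟨g, hg⟩ := MulAction.exists_smul_eq G (e • Q₀) Q₀
  have key : ∀ y ∈ Q₀, g * φ y * g⁻¹ ∈ Q₀ := by
    intro y hy
    have h1 : φ y ∈ e • Q₀ := by
      change φ y ∈ e • (Q₀ : Subgroup G)
      exact Subgroup.smul_mem_pointwise_smul y e _ hy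
    have h2 : g * φ y * g⁻¹ ∈ g • (e • Q₀) := by
      change g * φ y * g⁻¹ ∈ MulAut.conj g • ((e • Q₀ : Sylow q G) : Subgroup G)
      exact Subgroup.smul_mem_pointwise_smul (φ y) (MulAut.conj g) _ h1
    rwa [hg] at h2
  obtain ⟨x', hx'⟩ := hφ.commutatorMap_surjective g
  -- x' / φ x' = g ; put x = x'⁻¹
  refine ⟨x'⁻¹ • Q₀, ?_⟩
  intro y hy
  change y ∈ MulAut.conj x'⁻¹ • (Q₀ : Subgroup G) at hy
  change φ y ∈ MulAut.conj x'⁻¹ • (Q₀ : Subgroup G)
  rw [Subgroup.mem_pointwise_smul_iff_inv_smul_mem] at hy ⊢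
  simp only [MulAut.smul_def, ← map_inv, inv_inv, MulAut.conj_apply] at hy ⊢
  have h1 := key _ hy
  rw [commutatorMap_apply] at hx'
  have h2 : x' * φ y * x'⁻¹ = g * φ (x' * y * x'⁻¹) * g⁻¹ := by
    rw [← hx']
    simp only [map_mul, map_inv, div_eq_mul_inv]
    group
  rw [h2]
  exact h1

end Cfsg.Agent.Lib.Helper1
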