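import Cfsg.Agent.Lib.Helper1.TFpf1

set_option autoImplicit false

/-! Fixed-point-free endomorphism of prime order: an invariant subgroup of order prime to an
invariant abelian normal subgroup centralises it. -/

namespace Cfsg.Agent.Lib.Helper1

open MonoidHom
open scoped Pointwise

variable {G : Type*} [Group G]

theorem fpf_iterate {φ : G →* G} (hφ : FixedPointFree φ) {p : ℕ} (hp : p.Prime)
    (hpow : φ^[p] = _root_.id) {i : ℕ} (hi : 0 < i) (hip : i < p) (g : G) (hg : φ^[i] g = g) :
    g = 1 := by
  apply hφ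
  have h1 : Function.IsPeriodicPt φ i g := hg
  have h2 : Function.IsPeriodicPt φ p g := by
    change φ^[p] g = g
    rw [hpow]; rfl
  have h3 := h1.gcd h2
  have h4 : i.gcd p = 1 := by
    have : Nat.Coprime p i := (Nat.Prime.coprime_iff_not_dvd hp).mpr
      (fun h => absurd (Nat.le_of_dvd hi h) (by omega))
    exact this.symm
  rw [h4] at h3
  exact h3

theorem norm_eq_one {N : Type*} [CommGroup N] {f : N →* N} (hf : FixedPointFree f) {p : ℕ}
    (hpow : f^[p] = _root_.id) (u : N) : ∏ i ∈ Finset.range p, f^[i] u = 1 := by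
  apply hf
  rw [map_prod]
  have h1 : ∀ j, f (f^[j] u) = f^[j + 1] u := fun j => (Function.iterate_succ_apply' f j u).symm
  simp_rw [h1]
  have h2 := Finset.prod_range_succ (fun j => f^[j] u) p
  have h3 := Finset.prod_range_succ' (fun j => f^[j] u) p
  rw [h2] at h3
  simp only [hpow, Function.iterate_zero, id_eq] at h3
  exact (mul_right_cancel h3).symm

theorem fpf_centralizes [Finite G] {φ : G →* G} (hφ : FixedPointFree φ) {p : ℕ} (hp : p.Prime)
    (hpow : φ^[p] = _root_.id) (N R : Subgroup G) [N.Normal]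
    (hNab : ∀ x ∈ N, ∀ y ∈ N, x * y = y * x) (hN : HInv φ N) (hR : HInv φ R)
    (hcop : (Nat.card R).Coprime (Nat.card N)) : ∀ x ∈ R, ∀ v ∈ N, x * v = v * x := by
  classical
  let _ : CommGroup N :=
    { (inferInstance : Group N) with mul_comm := fun a b => Subtype.ext (hNab a a.2 b b.2) }
  have := Fintype.ofFinite R
  have hinj := injective_of_iterate hp.pos hpow
  let f : N →* N := resHom φ N hN
  let c : G →* MulAut N := MulAut.conjNormal
  have hc : ∀ (x : G) (v : N), ((c x v : N) : G) = x * v * x⁻¹ := fun _ _ => rfl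
  let ρ : R →* R := resHom φ R hR
  have hfc : ∀ (x : G) (v : N), f (c x v) = c (φ x) (f v) := by
    intro x v
    apply Subtype.ext
    rw [hc]
    change φ (c x v : N) = φ x * φ v * (φ x)⁻¹
    rw [hc, map_mul, map_mul, map_inv]
  have hfci : ∀ (i : ℕ) (x : G) (v : N), f^[i] (c x v) = c (φ^[i] x) (f^[i] v) := by
    intro i
    induction i with
    | zero => intro x v; rfl
    | succ i ih =>
      intro x v
      rw [Function.iterate_succ_apply', ih, hfc, ← Function.iterate_succ_apply' φ,
        ← Function.iterate_succ_apply' f]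
  let NR : N → N := fun u => ∏ y : R, c (y : G) u
  have hNRfix : ∀ (z : R) (u : N), c (z : G) (NR u) = NR u := by
    intro z u
    change c (z : G) (∏ y : R, c (y : G) u) = ∏ y : R, c (y : G) u
    rw [map_prod]
    refine Fintype.prod_equiv (Equiv.mulLeft z) _ _ (fun y => ?_)
    rw [Equiv.coe_mulLeft, Subgroup.coe_mul, map_mul, MulAut.mul_apply]
  have hρinj : Function.Injective ρ := by
    intro a b hab
    apply Subtype.ext
    apply hinj
    exact congrArg Subtype.val hab
  have hρbij : Function.Bijective ρ := Finite.injective_iff_bijective.mp hρinj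
  have hNRf : ∀ u, f (NR u) = NR (f u) := by
    intro u
    change f (∏ y : R, c (y : G) u) = ∏ y : R, c (y : G) (f u)
    rw [map_prod]
    exact Fintype.prod_equiv (Equiv.ofBijective ρ hρbij) _ _ (fun y => hfc y u)
  have hNRfi : ∀ (i : ℕ) (u : N), f^[i] (NR u) = NR (f^[i] u) := by
    intro i
    induction i with
    | zero => intro u; rfl
    | succ i ih =>
      intro u
      rw [Function.iterate_succ_apply', ih, hNRf, ← Function.iterate_succ_apply' f]
  have hffpf : FixedPointFree f := resHom_fpf hφ N hN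
  have hfpow : f^[p] = _root_.id := resHom_pow hpow N hN
  have hnorm := fun u => norm_eq_one hffpf hfpow u
  -- the twisted bijections of `R`
  have hτ : ∀ i, 0 < i → i < p → ∀ u : N,
      ∏ x : R, c ((x : G) * (φ^[i] x)⁻¹) u = NR u := by
    intro i hi hip u
    let ρ' : Monoid.End R := ρ
    let ψ : R →* R := ρ' ^ i
    have hψ : ∀ x : R, ((ψ x : R) : G) = φ^[i] x := by
      intro x
      change (((ρ' ^ i : Monoid.End R) x : R) : G) = _
      rw [Monoid.End.coe_pow]
      exact resHom_iterate φ R hR i x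
    have hψfpf : FixedPointFree ψ := by
      intro x hx
      apply Subtype.ext
      apply fpf_iterate hφ hp hpow hi hip
      rw [← hψ, hx]
    have hbij : Function.Bijective (commutatorMap ψ) :=
      Finite.injective_iff_bijective.mp hψfpf.commutatorMap_injective
    refine Fintype.prod_equiv (Equiv.ofBijective _ hbij) _ _ (fun x => ?_)
    rw [Equiv.ofBijective_apply, commutatorMap_apply, div_eq_mul_inv, Subgroup.coe_mul,
      Subgroup.coe_inv, hψ]
  have hkey : ∀ v : N, v ^ Nat.card R = NR v := by
    intro v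
    have h1 : ∀ x : R, ∏ i ∈ Finset.range p, c ((x : G) * (φ^[i] x)⁻¹) (f^[i] v) = 1 := by
      intro x
      have h2 := hnorm (c (x : G)⁻¹ v)
      have h3 := congrArg (c (x : G)) h2
      rw [map_prod, map_one] at h3
      rw [← h3]
      apply Finset.prod_congr rfl
      intro i _
      rw [hfci, ← MulAut.mul_apply, ← map_mul, iterate_map_inv]
    have h2 : ∏ x : R, ∏ i ∈ Finset.range p, c ((x : G) * (φ^[i] x)⁻¹) (f^[i] v) = 1 :=
      Finset.prod_eq_one (fun x _ => h1 x)
    rw [Finset.prod_comm] at h2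
    obtain ⟨k, rfl⟩ : ∃ k, p = k + 1 := ⟨p - 1, by have := hp.pos; omega⟩
    rw [Finset.prod_range_succ'] at h2
    have h3 : ∀ i ∈ Finset.range k, ∏ x : R, c ((x : G) * (φ^[i + 1] x)⁻¹) (f^[i + 1] v)
        = f^[i + 1] (NR v) := by
      intro i hi
      rw [hτ (i + 1) (Nat.succ_pos i) (by have := Finset.mem_range.mp hi; omega), hNRfi]
    rw [Finset.prod_congr rfl h3] at h2
    have h4 := hnorm (NR v)
    rw [Finset.prod_range_succ'] at h4
    have h5 : ∏ x : R, c ((x : G) * (φ^[0] x)⁻¹) (f^[0] v) = v ^ Nat.card R := by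
      simp only [Function.iterate_zero, id_eq, mul_inv_cancel, map_one, MulAut.one_apply,
        Finset.prod_const, Finset.card_univ, Nat.card_eq_fintype_card]
    rw [h5] at h2
    rw [← h4] at h2
    exact mul_left_cancel h2
  intro x hx v hv
  have h1 : c x (⟨v, hv⟩ ^ Nat.card R) = ⟨v, hv⟩ ^ Nat.card R := by
    rw [hkey]
    exact hNRfix ⟨x, hx⟩ _
  rw [map_pow] at h1
  have h2 : c x ⟨v, hv⟩ = ⟨v, hv⟩ := (powCoprime hcop.symm).injective h1
  have h3 := congrArg Subtype.val h2
  rw [hc] at h3
  exact mul_inv_eq_iff_eq_mul.mp h3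

end Cfsg.Agent.Lib.Helper1
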