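import Cfsg.Agent.Lib.Helper1.Off4
import Cfsg.Agent.Lib.Helper15.ZJBridge
import Cfsg.Agent.Lib.Helper62.PAPStable

set_option autoImplicit false

/-! The final configuration in Thompson's normal `p`-complement theorem (`p` odd or `S₄`-free). -/

namespace Cfsg.Agent.Lib.Helper1.Off

open Cfsg.Agent.Lib.Helper15.ZJ Cfsg.Agent.Lib.Helper62

variable {X : Type*} [Group X]

/-- `Ω₁(Z(H))` -/
def omZ (p : ℕ) (H : Subgroup X) : Subgroup X where
  carrier := {v | v ∈ H ∧ (∀ h ∈ H, h * v = v * h) ∧ v ^ p = 1}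
  one_mem' := ⟨H.one_mem, fun h _ => by simp, one_pow _⟩
  mul_mem' := by
    rintro a b ⟨ha, ha', ha''⟩ ⟨hb, hb', hb''⟩
    refine ⟨H.mul_mem ha hb, fun h hh => ?_, ?_⟩
    · rw [← mul_assoc, ha' h hh, mul_assoc, hb' h hh, mul_assoc]
    · rw [(show Commute a b from hb' a ha).mul_pow, ha'', hb'', one_mul]
  inv_mem' := by
    rintro a ⟨ha, ha', ha''⟩
    exact ⟨H.inv_mem ha, fun h hh => (show Commute h a from ha' h hh).inv_right.eq,
      by rw [inv_pow, ha'', inv_one]⟩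

theorem omZ_normal (p : ℕ) (H : Subgroup X) [hH : H.Normal] : (omZ p H).Normal := by
  constructor
  rintro v ⟨hv, hv', hv''⟩ g
  refine ⟨hH.conj_mem v hv g, fun h hh => ?_, by rw [conj_pow, hv'']; simp⟩
  have h1 : g⁻¹ * h * g ∈ H := by
    have := hH.conj_mem h hh g⁻¹
    rwa [inv_inv] at this
  calc h * (g * v * g⁻¹) = g * ((g⁻¹ * h * g) * v) * g⁻¹ := by group
    _ = g * (v * (g⁻¹ * h * g)) * g⁻¹ := by rw [hv' _ h1]
    _ = g * v * g⁻¹ * h := by group

theorem mem_of_pow_mem_of_coprime {S : Subgroup X} {k : X} {m n : ℕ} (h : Nat.Coprime m n)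
    (h1 : k ^ m ∈ S) (h2 : k ^ n ∈ S) : k ∈ S := by
  have h3 := Nat.gcd_eq_gcd_ab m n
  rw [h.gcd_eq_one] at h3
  have h4 : k = (k ^ m) ^ (Nat.gcdA m n) * (k ^ n) ^ (Nat.gcdB m n) := by
    rw [← zpow_natCast k, ← zpow_natCast k, ← zpow_mul, ← zpow_mul, ← zpow_add, ← h3]
    simp
  rw [h4]
  exact mul_mem (zpow_mem h1 _) (zpow_mem h2 _)

theorem le_of_commutator_mem [Finite X] {p : ℕ} [Fact p.Prime] {H K : Subgroup X}
    (hPAP : PAP p H K) (hcore : ∀ N : Subgroup X, N.Normal → IsPGroup p N → N ≤ H) (T : Sylow p X)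
    (A : Subgroup X) (hAT : A ≤ T) (h : ∀ a ∈ A, ∀ k ∈ K, a * k * a⁻¹ * k⁻¹ ∈ H) : A ≤ H := by
  have hHn := hPAP.Hn
  have hKn := hPAP.Kn
  have hHT : H ≤ T := hPAP.Hp.le_sylow_of_normal T
  have hsurj := QuotientGroup.mk'_surjective H
  have hKπ : (K.map (QuotientGroup.mk' H)).Normal := hKn.map _ hsurj
  obtain ⟨D₀, hD₀def⟩ : ∃ D₀, D₀ = (Subgroup.centralizer
    ((K.map (QuotientGroup.mk' H) : Subgroup (X ⧸ H)) : Set (X ⧸ H))).comap (QuotientGroup.mk' H) :=
    ⟨_, rfl⟩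
  have hD₀n : D₀.Normal := by
    rw [hD₀def]
    infer_instance
  have hD₀ : ∀ x, x ∈ D₀ ↔ ∀ k ∈ K, x * k * x⁻¹ * k⁻¹ ∈ H := by
    intro x
    rw [hD₀def, Subgroup.mem_comap, Subgroup.mem_centralizer_iff]
    constructor
    · intro hx k hk
      have h1 := hx _ ⟨k, hk, rfl⟩
      rw [← QuotientGroup.eq_one_iff, ← QuotientGroup.mk'_apply, map_mul, map_mul, map_mul, map_inv,
        map_inv, ← h1]
      group
    · rintro hx _ ⟨k, hk, rfl⟩
      have h1 := hx k hk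
      rw [← QuotientGroup.eq_one_iff, ← QuotientGroup.mk'_apply, map_mul, map_mul, map_mul, map_inv,
        map_inv, mul_inv_eq_one, mul_inv_eq_iff_eq_mul] at h1
      exact h1.symm
  have htop : (⊤ : Subgroup X) ≤ K ⊔ (T : Subgroup X) :=
    le_sup_sylow T inferInstance hKn (fun k _ => hPAP.top k)
  have hn : ((T : Subgroup X) ⊓ D₀).Normal := by
    constructor
    rintro x ⟨hxT, hxD⟩ g
    refine ⟨?_, hD₀n.conj_mem x hxD g⟩
    have hg : g ∈ (T : Subgroup X) ⊔ K := by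
      rw [sup_comm]
      exact htop (Subgroup.mem_top g)
    rw [Subgroup.mem_sup_of_normal_right] at hg
    obtain ⟨t, ht, k, hk, rfl⟩ := hg
    have h1 : k * x * k⁻¹ ∈ (T : Subgroup X) := by
      have h2 : k * x * k⁻¹ = (x * k * x⁻¹ * k⁻¹)⁻¹ * x := by group
      rw [h2]
      exact mul_mem (inv_mem (hHT ((hD₀ x).1 hxD k hk))) hxT
    have h3 : t * k * x * (t * k)⁻¹ = t * (k * x * k⁻¹) * t⁻¹ := by group
    rw [h3]
    exact (T : Subgroup X).mul_mem ((T : Subgroup X).mul_mem ht h1) ((T : Subgroup X).inv_mem ht)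
  exact (le_inf hAT (fun a ha => (hD₀ a).2 (h a ha))).trans
    (hcore _ hn (T.2.to_le inf_le_left))

theorem fin_main [Finite X] {p : ℕ} [Fact p.Prime] {e : ℕ} (he : p ∣ e) {H K : Subgroup X}
    (hPAP : PAP p H K) (hC : Subgroup.centralizer (H : Set X) ≤ H)
    (hcore : ∀ N : Subgroup X, N.Normal → IsPGroup p N → N ≤ H) (T : Sylow p X)
    (hS4 : p ≠ 2 ∨ ¬ Cfsg.Involves (Equiv.Perm (Fin 4)) X)
    (hCZ : IsPGroup p (Subgroup.centralizer (((T : Subgroup X) ⊓
      Subgroup.centralizer ((T : Subgroup X) : Set X) : Subgroup X) : Set X)))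
    (A : Subgroup X) (hA : A ∈ AE e (T : Subgroup X)) : A ≤ H := by
  have hp := (Fact.out : p.Prime)
  have hHn := hPAP.Hn
  have hKn := hPAP.Kn
  have hHT : H ≤ T := hPAP.Hp.le_sylow_of_normal T
  have hVn : (omZ p H).Normal := omZ_normal p H
  have hVH : omZ p H ≤ H := fun v hv => hv.1
  let ψ : X →* MulAut (omZ p H) := MulAut.conjNormal
  have hψ : ∀ g (v : omZ p H), ((ψ g v : omZ p H) : X) = g * v * g⁻¹ := fun g v => rfl
  have hψH : ∀ h ∈ H, ψ h = 1 := by
    intro h hh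
    ext v
    rw [hψ, v.2.2.1 h hh, mul_inv_cancel_right]
    rfl
  have claim1 : ∀ k ∈ K, ψ k = 1 → k ∈ H := by
    intro k hk hψk
    obtain ⟨j, hj⟩ := Cfsg.Agent.Lib.Helper40.exists_pow_coprime p k
    have hy1 : ψ (k ^ p ^ j) = 1 := by rw [map_pow, hψk, one_pow]
    have hyZ := centralizes_of_centralizes_omega (H ⊓ Subgroup.centralizer (H : Set X))
      (fun a ha b hb => (Subgroup.mem_centralizer_iff.1 hb.2 a ha.1))
      (hPAP.Hp.to_le inf_le_left) (k ^ p ^ j) hj (fun z hz hzp => by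
        have h0 := congrArg Subtype.val (DFunLike.congr_fun hy1
          ⟨z, hz.1, fun h hh => Subgroup.mem_centralizer_iff.1 hz.2 h hh, hzp⟩)
        exact h0)
    have hyC : k ^ p ^ j ∈ Subgroup.centralizer (((T : Subgroup X) ⊓
        Subgroup.centralizer ((T : Subgroup X) : Set X) : Subgroup X) : Set X) := by
      rw [Subgroup.mem_centralizer_iff]
      intro z hz
      have hzc : z ∈ Subgroup.centralizer (H : Set X) := Subgroup.centralizer_le hHT hz.2
      exact (mul_inv_eq_iff_eq_mul.1 (hyZ z ⟨hC hzc, hzc⟩)).symm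
    obtain ⟨t, ht⟩ := hCZ ⟨_, hyC⟩
    have ht' : (k ^ p ^ j) ^ p ^ t = 1 := congrArg Subtype.val ht
    have h1 : orderOf (k ^ p ^ j) = 1 :=
      Nat.eq_one_of_dvd_coprimes (Nat.Coprime.pow_right t hj) dvd_rfl
        (orderOf_dvd_of_pow_eq_one ht')
    rw [orderOf_eq_one_iff] at h1
    obtain ⟨n, hn, hkn⟩ := hPAP.cop
    exact mem_of_pow_mem_of_coprime (Nat.Coprime.pow_left j hn.symm) (h1 ▸ H.one_mem) (hkn k hk)
  by_contra hAH
  have hVc : ∀ x y : omZ p H, x * y = y * x := fun x y => Subtype.ext (y.2.2.1 x x.2.1)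
  have hVexp : ∀ v : omZ p H, v ^ p = 1 := fun v => Subtype.ext v.2.2.2
  have hEc : ∀ x y : K.map ψ, x * y = y * x := by
    rintro ⟨_, a, ha, rfl⟩ ⟨_, b, hb, rfl⟩
    apply Subtype.ext
    change ψ a * ψ b = ψ b * ψ a
    have h1 := hψH _ (hPAP.ab a ha b hb)
    rw [map_mul, map_mul, map_mul, map_inv, map_inv, mul_inv_eq_one, mul_inv_eq_iff_eq_mul] at h1
    exact h1
  have hEp : (Nat.card (K.map ψ)).Coprime p := by
    obtain ⟨n, hn, hkn⟩ := hPAP.cop
    by_contra hnc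
    have hdvd : p ∣ Nat.card (K.map ψ) :=
      (Nat.Prime.dvd_iff_not_coprime hp).2 (fun h => hnc h.symm)
    obtain ⟨x, hx⟩ := exists_prime_orderOf_dvd_card' (G := K.map ψ) p hdvd
    rw [← Subgroup.orderOf_coe] at hx
    obtain ⟨k, hk, hkx⟩ := x.2
    rw [← hkx] at hx
    have h1 : (ψ k) ^ n = 1 := by rw [← map_pow]; exact hψH _ (hkn k hk)
    have h2 := orderOf_dvd_of_pow_eq_one h1
    rw [hx] at h2
    exact hp.one_lt.ne' (Nat.eq_one_of_dvd_coprimes hn h2 dvd_rfl)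
  let ρ : A →* MulAut (omZ p H) := ψ.comp A.subtype
  have hEinv : ∀ d : A, ∀ x ∈ K.map ψ, ((MulAut.conj).comp ρ) d x ∈ K.map ψ := by
    rintro d _ ⟨k, hk, rfl⟩
    refine ⟨d * k * (d : X)⁻¹, hKn.conj_mem k hk d, ?_⟩
    rw [map_mul, map_mul, map_inv]
    rfl
  let φ : A →* MulAut (K.map ψ) := resAct ((MulAut.conj).comp ρ) (K.map ψ) hEinv
  have hφ : ∀ (d : A) (x : K.map ψ), ((φ d x : K.map ψ) : MulAut (omZ p H)) = ρ d * x * (ρ d)⁻¹ :=
    fun d x => rfl
  have hoff : ∀ B : Subgroup A,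
      Nat.card (fixB ρ B) * Nat.card B ≤ Nat.card (fixB ρ ⊤) * Nat.card A := by
    intro B
    have hB'A : B.map A.subtype ≤ A := Subgroup.map_subtype_le B
    have hFV : (fixB ρ B).map (omZ p H).subtype ≤ omZ p H := Subgroup.map_subtype_le _
    have hcomm : ∀ b ∈ B.map A.subtype, ∀ v ∈ (fixB ρ B).map (omZ p H).subtype, b * v = v * b := by
      rintro _ ⟨b, hb, rfl⟩ _ ⟨v, hv, rfl⟩
      have h1 : (b : X) * v * (b : X)⁻¹ = v := congrArg Subtype.val (hv b hb)
      exact mul_inv_eq_iff_eq_mul.1 h1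
    have hPEF : PE e ((fixB ρ B).map (omZ p H).subtype) := by
      constructor
      · intro x hx y hy
        exact (hFV hy).2.1 x (hFV hx).1
      · intro x hx
        obtain ⟨c, rfl⟩ := he
        rw [pow_mul, (hFV hx).2.2, one_pow]
    have hPE := PE_sup (hA.2.1.mono hB'A) hPEF hcomm
    have hle : B.map A.subtype ⊔ (fixB ρ B).map (omZ p H).subtype ≤ T :=
      sup_le (hB'A.trans hA.1) (hFV.trans (hVH.trans hHT))
    have h1 := hA.2.2 _ hle hPE
    have hLE : B.map A.subtype ≤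
        Subgroup.normalizer (((fixB ρ B).map (omZ p H).subtype : Subgroup X) : Set X) := by
      refine le_trans ?_ (Subgroup.centralizer_le_normalizer _)
      intro b hb
      rw [Subgroup.mem_centralizer_iff]
      intro v hv
      exact (hcomm b hb v hv).symm
    have h2 := card_sup_mul_card_inf hLE
    have h3 : Nat.card ((fixB ρ B).map (omZ p H).subtype ⊓ B.map A.subtype : Subgroup X) ≤
        Nat.card (fixB ρ ⊤) := by
      have h30 : Nat.card ((fixB ρ ⊤).map (omZ p H).subtype) = Nat.card (fixB ρ ⊤) :=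
        Subgroup.card_map_of_injective (omZ p H).subtype_injective
      rw [← h30]
      apply Subgroup.card_le_of_le
      rintro x ⟨hxF, hxB⟩
      refine ⟨⟨x, hFV hxF⟩, ?_, rfl⟩
      intro a _
      apply Subtype.ext
      change (a : X) * x * (a : X)⁻¹ = x
      rw [hA.2.1.1 a a.2 x (hB'A hxB), mul_inv_cancel_right]
    calc Nat.card (fixB ρ B) * Nat.card B
        = Nat.card (B.map A.subtype) * Nat.card ((fixB ρ B).map (omZ p H).subtype) := by
          rw [Subgroup.card_map_of_injective A.subtype_injective,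
            Subgroup.card_map_of_injective (omZ p H).subtype_injective, mul_comm]
      _ = _ := h2.symm
      _ ≤ Nat.card A * Nat.card (fixB ρ ⊤) := Nat.mul_le_mul h1 h3
      _ = _ := mul_comm _ _
  have hnt : ∃ d x, φ d x ≠ x := by
    by_contra hall
    push Not at hall
    apply hAH
    apply le_of_commutator_mem hPAP hcore T A hA.1
    intro a ha k hk
    apply claim1 _ (K.mul_mem (hKn.conj_mem k hk a) (K.inv_mem hk))
    have h1 : ψ a * ψ k * (ψ a)⁻¹ = ψ k :=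
      congrArg Subtype.val (hall ⟨a, ha⟩ ⟨ψ k, k, hk, rfl⟩)
    rw [map_mul, map_mul, map_mul, map_inv, map_inv, h1, mul_inv_cancel]
  obtain ⟨hp2, a, ⟨_, k, hk, rfl⟩, W₁, h4, hWa, hWy, hfpf, ⟨w, hw, hne⟩, hinv⟩ :=
    offender_main' (p := p) hEc hVc (fun a b => Subtype.ext (hA.2.1.1 a a.2 b b.2))
      (T.2.to_le hA.1) hEp hVexp φ ρ (K.map ψ).subtype (by
        intro d x v
        change ρ d (x.1 v) = (φ d x).1 (ρ d v)
        rw [hφ, MulAut.mul_apply, MulAut.mul_apply, MulAut.inv_apply_self])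
      (K.map ψ).subtype_injective hoff hnt
  rcases hS4 with h | h
  · exact h hp2
  · apply h
    subst hp2
    apply involves_S4 H (W₁.map (omZ 2 H).subtype) hPAP.Hp ?_ ?_ k a ?_ ?_ ?_ ?_ ?_ ?_ ?_
    · rintro h hh _ ⟨w, -, rfl⟩
      exact congrArg Subtype.val (DFunLike.congr_fun (hψH h hh) w)
    · rw [Subgroup.card_map_of_injective (omZ 2 H).subtype_injective, h4]
    · rintro _ ⟨w, hw, rfl⟩
      exact ⟨_, hWy w hw, rfl⟩
    · rintro _ ⟨w, hw, rfl⟩
      exact ⟨_, hWa w hw, rfl⟩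
    · rintro _ ⟨w, hw, rfl⟩ hfix
      have := hfpf w hw (Subtype.ext hfix)
      rw [this]
      rfl
    · exact ⟨w, ⟨w, hw, rfl⟩, fun hfix => hne (Subtype.ext hfix)⟩
    · obtain ⟨j, hj⟩ := (T.2.to_le hA.1) a
      exact ⟨j, congrArg Subtype.val hj⟩
    · apply claim1 _ (K.mul_mem (hKn.conj_mem k hk a) hk)
      have h1 : ψ a * ψ k * (ψ a)⁻¹ = (ψ k)⁻¹ := congrArg Subtype.val hinv
      rw [map_mul, map_mul, map_mul, map_inv, h1, inv_mul_cancel]
    · obtain ⟨n, hn, hkn⟩ := hPAP.cop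
      exact ⟨n, Nat.coprime_two_right.1 hn, hkn k hk⟩

end Cfsg.Agent.Lib.Helper1.Off
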