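import Cfsg.Agent.Lib.Helper1.ThompsonFin
import Cfsg.Agent.Lib.Helper62.CharFunctor
import Cfsg.Agent.S2005

set_option autoImplicit false

/-! Thompson's normal `p`-complement theorem with `C(Z(S))` and `N(J(S))`, for `p` odd or `S₄`-free groups;
both versions of `J` (`e = 0`: abelian subgroups of largest order, `e = p`: elementary abelian ones). -/

namespace Cfsg.Agent.Lib.Helper1.Off

open Subgroup Cfsg.Agent.Lib.Helper15.ZJ Cfsg.Agent.Lib.Helper62 Cfsg.Agent.Lib.Helper77
open Cfsg.Agent.S2005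

universe u

section basics
variable {X : Type*} [Group X] {Y : Type*} [Group Y]

/-- the centre of a subgroup, inside the ambient group -/
def ZT (R : Subgroup X) : Subgroup X := R ⊓ centralizer (R : Set X)

/-- the Thompson subgroup of a subgroup (`e = 0` abelian version, `e = p` elementary version) -/
def JE (e : ℕ) (R : Subgroup X) : Subgroup X := sSup (AE e R)

theorem ZT_le (R : Subgroup X) : ZT R ≤ R := inf_le_left

theorem JE_le (e : ℕ) (R : Subgroup X) : JE e R ≤ R := sSup_AE_le e R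

theorem ZT_map (f : X →* Y) (R : Subgroup X) (hf : Set.InjOn f (R : Set X)) :
    ZT (R.map f) = (ZT R).map f := by
  apply le_antisymm
  · rintro _ ⟨⟨z, hz, rfl⟩, hc⟩
    refine ⟨z, ⟨hz, ?_⟩, rfl⟩
    apply mem_centralizer_iff.2
    intro r hr
    have h1 := mem_centralizer_iff.1 hc (f r) ⟨r, hr, rfl⟩
    rw [← map_mul, ← map_mul] at h1
    exact hf (R.mul_mem hr hz) (R.mul_mem hz hr) h1
  · rintro _ ⟨z, ⟨hz, hc⟩, rfl⟩
    refine ⟨⟨z, hz, rfl⟩, ?_⟩
    apply mem_centralizer_iff.2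
    rintro _ ⟨r, hr, rfl⟩
    rw [← map_mul, ← map_mul, mem_centralizer_iff.1 hc r hr]

theorem JE_map (e : ℕ) (f : X →* Y) (R : Subgroup X) (hf : Set.InjOn f (R : Set X)) :
    JE e (R.map f) = (JE e R).map f := by
  unfold JE
  rw [AE_map f hf, sSup_image, (gc_map_comap f).l_sSup]

theorem normalizer_le_ZT (R : Subgroup X) :
    normalizer (R : Set X) ≤ normalizer (ZT R : Set X) := by
  intro x hx
  rw [mem_normalizer_iff_map_conj_eq] at hx ⊢
  have h1 := ZT_map (MulAut.conj x).toMonoidHom R (MulAut.conj x).injective.injOn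
  exact h1.symm.trans (congrArg ZT hx)

theorem normalizer_le_JE (e : ℕ) (R : Subgroup X) :
    normalizer (R : Set X) ≤ normalizer (JE e R : Set X) := by
  intro x hx
  rw [mem_normalizer_iff_map_conj_eq] at hx ⊢
  have h1 := JE_map e (MulAut.conj x).toMonoidHom R (MulAut.conj x).injective.injOn
  exact h1.symm.trans (congrArg (JE e) hx)

theorem ZT_ne_bot {p : ℕ} [Fact p.Prime] (R : Subgroup X) [Finite R] (hR : IsPGroup p R)
    (hne : R ≠ ⊥) : ZT R ≠ ⊥ := by
  have : Nontrivial R := (nontrivial_iff_ne_bot R).2 hne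
  have h1 := hR.center_nontrivial
  obtain ⟨z, hz⟩ := exists_ne (1 : center R)
  intro h
  apply hz
  have h2 : ((z : R) : X) ∈ ZT R := by
    refine ⟨z.1.2, ?_⟩
    apply mem_centralizer_iff.2
    intro r hr
    exact congrArg Subtype.val (mem_center_iff.1 z.2 ⟨r, hr⟩)
  rw [h, mem_bot] at h2
  exact Subtype.ext (Subtype.ext h2)

theorem JE_ne_bot [Finite X] {p : ℕ} [Fact p.Prime] {e : ℕ} (he : p ∣ e) (R : Subgroup X)
    (hR : IsPGroup p R) (hne : R ≠ ⊥) : JE e R ≠ ⊥ := by
  have hp := (Fact.out : p.Prime)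
  have : Nontrivial R := (nontrivial_iff_ne_bot R).2 hne
  have hdvd : p ∣ Nat.card R := by
    obtain ⟨n, hn0, hn⟩ := hR.nontrivial_iff_card.mp inferInstance
    exact hn.symm ▸ dvd_pow_self _ (ne_of_gt hn0)
  obtain ⟨x, hx⟩ := exists_prime_orderOf_dvd_card' (G := R) p hdvd
  rw [← Subgroup.orderOf_coe] at hx
  have hxe : (x : X) ^ e = 1 := by
    obtain ⟨c, rfl⟩ := he
    rw [pow_mul, ← hx, pow_orderOf_eq_one, one_pow]
  obtain ⟨A, hA⟩ := AE_nonempty e R
  have h1 := hA.2.2 (zpowers (x : X)) (zpowers_le.2 x.2) (PE_zpowers hxe)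
  rw [Nat.card_zpowers, hx] at h1
  intro h
  have h2 : A ≤ ⊥ := h ▸ le_sSup hA
  rw [le_bot_iff] at h2
  rw [h2, card_bot] at h1
  exact absurd h1 (not_le.2 hp.one_lt)

theorem AE_eq_of_forall_le [Finite X] {e : ℕ} {T S : Subgroup X} (hTS : T ≤ S)
    (h : ∀ A ∈ AE e S, A ≤ T) : AE e T = AE e S := by
  obtain ⟨A0, hA0⟩ := AE_nonempty e S
  ext A
  rw [mem_AE_sub_iff hTS hA0 (h A0 hA0)]
  exact ⟨fun h1 => h1.1, fun h1 => ⟨h1, h A h1⟩⟩

theorem isPGroup_of_npc [Finite X] {p : ℕ} [Fact p.Prime] {H M : Subgroup X} [hHn : H.Normal]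
    (hHp : IsPGroup p H) (hC : centralizer (H : Set X) ≤ H) (hHM : H ≤ M) (h : NPC p M) :
    IsPGroup p M := by
  obtain ⟨D, hDn, hDc, k, hk⟩ := h
  have hdisj : D ⊓ H.subgroupOf M = ⊥ := by
    apply (disjoint_of_coprime_natCard _).eq_bot
    have hHp' : IsPGroup p (H.subgroupOf M) := hHp.comap_subtype
    obtain ⟨t, ht⟩ := hHp'.exists_card_eq
    rw [ht]
    exact Nat.Coprime.pow_right t hDc
  have hD : D = ⊥ := by
    rw [eq_bot_iff]
    intro d hd
    have h1 : (d : X) ∈ centralizer (H : Set X) := by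
      rw [mem_centralizer_iff]
      intro h hh
      have h2 : d * ⟨h, hHM hh⟩ * d⁻¹ * (⟨h, hHM hh⟩ : M)⁻¹ ∈ D ⊓ H.subgroupOf M := by
        constructor
        · have h3 : d * ⟨h, hHM hh⟩ * d⁻¹ * (⟨h, hHM hh⟩ : M)⁻¹ =
              d * (⟨h, hHM hh⟩ * d⁻¹ * (⟨h, hHM hh⟩ : M)⁻¹) := by group
          rw [h3]
          exact D.mul_mem hd (hDn.conj_mem _ (D.inv_mem hd) _)
        · change (d : X) * h * (d : X)⁻¹ * h⁻¹ ∈ H
          exact H.mul_mem (hHn.conj_mem h hh d) (H.inv_mem hh)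
      rw [hdisj, mem_bot] at h2
      have h4 : (d : X) * h * (d : X)⁻¹ * h⁻¹ = 1 := congrArg Subtype.val h2
      rw [mul_inv_eq_one, mul_inv_eq_iff_eq_mul] at h4
      exact h4.symm
    have h5 : d ∈ D ⊓ H.subgroupOf M := ⟨hd, hC h1⟩
    rwa [hdisj] at h5
  apply IsPGroup.of_card (n := k)
  rw [← hk, hD, index_bot]

end basics

theorem absChar_ZT {X : Type u} [Group X] (R : Subgroup X) : AbsChar (ZT R) R := by
  intro Z _ _ i hi
  rw [← ZT_map i R hi.injOn]
  exact normalizer_le_ZT _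

theorem absChar_JE {X : Type u} [Group X] (e : ℕ) (R : Subgroup X) : AbsChar (JE e R) R := by
  intro Z _ _ i hi
  rw [← JE_map e i R hi.injOn]
  exact normalizer_le_JE e _

theorem involves_of_sec {G X : Type u} [Group G] [Group X] {L : Type*} [Group L] (hS : Sec G X)
    (h : Cfsg.Involves L X) : Cfsg.Involves L G := by
  obtain ⟨K, R, hR, ⟨e⟩⟩ := h
  obtain ⟨K', R', hR', ⟨e'⟩⟩ := ((hS.sub K).quot (R.subgroupOf K)).exists_equiv
  exact ⟨K', R', hR', ⟨e'.symm.trans e⟩⟩

theorem thompson_frame (G : Type u) [Group G] [Finite G] (p : ℕ) [Fact p.Prime] (e : ℕ) (he : p ∣ e)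
    (hS4 : p ≠ 2 ∨ ¬ Cfsg.Involves (Equiv.Perm (Fin 4)) G) :
    Frame p (fun X _ => Sec G X) (fun X _ R =>
      NPC p (centralizer (ZT R : Set X)) ∧ NPC p (normalizer (JE e R : Set X))) where
  sub := fun X _ Y h => h.sub Y
  quot := fun X _ N _ h => h.quot N
  loc := by
    intro X _ _ _ R hR h
    constructor
    · have h1 := h (ZT R) (ZT_le _) (ZT_ne_bot _ R.2 hR) (absChar_ZT _)
      exact NPC.of_injective (inclusion (centralizer_le_normalizer _)) (inclusion_injective _) h1
    · exact h (JE e R) (JE_le e _) (JE_ne_bot he _ R.2 hR) (absChar_JE e _)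
  res := by
    intro X _ _ Y R hRY h
    constructor
    · apply npc_centralizer_of_injective Y.subtype Y.subtype_injective
      rw [← ZT_map Y.subtype _ Y.subtype_injective.injOn, subgroupOf_map_subtype,
        inf_of_le_left hRY]
      exact h.1
    · apply npc_normalizer_of_injective Y.subtype Y.subtype_injective
      rw [← JE_map e Y.subtype _ Y.subtype_injective.injOn, subgroupOf_map_subtype,
        inf_of_le_left hRY]
      exact h.2
  pquot := by
    intro X _ _ D _ hD R h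
    constructor
    · rw [ZT_map _ _ (injOn_mk'_of_coprime D hD R.2)]
      exact npc_centralizer_quot D hD (R.2.to_le (ZT_le _)) h.1
    · rw [JE_map e _ _ (injOn_mk'_of_coprime D hD R.2)]
      exact npc_normalizer_quot D hD (R.2.to_le (JE_le e _)) h.2
  fin := by
    intro X _ _ hS hH hC hq hco
    obtain ⟨T⟩ : Nonempty (Sylow p X) := inferInstance
    obtain ⟨K, hPAP⟩ := exists_PAP (Cfsg.pCore p X) Cfsg.Agent.Lib.Helper14.isPGroup_pCore hq T
      (hco T)
    have hHT : Cfsg.pCore p X ≤ T := Cfsg.Agent.Lib.Helper14.pCore_le_sylow T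
    have hCZ : IsPGroup p (centralizer (ZT (T : Subgroup X) : Set X)) := by
      apply isPGroup_of_npc Cfsg.Agent.Lib.Helper14.isPGroup_pCore hC _ (hH T).1
      intro h hh
      rw [mem_centralizer_iff]
      intro z hz
      exact (mem_centralizer_iff.1 hz.2 h (hHT hh)).symm
    have hS4X : p ≠ 2 ∨ ¬ Cfsg.Involves (Equiv.Perm (Fin 4)) X :=
      hS4.imp id (fun h hX => h (involves_of_sec hS hX))
    have hall := fin_main he hPAP hC
      (fun N hN hNp => Cfsg.Agent.Lib.Helper14.le_pCore hN hNp) T hS4X hCZ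
    have hJ : JE e (T : Subgroup X) = JE e (Cfsg.pCore p X) := by
      unfold JE
      rw [AE_eq_of_forall_le hHT hall]
    have htop : normalizer (JE e (T : Subgroup X) : Set X) = ⊤ := by
      rw [hJ, eq_top_iff]
      refine le_trans ?_ (normalizer_le_JE e _)
      rw [normalizer_eq_top]
    exact NPC.of_eq_top htop (hH T).2

/-- Thompson's normal `p`-complement theorem, for `p` odd or `S₄`-free groups. -/
theorem thompson_npc {G : Type u} [Group G] [Finite G] {p : ℕ} [Fact p.Prime] {e : ℕ} (he : p ∣ e)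
    (hS4 : p ≠ 2 ∨ ¬ Cfsg.Involves (Equiv.Perm (Fin 4)) G) (S : Sylow p G)
    (hC : NPC p (centralizer (ZT (S : Subgroup G) : Set G)))
    (hN : NPC p (normalizer (JE e (S : Subgroup G) : Set G))) : NPC p G := by
  apply (thompson_frame G p e he hS4).main _ G rfl (Sec.refl G)
  intro T
  obtain ⟨g, rfl⟩ := MulAction.exists_smul_eq G S T
  have h1 : ((g • S : Sylow p G) : Subgroup G) = (S : Subgroup G).map (MulAut.conj g).toMonoidHom :=
    rfl
  have h2 : ∀ L : Subgroup G, (L.map (MulAut.conj g).toMonoidHom).map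
      (MulAut.conj g⁻¹).toMonoidHom = L := by
    intro L
    rw [map_map]
    convert map_id L
    ext x
    simp only [MonoidHom.comp_apply, MulEquiv.coe_toMonoidHom, MulAut.conj_apply, MonoidHom.id_apply]
    group
  rw [h1, ZT_map _ _ (MulAut.conj g).injective.injOn, JE_map e _ _ (MulAut.conj g).injective.injOn]
  constructor
  · apply npc_centralizer_of_injective (MulAut.conj g⁻¹).toMonoidHom (MulAut.conj g⁻¹).injective
    rw [h2]
    exact hC
  · apply npc_normalizer_of_injective (MulAut.conj g⁻¹).toMonoidHom (MulAut.conj g⁻¹).injective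
    rw [h2]
    exact hN

end Cfsg.Agent.Lib.Helper1.Off
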