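import Cfsg.Agent.Lib.Helper1.ThompsonNPC
import Cfsg.Agent.Lib.Helper1.PGroup

set_option autoImplicit false

/-! Glauberman's ZJ-theorem for the FULL centre `Z(J_e(S))` of the elementary abelian version of the
Thompson subgroup (not only `Ω₁ Z(J_e(S))`), in the abstract style of `Helper15.ZJ`. -/

namespace Cfsg.Agent.Lib.Helper1.ZJe

open Subgroup Cfsg.Agent.Lib.Helper15.ZJ Cfsg.Agent.Lib.Helper1.Off

variable {G : Type*} [Group G] {H : Type*} [Group H]

/-- the centre of the Thompson subgroup `JE e T`. -/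
def ZJ (e : ℕ) (T : Subgroup G) : Subgroup G := ZT (JE e T)

theorem ZJ_le_JE (e : ℕ) (T : Subgroup G) : ZJ e T ≤ JE e T := ZT_le _

theorem ZJ_le (e : ℕ) (T : Subgroup G) : ZJ e T ≤ T := (ZT_le _).trans (JE_le e T)

theorem ZJ_comm {e : ℕ} {T : Subgroup G} {x y : G} (hx : x ∈ ZJ e T) (hy : y ∈ ZJ e T) :
    x * y = y * x :=
  mem_centralizer_iff.1 hy.2 x hx.1

theorem ZJ_map (e : ℕ) (f : G →* H) (T : Subgroup G) (hf : Set.InjOn f (T : Set G)) :
    ZJ e (T.map f) = (ZJ e T).map f := by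
  unfold ZJ
  rw [JE_map e f T hf, ZT_map f _ (hf.mono (JE_le e T))]

theorem normalizer_le_ZJ (e : ℕ) (T : Subgroup G) :
    normalizer (T : Set G) ≤ normalizer (ZJ e T : Set G) :=
  (normalizer_le_JE e T).trans (normalizer_le_ZT _)

theorem conj_mem_ZJ {e : ℕ} {T : Subgroup G} {g z : G} (hg : g ∈ normalizer (T : Set G))
    (hz : z ∈ ZJ e T) : g * z * g⁻¹ ∈ ZJ e T :=
  (mem_normalizer_iff.1 (normalizer_le_ZJ e T hg) z).1 hz

theorem ZE_le_ZJ [Finite G] (e : ℕ) (T : Subgroup G) : ZE e T ≤ ZJ e T := by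
  intro x hx
  exact ⟨ZE_le_sSup e T hx, (mem_ZE_iff'.1 hx).2.2⟩

theorem mem_ZE_of_mem_ZJ [Finite G] {e : ℕ} {T : Subgroup G} {z : G} (hz : z ∈ ZJ e T)
    (hze : z ^ e = 1) : z ∈ ZE e T :=
  mem_ZE_iff'.2 ⟨ZJ_le e T hz, hze, hz.2⟩

theorem ZJ_eq_of_forall_le [Finite G] {e : ℕ} {T S : Subgroup G} (hTS : T ≤ S)
    (h : ∀ A ∈ AE e S, A ≤ T) : ZJ e T = ZJ e S := by
  unfold ZJ JE
  rw [AE_eq_of_forall_le hTS h]

/-! ### class two -/

theorem cl2_pow_right' {a b c : G} (h : a * b = c * (b * a)) (hcb : Commute c b) (j : ℕ) :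
    a * b ^ j = c ^ j * (b ^ j * a) := by
  induction j with
  | zero => simp
  | succ j ih =>
    have h1 : Commute (b ^ j) c := (hcb.pow_right j).symm
    calc a * b ^ (j + 1) = (a * b ^ j) * b := by rw [pow_succ]; group
      _ = c ^ j * b ^ j * (a * b) := by rw [ih]; group
      _ = c ^ j * (b ^ j * c) * (b * a) := by rw [h]; group
      _ = c ^ j * (c * b ^ j) * (b * a) := by rw [h1.eq]
      _ = c ^ (j + 1) * (b ^ (j + 1) * a) := by rw [pow_succ, pow_succ]; group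

theorem cl2_mul_pow' {a b c : G} (h : a * b = c * (b * a)) (hca : Commute c a) (hcb : Commute c b)
    (k : ℕ) : (a * b) ^ k * c ^ (k.choose 2) = a ^ k * b ^ k := by
  induction k with
  | zero => simp
  | succ k ih =>
    have h1 : a * b ^ k = c ^ k * (b ^ k * a) := cl2_pow_right' h hcb k
    have h2 : Commute (c ^ k) (a * b) := (hca.mul_right hcb).pow_left k
    have h3 : Commute (c ^ (k.choose 2)) (a * b) := (hca.mul_right hcb).pow_left _
    have h4 : (k + 1).choose 2 = k + k.choose 2 := by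
      rw [Nat.choose_succ_succ' k 1, Nat.choose_one_right]
    calc (a * b) ^ (k + 1) * c ^ ((k + 1).choose 2)
        = (a * b) ^ k * ((a * b) * c ^ k) * c ^ (k.choose 2) := by
          rw [h4, pow_succ, pow_add]; group
      _ = (a * b) ^ k * (c ^ k * (a * b)) * c ^ (k.choose 2) := by rw [h2.eq]
      _ = (a * b) ^ k * c ^ k * ((a * b) * c ^ (k.choose 2)) := by group
      _ = (a * b) ^ k * c ^ k * (c ^ (k.choose 2) * (a * b)) := by rw [h3.eq]
      _ = (a * b) ^ k * (c ^ k * c ^ (k.choose 2)) * (a * b) := by group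
      _ = (a * b) ^ k * (c ^ (k.choose 2) * c ^ k) * (a * b) := by
          rw [← pow_add, ← pow_add, add_comm]
      _ = ((a * b) ^ k * c ^ (k.choose 2)) * c ^ k * (a * b) := by group
      _ = a ^ k * b ^ k * c ^ k * (a * b) := by rw [ih]
      _ = a ^ (k + 1) * b ^ (k + 1) := by
          have h6 : b ^ k * c ^ k * a = a * b ^ k := by
            rw [h1, ((hcb.pow_left k).pow_right k).eq.symm]; group
          calc a ^ k * b ^ k * c ^ k * (a * b) = a ^ k * (b ^ k * c ^ k * a) * b := by group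
            _ = a ^ k * (a * b ^ k) * b := by rw [h6]
            _ = a ^ (k + 1) * b ^ (k + 1) := by rw [pow_succ, pow_succ]; group

theorem mul_pow_of_cl2 {p : ℕ} (hp : p.Prime) (hp2 : p ≠ 2) {a b : G}
    (hca : Commute (a * b * a⁻¹ * b⁻¹) a) (hcb : Commute (a * b * a⁻¹ * b⁻¹) b)
    (hc : (a * b * a⁻¹ * b⁻¹) ^ p = 1) : (a * b) ^ p = a ^ p * b ^ p := by
  have h := cl2_mul_pow' (a := a) (b := b) (c := a * b * a⁻¹ * b⁻¹) (by group) hca hcb p
  have hdvd : p ∣ p.choose 2 :=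
    hp.dvd_choose_self (by norm_num) (lt_of_le_of_ne hp.two_le (Ne.symm hp2))
  obtain ⟨k, hk⟩ := hdvd
  rw [hk, pow_mul, hc, one_pow, mul_one] at h
  exact h

/-- a `p'`-element centralizing `Ω₁(B)` centralizes `B`, when the `p`-th power map is an
endomorphism of `B`. -/
theorem centralizes_of_omega {p : ℕ} {B : Subgroup G} {k : G} {m : ℕ} (hm : m.Coprime p)
    (hkm : k ^ m = 1) (hkB : ∀ b ∈ B, k * b * k⁻¹ ∈ B)
    (hpow : ∀ x ∈ B, ∀ y ∈ B, (x * y) ^ p = x ^ p * y ^ p)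
    (hV : ∀ v ∈ B, v ^ p = 1 → k * v * k⁻¹ = v) :
    ∀ (i : ℕ), ∀ b ∈ B, b ^ p ^ i = 1 → k * b * k⁻¹ = b := by
  intro i
  induction i with
  | zero =>
    intro b _ hb
    rw [pow_zero, pow_one] at hb
    rw [hb]; group
  | succ i ih =>
    intro b hb hbi
    have h1 : k * b ^ p * k⁻¹ = b ^ p :=
      ih _ (B.pow_mem hb p) (by rw [← pow_mul, ← pow_succ']; exact hbi)
    set v := k * b * k⁻¹ * b⁻¹ with hv
    have hvB : v ∈ B := B.mul_mem (hkB b hb) (B.inv_mem hb)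
    have hvp : v ^ p = 1 := by
      rw [hv, hpow _ (hkB b hb) _ (B.inv_mem hb), conj_pow, h1, inv_pow, mul_inv_cancel]
    have hkv : k * v * k⁻¹ = v := hV v hvB hvp
    have hkb : k * b * k⁻¹ = v * b := by rw [hv]; group
    have hj : ∀ j : ℕ, k ^ j * b * (k ^ j)⁻¹ = v ^ j * b := by
      intro j
      induction j with
      | zero => simp
      | succ j ihj =>
        have e1 : k ^ (j + 1) * b * (k ^ (j + 1))⁻¹ = k * (k ^ j * b * (k ^ j)⁻¹) * k⁻¹ := by
          rw [pow_succ']; group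
        have e2 : k * (v ^ j * b) * k⁻¹ = (k * v * k⁻¹) ^ j * (k * b * k⁻¹) := by
          rw [conj_pow]; group
        rw [e1, ihj, e2, hkv, hkb, pow_succ]; group
    have h2 := hj m
    rw [hkm] at h2
    have h3 : v ^ m = 1 := by simpa using h2.symm
    have h4 : v = 1 := by
      have h5 := pow_gcd_eq_one.2 ⟨h3, hvp⟩
      rwa [Nat.Coprime.gcd_eq_one hm, pow_one] at h5
    rw [hkb, h4, one_mul]

theorem exists_proper_pow [Finite G] {p : ℕ} [Fact p.Prime] {B : Subgroup G} (hB : IsPGroup p B)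
    (hne : B ≠ ⊥) : ∃ N : Subgroup G, N < B ∧ ∀ b ∈ B, b ^ p ∈ N := by
  have hnt : Nontrivial B := (nontrivial_iff_ne_bot B).2 hne
  obtain ⟨M, hM, -⟩ : ∃ M : Subgroup B, IsCoatom M ∧ ⊥ ≤ M := by
    rcases eq_top_or_exists_le_coatom (⊥ : Subgroup B) with h | h
    · exact absurd h bot_ne_top
    · exact h
  refine ⟨M.map B.subtype, ?_, ?_⟩
  · refine lt_of_le_of_ne (map_subtype_le _) ?_
    intro h
    apply hM.1
    rw [eq_top_iff]
    intro x _
    have : (x : G) ∈ M.map B.subtype := by rw [h]; exact x.2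
    obtain ⟨y, hy, hyx⟩ := this
    have : y = x := Subtype.ext hyx
    rwa [← this]
  · intro b hb
    exact ⟨⟨b, hb⟩ ^ p, Cfsg.Agent.Lib.Helper1.pgroup_pow_mem_coatom hB hM ⟨b, hb⟩, rfl⟩

/-! ### the main induction -/

theorem inf_normal_aux [Finite G] {p : ℕ} [Fact p.Prime] (hp : p ≠ 2)
    (S : Sylow p G) (hst : PStab p (S : Subgroup G)) :
    ∀ (n : ℕ) (B : Subgroup G), Nat.card B = n → B.Normal → IsPGroup p B →
      (ZJ p (S : Subgroup G) ⊓ B).Normal := by
  intro n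
  induction n using Nat.strong_induction_on with
  | _ n ih =>
  intro B hBn hBnorm hBp
  have hpp : p.Prime := Fact.out
  have hpodd : Odd p := hpp.odd_of_ne_two hp
  set Z := ZJ p (S : Subgroup G) with hZ
  have hBS : B ≤ S := hBp.le_sylow_of_normal S
  have hSZ : ∀ s ∈ (S : Subgroup G), ∀ z ∈ Z, s * z * s⁻¹ ∈ Z :=
    fun s hs z hz => conj_mem_ZJ (Subgroup.le_normalizer hs) hz
  have hcardlt : ∀ C : Subgroup G, C < B → Nat.card C < n := by
    intro C hC
    rw [← hBn]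
    by_contra hcon
    push Not at hcon
    exact hC.ne (Subgroup.eq_of_le_of_card_ge hC.le hcon)
  by_cases hB1 : Subgroup.normalClosure ((Z ⊓ B : Subgroup G) : Set G) = B
  swap
  · have hB1le : Subgroup.normalClosure ((Z ⊓ B : Subgroup G) : Set G) ≤ B :=
      Subgroup.normalClosure_le_normal (inf_le_right : Z ⊓ B ≤ B)
    have := ih _ (hcardlt _ (lt_of_le_of_ne hB1le hB1)) _ rfl Subgroup.normalClosure_normal
      (hBp.to_le hB1le)
    have heq : Z ⊓ B = Z ⊓ Subgroup.normalClosure ((Z ⊓ B : Subgroup G) : Set G) :=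
      le_antisymm (le_inf inf_le_left Subgroup.le_normalClosure) (inf_le_inf_left _ hB1le)
    rw [heq]
    exact this
  by_cases hbot : B = ⊥
  · rw [hbot, inf_bot_eq]
    infer_instance
  -- the derived subgroup lies in `Z`
  have hB' : ⁅B, B⁆ < B := commutator_lt hBp hbot
  have hM : (Z ⊓ ⁅B, B⁆).Normal :=
    ih _ (hcardlt _ hB') _ rfl (Subgroup.commutator_normal B B) (hBp.to_le hB'.le)
  have hBM : ∀ x ∈ B, ∀ y ∈ B, x * y * x⁻¹ * y⁻¹ ∈ Z ⊓ ⁅B, B⁆ := by
    intro x hx y hy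
    have h := comm_mem_of_normalClosure (W := Z ⊓ B) hM hBnorm (by
      intro z hz y hy
      refine ⟨?_, Subgroup.commutator_mem_commutator hz.2 hy⟩
      have : z * y * z⁻¹ * y⁻¹ = z * (y * z⁻¹ * y⁻¹) := by group
      rw [this]
      exact Z.mul_mem hz.1 (hSZ y (hBS hy) _ (Z.inv_mem hz.1)))
    rw [hB1] at h
    exact h x hx y hy
  -- normal subgroups inside `Z` are centralized by `B`
  have hcentr : ∀ M : Subgroup G, M.Normal → M ≤ Z → B ≤ centralizer (M : Set G) := by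
    intro M hMn hMZ
    conv_lhs => rw [← hB1]
    apply normalClosure_le_normal
    intro z hz
    rw [SetLike.mem_coe, mem_centralizer_iff]
    intro m hm
    exact ZJ_comm (hMZ hm) hz.1
  have hcen : ∀ x ∈ B, ∀ y ∈ B, ∀ b ∈ B, Commute (x * y * x⁻¹ * y⁻¹) b := by
    intro x hx y hy b hb
    exact mem_centralizer_iff.1 (hcentr _ hM inf_le_left hb) _ (hBM x hx y hy)
  -- `p`-th powers
  obtain ⟨N0, hN0lt, hN0⟩ := exists_proper_pow hBp hbot
  set B2 := normalClosure ((fun z => z ^ p) '' ((Z ⊓ B : Subgroup G) : Set G)) with hB2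
  have hB2N : B2 ≤ N0 := by
    rw [hB2]
    unfold normalClosure
    rw [closure_le]
    intro y hy
    rw [Group.mem_conjugatesOfSet_iff] at hy
    obtain ⟨x, ⟨z, hz, rfl⟩, hxy⟩ := hy
    rw [isConj_iff] at hxy
    obtain ⟨g, rfl⟩ := hxy
    change g * z ^ p * g⁻¹ ∈ N0
    rw [← conj_pow]
    exact hN0 _ (hBnorm.conj_mem z hz.2 g)
  have hB2lt : B2 < B := lt_of_le_of_lt hB2N hN0lt
  have hM2 : (Z ⊓ B2).Normal :=
    ih _ (hcardlt _ hB2lt) _ rfl normalClosure_normal (hBp.to_le hB2lt.le)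
  have hB2Z : B2 ≤ Z := by
    have h1 : B2 ≤ Z ⊓ B2 := by
      apply normalClosure_le_normal
      rintro _ ⟨z, hz, rfl⟩
      exact ⟨Z.pow_mem hz.1 p, subset_normalClosure ⟨z, hz, rfl⟩⟩
    exact h1.trans inf_le_left
  have hB2c : B ≤ centralizer (B2 : Set G) := hcentr B2 normalClosure_normal hB2Z
  -- commutators have order `p`
  have hexp : ∀ x ∈ B, ∀ y ∈ B, (x * y * x⁻¹ * y⁻¹) ^ p = 1 := by
    let X : Subgroup G :=
      { carrier := {x | x ∈ B ∧ ∀ y ∈ B, (x * y * x⁻¹ * y⁻¹) ^ p = 1}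
        one_mem' := ⟨B.one_mem, fun y _ => by simp⟩
        mul_mem' := by
          rintro x x' ⟨hx, hx1⟩ ⟨hx', hx1'⟩
          refine ⟨B.mul_mem hx hx', fun y hy => ?_⟩
          have h1 : x * x' * y * (x * x')⁻¹ * y⁻¹ =
              (x * (x' * y * x'⁻¹ * y⁻¹) * x⁻¹) * (x * y * x⁻¹ * y⁻¹) := by group
          have h2 : x * (x' * y * x'⁻¹ * y⁻¹) * x⁻¹ = x' * y * x'⁻¹ * y⁻¹ := by
            rw [← (hcen x' hx' y hy x hx).eq]; group
          have h3 : x * y * x⁻¹ * y⁻¹ ∈ B :=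
            B.mul_mem (B.mul_mem (B.mul_mem hx hy) (B.inv_mem hx)) (B.inv_mem hy)
          rw [h1, h2, (hcen x' hx' y hy _ h3).mul_pow, hx1' y hy, hx1 y hy, one_mul]
        inv_mem' := by
          rintro x ⟨hx, hx1⟩
          refine ⟨B.inv_mem hx, fun y hy => ?_⟩
          have h1 : x⁻¹ * y * x⁻¹⁻¹ * y⁻¹ = x⁻¹ * (x * y * x⁻¹ * y⁻¹)⁻¹ * x⁻¹⁻¹ := by group
          rw [h1, conj_pow, inv_pow, hx1 y hy]; group }
    have hXn : X.Normal := by
      constructor
      rintro x ⟨hx, hx1⟩ g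
      refine ⟨hBnorm.conj_mem x hx g, fun y hy => ?_⟩
      have h1 : g * x * g⁻¹ * y * (g * x * g⁻¹)⁻¹ * y⁻¹ =
          g * (x * (g⁻¹ * y * g⁻¹⁻¹) * x⁻¹ * (g⁻¹ * y * g⁻¹⁻¹)⁻¹) * g⁻¹ := by group
      rw [h1, conj_pow, hx1 _ (hBnorm.conj_mem y hy g⁻¹)]; group
    have hZX : ((Z ⊓ B : Subgroup G) : Set G) ⊆ X := by
      intro z hz
      refine ⟨hz.2, fun y hy => ?_⟩
      set c := z * y * z⁻¹ * y⁻¹ with hc
      have h1 : y * z * y⁻¹ = c⁻¹ * z := by rw [hc]; group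
      have h2 : (y * z * y⁻¹) ^ p = z ^ p := by
        rw [conj_pow]
        have h4 := mem_centralizer_iff.1 (hB2c hy) (z ^ p) (subset_normalClosure ⟨z, hz, rfl⟩)
        rw [← h4]; group
      have h3 : Commute c⁻¹ z := (hcen z hz.2 y hy z hz.2).inv_left
      rw [h1, h3.mul_pow, mul_eq_right, inv_pow, inv_eq_one] at h2
      exact h2
    have hBX : B ≤ X := by
      conv_lhs => rw [← hB1]
      exact normalClosure_le_normal hZX
    intro x hx
    exact (hBX hx).2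
  have hBW : ∀ x ∈ B, ∀ y ∈ B, x * y * x⁻¹ * y⁻¹ ∈ ZE p (S : Subgroup G) :=
    fun x hx y hy => mem_ZE_of_mem_ZJ (hBM x hx y hy).1 (hexp x hx y hy)
  have hpow : ∀ x ∈ B, ∀ y ∈ B, (x * y) ^ p = x ^ p * y ^ p :=
    fun x hx y hy =>
      mul_pow_of_cl2 hpp hp (hcen x hx y hy x hx) (hcen x hx y hy y hy) (hexp x hx y hy)
  set N1 := Subgroup.normalizer ((Z ⊓ B : Subgroup G) : Set G) with hN1
  set L := N1.normalCore with hL
  set T := (S : Subgroup G) ⊓ L with hT
  have hfr : Subgroup.normalizer (T : Set G) ⊔ L = ⊤ := frattini S L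
  have hTS : T ≤ S := inf_le_left
  have hLN1 : L ≤ N1 := Subgroup.normalCore_le N1
  have hSN1 : (S : Subgroup G) ≤ N1 := by
    intro s hs
    apply Cfsg.Agent.Lib.Helper15.Repl.mem_normalizer_of_conj
    intro x hx
    exact ⟨hSZ s hs x hx.1, hBnorm.conj_mem x hx.2 s⟩
  have hCN1 : Subgroup.centralizer (B : Set G) ≤ N1 := by
    intro c hc
    apply Cfsg.Agent.Lib.Helper15.Repl.mem_normalizer_of_conj
    intro x hx
    have : c * x * c⁻¹ = x := by
      rw [← Subgroup.mem_centralizer_iff.1 hc x hx.2]; group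
    rw [this]
    exact hx
  have hBT : B ≤ T := le_inf hBS (normal_le_normalCore.2 (hBS.trans hSN1))
  -- quadratic action forces containment in `L`
  have hquadL : ∀ V : Subgroup G, V.Normal → IsPGroup p V → centralizer (V : Set G) ≤ N1 →
      ∀ A : Subgroup G, A ≤ S → (∀ x ∈ A, ∀ y ∈ A, x * y = y * x) →
      V ≤ normalizer (A : Set G) → A ≤ L := by
    intro V hVn hVp hVC A hAS hAc hVA a ha
    obtain ⟨K, hK, haK, hKp⟩ := hst V hVn hVp a (hAS ha) (quad_of_normalizes hAc hVA ha)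
    have h1 : K ≤ centralizer (V : Set G) ⊔ (S : Subgroup G) :=
      le_sup_sylow S hK inferInstance hKp
    exact (normal_le_normalCore.2 (h1.trans (sup_le hVC hSN1))) haK
  -- some member of `AE p S` lies in `T`
  obtain ⟨A0, hA0, hmax0⟩ := Set.exists_max_image (AE p (S : Subgroup G))
    (fun A => Nat.card (A ⊓ B : Subgroup G)) (Set.toFinite _) (AE_nonempty p _)
  have hBNA0 : B ≤ normalizer (A0 : Set G) := by
    by_contra hcon
    obtain ⟨A', hA'S, hA'PE, hcard, hlt, hA'N⟩ := replacement hp S.2 hBS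
      (fun s _ x hx => hBnorm.conj_mem x hx s) hA0.1 (Or.inr hpodd) hA0.2.1
      (fun x hx y hy => ZE_le_of_mem hA0 (hBW x hx y hy)) hcon
    have hA'mem : A' ∈ AE p (S : Subgroup G) :=
      ⟨hA'S, hA'PE, fun C hC hC' => (hA0.2.2 C hC hC').trans (le_of_eq hcard.symm)⟩
    exact hlt.ne (eq_of_le_of_card_ge hlt.le (hmax0 A' hA'mem))
  have hA0L : A0 ≤ L := hquadL B hBnorm hBp hCN1 A0 hA0.1 hA0.2.1.1 hBNA0
  have hA0T : A0 ≤ T := le_inf hA0.1 hA0L
  have hAET : ∀ A, A ∈ AE p T ↔ A ∈ AE p (S : Subgroup G) ∧ A ≤ T :=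
    fun A => mem_AE_sub_iff hTS hA0 hA0T
  have hJTS : JE p T ≤ JE p (S : Subgroup G) :=
    sSup_le (fun A hA => le_sSup ((hAET A).1 hA).1)
  -- `B` centralizes `J(T)`
  have hBcJ : B ≤ centralizer (JE p T : Set G) := by
    conv_lhs => rw [← hB1]
    unfold normalClosure
    rw [closure_le]
    intro y hy
    rw [Group.mem_conjugatesOfSet_iff] at hy
    obtain ⟨x, hx, hxy⟩ := hy
    rw [isConj_iff] at hxy
    obtain ⟨g, rfl⟩ := hxy
    have hg : g ∈ normalizer (T : Set G) ⊔ L := by rw [hfr]; trivial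
    rw [mem_sup_of_normal_right] at hg
    obtain ⟨n', hn', l, hl, rfl⟩ := hg
    have h1 : l * x * l⁻¹ ∈ Z ⊓ B := (mem_normalizer_iff.1 (hLN1 hl) x).1 hx
    have h2 : n' * l * x * (n' * l)⁻¹ = n' * (l * x * l⁻¹) * n'⁻¹ := by group
    rw [h2, SetLike.mem_coe, mem_centralizer_iff]
    intro j hj
    have hj' : n'⁻¹ * j * n'⁻¹⁻¹ ∈ JE p T :=
      (mem_normalizer_iff.1 ((normalizer _).inv_mem (normalizer_le_JE p T hn')) j).1 hj
    have h3 := mem_centralizer_iff.1 h1.1.2 _ (hJTS hj')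
    calc j * (n' * (l * x * l⁻¹) * n'⁻¹)
        = n' * ((n'⁻¹ * j * n'⁻¹⁻¹) * (l * x * l⁻¹)) * n'⁻¹ := by group
      _ = n' * ((l * x * l⁻¹) * (n'⁻¹ * j * n'⁻¹⁻¹)) * n'⁻¹ := by rw [h3]
      _ = n' * (l * x * l⁻¹) * n'⁻¹ * j := by group
  -- `V = Ω₁(B)`
  let V : Subgroup G :=
    { carrier := {b | b ∈ B ∧ b ^ p = 1}
      one_mem' := ⟨B.one_mem, one_pow _⟩
      mul_mem' := by
        rintro x y ⟨hx, hx1⟩ ⟨hy, hy1⟩
        exact ⟨B.mul_mem hx hy, by rw [hpow x hx y hy, hx1, hy1, one_mul]⟩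
      inv_mem' := by
        rintro x ⟨hx, hx1⟩
        exact ⟨B.inv_mem hx, by rw [inv_pow, hx1, inv_one]⟩ }
  have hVn : V.Normal :=
    ⟨fun x hx g => ⟨hBnorm.conj_mem x hx.1 g, by rw [conj_pow, hx.2]; group⟩⟩
  have hVB : V ≤ B := fun x hx => hx.1
  have hVp : IsPGroup p V := hBp.to_le hVB
  have hVZT : V ≤ ZE p T := by
    intro v hv
    exact mem_ZE_iff'.2 ⟨hBT hv.1, hv.2, hBcJ hv.1⟩
  have hCV : centralizer (V : Set G) ≤ N1 := by
    have h1 : centralizer (V : Set G) ≤ centralizer (B : Set G) ⊔ (S : Subgroup G) := by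
      apply le_sup_sylow S inferInstance inferInstance
      intro k hk
      obtain ⟨n, m, hm, hkm⟩ :=
        Nat.exists_eq_pow_mul_and_not_dvd (orderOf_pos k).ne' p hpp.ne_one
      refine ⟨n, ?_⟩
      rw [mem_centralizer_iff]
      intro b hb
      have hk' : k ^ p ^ n ∈ centralizer (V : Set G) := pow_mem hk _
      have h2 := centralizes_of_omega (p := p) (B := B) (k := k ^ p ^ n) (m := m)
        ((Nat.Prime.coprime_iff_not_dvd hpp).2 hm).symm
        (by rw [← pow_mul, ← hkm, pow_orderOf_eq_one])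
        (fun b hb => hBnorm.conj_mem b hb _) hpow
        (fun v hvB hvp => by
          have h3 := mem_centralizer_iff.1 hk' v ⟨hvB, hvp⟩
          rw [← h3]; group)
      obtain ⟨i, hi⟩ := hBp ⟨b, hb⟩
      have hi' : b ^ p ^ i = 1 := congrArg Subtype.val hi
      have h3 := h2 i b hb hi'
      rw [mul_inv_eq_iff_eq_mul] at h3
      exact h3.symm
    exact h1.trans (sup_le hCN1 hSN1)
  have hAV : ∀ A ∈ AE p (S : Subgroup G), V ≤ A := by
    by_contra hcon
    push Not at hcon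
    obtain ⟨A1, hA1, hA1V⟩ := hcon
    obtain ⟨A, ⟨hA, hAV⟩, hmax⟩ := Set.exists_max_image
      {A : Subgroup G | A ∈ AE p (S : Subgroup G) ∧ ¬ V ≤ A}
      (fun A => Nat.card (A ⊓ V : Subgroup G)) (Set.toFinite _) ⟨A1, hA1, hA1V⟩
    by_cases hVNA : V ≤ normalizer (A : Set G)
    · have hAL : A ≤ L := hquadL V hVn hVp hCV A hA.1 hA.2.1.1 hVNA
      have hAT : A ∈ AE p T := (hAET A).2 ⟨hA, le_inf hA.1 hAL⟩
      exact hAV (hVZT.trans (ZE_le_of_mem hAT))
    · obtain ⟨A', hA'S, hA'PE, hcard, hlt, hA'N⟩ := replacement hp S.2 (hVB.trans hBS)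
        (fun s _ x hx => hVn.conj_mem x hx s) hA.1 (Or.inr hpodd) hA.2.1
        (fun x hx y hy => by
          have h1 : x * y = y * x := (ZE_PE p T).1 x (hVZT hx) y (hVZT hy)
          have h2 : x * y * x⁻¹ * y⁻¹ = 1 := by rw [h1]; group
          rw [h2]
          exact A.one_mem) hVNA
      have hA'mem : A' ∈ AE p (S : Subgroup G) :=
        ⟨hA'S, hA'PE, fun C hC hC' => (hA.2.2 C hC hC').trans (le_of_eq hcard.symm)⟩
      have hVA' : V ≤ A' := by
        by_contra hcon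
        exact hlt.ne (eq_of_le_of_card_ge hlt.le (hmax A' ⟨hA'mem, hcon⟩))
      exact hVNA (hVA'.trans hA'N)
  have hall : ∀ A ∈ AE p (S : Subgroup G), A ≤ L := by
    intro A hA
    have h1 : A ≤ centralizer (V : Set G) :=
      fun a ha => mem_centralizer_iff.2 (fun v hv => hA.2.1.1 v (hAV A hA hv) a ha)
    exact h1.trans (normal_le_normalCore.2 hCV)
  have hZT : ZJ p T = Z := ZJ_eq_of_forall_le hTS (fun A hA => le_inf hA.1 (hall A hA))
  rw [← Subgroup.normalizer_eq_top_iff, eq_top_iff, ← hfr]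
  refine sup_le ?_ hLN1
  intro g hg
  apply Cfsg.Agent.Lib.Helper15.Repl.mem_normalizer_of_conj
  intro x hx
  refine ⟨?_, hBnorm.conj_mem x hx.2 g⟩
  rw [← hZT]
  apply conj_mem_ZJ hg
  rw [hZT]
  exact hx.1

theorem inf_normal [Finite G] {p : ℕ} [Fact p.Prime] (hp : p ≠ 2)
    (S : Sylow p G) (hst : PStab p (S : Subgroup G))
    (B : Subgroup G) (hB : B.Normal) (hBp : IsPGroup p B) :
    (ZJ p (S : Subgroup G) ⊓ B).Normal :=
  inf_normal_aux hp S hst _ B rfl hB hBp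

/-- abstract ZJ-theorem for the full centre of the elementary abelian Thompson subgroup. -/
theorem ZJ_normal [Finite G] {p : ℕ} [Fact p.Prime] (hp : p ≠ 2)
    (S : Sylow p G) (hst : PStab p (S : Subgroup G))
    {Q : Subgroup G} (hQ : Q.Normal) (hQp : IsPGroup p Q)
    (hc : Subgroup.centralizer (Q : Set G) ≤ Q) : (ZJ p (S : Subgroup G)).Normal := by
  set Z := ZJ p (S : Subgroup G) with hZ
  have hQS : Q ≤ S := hQp.le_sylow_of_normal S
  have hZS : Z ≤ S := ZJ_le p _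
  have hQN : Q ≤ Subgroup.normalizer (Z : Set G) :=
    (hQS.trans Subgroup.le_normalizer).trans (normalizer_le_ZJ p _)
  have hcl : Subgroup.normalClosure (Z : Set G) ≤ S := by
    unfold Subgroup.normalClosure
    rw [Subgroup.closure_le]
    intro y hy
    rw [Group.mem_conjugatesOfSet_iff] at hy
    obtain ⟨z, hz, hzy⟩ := hy
    rw [isConj_iff] at hzy
    obtain ⟨g, rfl⟩ := hzy
    obtain ⟨K, hK, hzK, hKp⟩ := hst Q hQ hQp z (hZS hz)
      (quad_of_normalizes (fun x hx y hy => ZJ_comm hx hy) hQN hz)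
    have h1 : K ≤ Subgroup.centralizer (Q : Set G) ⊔ (S : Subgroup G) :=
      le_sup_sylow S hK inferInstance hKp
    exact (h1.trans (sup_le (hc.trans hQS) le_rfl)) (hK.conj_mem z hzK g)
  have h := inf_normal hp S hst _ Subgroup.normalClosure_normal (S.2.to_le hcl)
  rwa [inf_of_le_left Subgroup.le_normalClosure] at h

end Cfsg.Agent.Lib.Helper1.ZJe
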