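import Cfsg.Agent.Lib.Helper1.ZJeNPC
import Cfsg.Agent.Lib.Helper68.SFMain
import Cfsg.Agent.Lib.Helper14.PStableReduction
import Cfsg.Agent.Lib.Helper14.QuadAbstract
import Cfsg.Agent.S0274

set_option autoImplicit false

/-! `N(Z(J_e(P)))` controls strong fusion in `P` for `SL₂(p)`-free groups, `p` odd. -/

namespace Cfsg.Agent.Lib.Helper1.ZJe

open Subgroup Cfsg Cfsg.Agent.Lib.Helper15.ZJ Cfsg.Agent.Lib.Helper40 Cfsg.Agent.Lib.Helper68

universe u

/-- type-level functor `Q ↦ Z(J_e(Q))`. -/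
def WJ (p : ℕ) (Q : Type u) [Group Q] : Subgroup Q := ZJ p (⊤ : Subgroup Q)

theorem WJ_map {p : ℕ} {Q R : Type u} [Group Q] [Group R] (φ : Q ≃* R) :
    (WJ p Q).map φ.toMonoidHom = WJ p R := by
  have h1 := ZJ_map p φ.toMonoidHom (⊤ : Subgroup Q) φ.injective.injOn
  have h2 : (⊤ : Subgroup Q).map φ.toMonoidHom = ⊤ := by
    rw [← MonoidHom.range_eq_map]
    exact MonoidHom.range_eq_top.2 φ.surjective
  rw [h2] at h1
  exact h1.symm

theorem WJ_isCharPFunctor {p : ℕ} [Fact p.Prime] : IsCharPFunctor.{u} p (WJ p) := by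
  refine ⟨?_, ?_⟩
  · intro Q _ _ hQ hnt
    exact ZJ_ne_bot (R := (⊤ : Subgroup Q)) (hQ.to_subgroup _) top_ne_bot
  · intro Q R _ _ _ _ φ
    exact WJ_map φ

theorem ind_WJ {G : Type u} [Group G] (p : ℕ) (T : Subgroup G) :
    inducedFunctor (WJ p) T = ZJ p T := by
  unfold inducedFunctor WJ
  rw [← ZJ_map p T.subtype _ T.subtype_injective.injOn, map_top_subtype]

theorem pStab_of_sl2_free {p : ℕ} [Fact p.Prime] (hp : p ≠ 2) {X : Type u} [Group X] [Finite X]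
    (h : ¬ Involves (Matrix.SpecialLinearGroup (Fin 2) (ZMod p)) X) (S : Subgroup X) :
    PStab p S := by
  intro V hV hVp a _ hq
  have hD : Cfsg.Agent.Lib.Helper14.DicksonLite p :=
    fun F _ _ _ R hR => Cfsg.Agent.S0274.result p hp R hR
  exact Cfsg.Agent.Lib.Helper14.exists_normal_of_quadratic
    (fun Γ _ => ¬ Involves (Matrix.SpecialLinearGroup (Fin 2) (ZMod p)) Γ)
    (fun Γ _ N _ h h' => h (Cfsg.Agent.Lib.Helper14.involves_of_quotient _ h'))
    (fun Γ _ _ h V _ hV => Cfsg.Agent.Lib.Helper14.isPStableOn_of_not_involves hD V hV h)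
    _ X V rfl hVp h a hq

theorem WJ_good {p : ℕ} [Fact p.Prime] (hp : p ≠ 2) {G : Type u} [Group G] [Finite G]
    (hfree : ¬ Involves (Matrix.SpecialLinearGroup (Fin 2) (ZMod p)) G) : SFGood p (WJ p) G :=
  sfGood_of_local WJ_isCharPFunctor
    (fun X _ _ hX hC T => by
      rw [ind_WJ]
      exact ZJ_normal hp T (pStab_of_sl2_free hp (not_involves_of_isSec hX hfree) _)
        (Q := pCore p X) inferInstance Cfsg.Agent.Lib.Helper14.isPGroup_pCore hC)
    G (IsSec.refl G)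

/-- moving `ControlsStrongFusion` to a prescribed Sylow subgroup containing `U` as a weakly closed
(here: functorial) subgroup. -/
theorem csfo_of_csf {p : ℕ} [Fact p.Prime] {G : Type u} [Group G] [Finite G] (P : Sylow p G)
    {U : Subgroup G} (hUP : U ≤ P) (h : ControlsStrongFusion p U) (A : Set G)
    (hA : A ⊆ (P : Subgroup G)) :
    ControlsStrongFusionOf (normalizer (U : Set G)) (P : Subgroup G) A := by
  obtain ⟨T, hUT, hctl⟩ := h
  obtain ⟨x, rfl⟩ := MulAction.exists_smul_eq G P T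
  have hmem : ∀ y : G, y ∈ (P : Subgroup G) → x * y * x⁻¹ ∈ ((x • P : Sylow p G) : Subgroup G) := by
    intro y hy
    exact ⟨y, hy, rfl⟩
  have hmem' : ∀ y : G, x * y * x⁻¹ ∈ ((x • P : Sylow p G) : Subgroup G) → y ∈ (P : Subgroup G) := by
    rintro y ⟨z, hz, hzy⟩
    have h1 : x * z * x⁻¹ = x * y * x⁻¹ := hzy
    have h2 : z = y := by
      have := congrArg (fun t => x⁻¹ * t * x) h1
      simpa [mul_assoc] using this
    rw [← h2]
    exact hz
  -- `x` normalizes `U`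
  have hxU : x ∈ normalizer (U : Set G) := by
    obtain ⟨-, h2⟩ := hctl (U : Set G) hUT
    obtain ⟨n, hn, hna⟩ := h2 x (by
      rintro _ ⟨u, hu, rfl⟩
      exact hmem u (hUP hu))
    apply Cfsg.Agent.Lib.Helper15.Repl.mem_normalizer_of_conj
    intro u hu
    rw [hna u hu]
    exact (mem_normalizer_iff.1 hn u).1 hu
  refine ⟨hA, fun g hg => ?_⟩
  obtain ⟨-, h2⟩ := hctl ((fun a => x * a * x⁻¹) '' A) (by
    rintro _ ⟨a, ha, rfl⟩
    exact hmem a (hA ha))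
  obtain ⟨n, hn, hna⟩ := h2 (x * g * x⁻¹) (by
    rintro _ ⟨_, ⟨a, ha, rfl⟩, rfl⟩
    have h3 : x * g * x⁻¹ * (x * a * x⁻¹) * (x * g * x⁻¹)⁻¹ = x * (g * a * g⁻¹) * x⁻¹ := by group
    change x * g * x⁻¹ * (x * a * x⁻¹) * (x * g * x⁻¹)⁻¹ ∈ _
    rw [h3]
    exact hmem _ (hg ⟨a, ha, rfl⟩))
  refine ⟨x⁻¹ * n * x, (normalizer _).mul_mem ((normalizer _).mul_mem ((normalizer _).inv_mem hxU) hn)
    hxU, fun a ha => ?_⟩
  have h3 := hna (x * a * x⁻¹) ⟨a, ha, rfl⟩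
  calc g * a * g⁻¹ = x⁻¹ * (x * g * x⁻¹ * (x * a * x⁻¹) * (x * g * x⁻¹)⁻¹) * x := by group
    _ = x⁻¹ * (n * (x * a * x⁻¹) * n⁻¹) * x := by rw [h3]
    _ = x⁻¹ * n * x * a * (x⁻¹ * n * x)⁻¹ := by group

theorem ZJ_controls {p : ℕ} [Fact p.Prime] (hp : p ≠ 2) {G : Type u} [Group G] [Finite G]
    (hfree : ¬ Involves (Matrix.SpecialLinearGroup (Fin 2) (ZMod p)) G) (P : Sylow p G) (A : Set G)
    (hA : A ⊆ (P : Subgroup G)) :
    ControlsStrongFusionOf (normalizer (ZJ p (P : Subgroup G) : Set G)) (P : Subgroup G) A := by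
  have h := WJ_good hp hfree P
  rw [ind_WJ] at h
  exact csfo_of_csf P (ZJ_le p _) h A hA

end Cfsg.Agent.Lib.Helper1.ZJe
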