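import Cfsg.Agent.Lib.Helper1.ZJe
import Cfsg.Agent.Lib.Helper62.ZJComplement
import Cfsg.Agent.Lib.Helper15.ZJBridge

set_option autoImplicit false

/-! Glauberman-Thompson normal `p`-complement theorem for the full centre `Z(J_e(P))`, and the bridge
to `Cfsg.centerThompsonOf`. -/

namespace Cfsg.Agent.Lib.Helper1.ZJe

open Subgroup Cfsg.Agent.Lib.Helper15.ZJ Cfsg.Agent.Lib.Helper1.Off Cfsg.Agent.Lib.Helper62
  Cfsg.Agent.Lib.Helper77

universe u

theorem centerThompsonOf_eq {G : Type*} [Group G] (p : ℕ) (P : Subgroup G) :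
    Cfsg.centerThompsonOf p P = ZJ p P := by
  unfold Cfsg.centerThompsonOf
  rw [thompsonSubgroupOf_eq]
  rfl

theorem ZJ_ne_bot {p : ℕ} [hp : Fact p.Prime] {X : Type*} [Group X] [Finite X]
    {R : Subgroup X} (hR : IsPGroup p R) (hne : R ≠ ⊥) : ZJ p R ≠ ⊥ := by
  intro h
  apply ZE_ne_bot (e := p) (Or.inr rfl) hR hne
  rw [eq_bot_iff, ← h]
  exact ZE_le_ZJ p R

/-- Glauberman-Thompson for `Z(J_e(P))`. -/
theorem npc_of_npc_normalizer_ZJ {p : ℕ} [hp : Fact p.Prime] (hp2 : p ≠ 2)
    {G : Type u} [Group G] [Finite G] (P : Sylow p G)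
    (hN : NPC p (normalizer (ZJ p (P : Subgroup G) : Set G))) : NPC p G := by
  have F : Frame p (fun (X : Type u) _ => True)
      (fun X _ R => NPC p (normalizer (ZJ p R : Set X))) :=
    { sub := fun _ _ _ _ => trivial
      quot := fun _ _ _ _ _ => trivial
      loc := by
        intro X _ _ _ R hR h
        refine h _ (ZJ_le p _) (ZJ_ne_bot R.2 hR) ?_
        intro Z _ _ i hi
        rw [← ZJ_map p i _ hi.injOn]
        exact normalizer_le_ZJ p _
      res := by
        intro X _ _ Y R hRY h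
        apply npc_normalizer_of_injective Y.subtype Y.subtype_injective
        rw [← ZJ_map p Y.subtype _ Y.subtype_injective.injOn, subgroupOf_map_subtype,
          inf_of_le_left hRY]
        exact h
      pquot := by
        intro X _ _ D _ hD R h
        rw [ZJ_map p _ _ (injOn_mk'_of_coprime D hD R.2)]
        exact npc_normalizer_quot D hD (R.2.to_le (ZJ_le p _)) h
      fin := by
        intro X _ _ _ hH hC hq hco
        obtain ⟨T⟩ : Nonempty (Sylow p X) := inferInstance
        obtain ⟨K, hPAP⟩ := exists_PAP (Cfsg.pCore p X) Cfsg.Agent.Lib.Helper14.isPGroup_pCore hq T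
          (hco T)
        have hn := ZJ_normal hp2 T (hPAP.pStab hp2 _) (Q := Cfsg.pCore p X) inferInstance
          Cfsg.Agent.Lib.Helper14.isPGroup_pCore hC
        exact NPC.of_eq_top (normalizer_eq_top_iff.2 hn) (hH T) }
  apply F.main _ G rfl trivial
  intro T
  obtain ⟨g, rfl⟩ := MulAction.exists_smul_eq G P T
  have h1 : ((g • P : Sylow p G) : Subgroup G) = (P : Subgroup G).map (MulAut.conj g).toMonoidHom := rfl
  rw [h1, ZJ_map p _ _ (MulAut.conj g).injective.injOn,
    ← map_normalizer_eq_of_bijective _ (MulAut.conj g).bijective]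
  exact NPC.of_mulEquiv (equivMapOfInjective _ _ (MulAut.conj g).injective) hN

end Cfsg.Agent.Lib.Helper1.ZJe
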